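import Groth.Agent.Hopf.Unipotent

/-!
# Points of unipotent groups: binomial series, powers
-/

set_option autoImplicit false
set_option linter.unusedSectionVars false

universe u v w

open TensorProduct WithConv Groth.ComodLib Polynomial

noncomputable section

namespace Groth.Misc1.Unip

variable {k : Type u} [Field k] {A : Type v} [CommRing A] [Bialgebra k A]
  {C : Type w} [CommRing C] [Algebra k C]

/-- convolution powers of an infinitesimal measure kill the fixed series -/
theorem convPow_fixSeries (D : WithConv (A →ₗ[k] C)) (h1 : D.ofConv 1 = 0) :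
    ∀ (i m : ℕ) (a : A), a ∈ fixSeries k A A m → m ≤ i → (D ^ i).ofConv a = 0 := by
  intro i
  induction i with
  | zero =>
    intro m a ha hm
    obtain rfl : m = 0 := Nat.le_zero.1 hm
    rw [(Submodule.mem_bot k).1 ha, map_zero]
  | succ i ih =>
    intro m a ha hm
    rcases m with _ | m
    · rw [(Submodule.mem_bot k).1 ha, map_zero]
    · obtain ⟨z, hz⟩ := mem_fixSeries_succ_iff_coact.1 ha
      replace hz : Coalgebra.comul (R := k) a = a ⊗ₜ[k] (1 : A) + (fixSeries k A A m).subtype.rTensor A z := by
        rw [hz]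
        change _ = _ + (Coalgebra.comul (R := k) a - _)
        rw [add_sub_cancel]
      rw [pow_succ]
      change LinearMap.mul' k C (TensorProduct.map (D ^ i).ofConv D.ofConv (Coalgebra.comul (R := k) a)) = 0
      rw [hz, map_add, TensorProduct.map_tmul, h1, TensorProduct.tmul_zero, zero_add]
      clear hz
      induction z using TensorProduct.induction_on with
      | zero => simp
      | tmul p r =>
        rw [LinearMap.rTensor_tmul, TensorProduct.map_tmul, Submodule.subtype_apply, ih m p p.2 (by omega),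
          TensorProduct.zero_tmul, map_zero]
      | add p r hp hr => rw [map_add, map_add, map_add, hp, hr, add_zero]

/-- the linear form of a point minus the counit -/
def dev (g : WithConv (A →ₐ[k] C)) : WithConv (A →ₗ[k] C) := toConv g.ofConv.toLinearMap - 1

theorem dev_one (g : WithConv (A →ₐ[k] C)) : (dev g).ofConv 1 = 0 := by
  simp [dev]

/-- binomial formula for powers of a point -/
theorem pow_apply_eq (g : WithConv (A →ₐ[k] C)) (n : ℕ) {m : ℕ} {a : A} (ha : a ∈ fixSeries k A A m) :
    (g ^ n).ofConv a = ∑ i ∈ Finset.range m, (n.choose i : C) * ((dev g) ^ i).ofConv a := by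
  have h1 : toConv (g ^ n).ofConv.toLinearMap = (dev g + 1) ^ n := by
    rw [AlgHom.toLinearMap_convPow, dev, sub_add_cancel]
  have h2 : (g ^ n).ofConv a = (toConv (g ^ n).ofConv.toLinearMap).ofConv a := rfl
  rw [h2, h1, (Commute.one_right (dev g)).add_pow n]
  have h3 : ∀ i, ((dev g) ^ i * 1 ^ (n - i) * (n.choose i : WithConv (A →ₗ[k] C))).ofConv a =
      (n.choose i : C) * ((dev g) ^ i).ofConv a := by
    intro i
    rw [one_pow, mul_one, ← Nat.cast_comm, ← nsmul_eq_mul, ← nsmul_eq_mul]
    exact map_nsmul (LinearMap.applyₗ a ∘ₗ (WithConv.linearEquiv k (A →ₗ[k] C)).toLinearMap) _ _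
  have h4 : (∑ i ∈ Finset.range (n + 1), (dev g) ^ i * 1 ^ (n - i) * (n.choose i : WithConv (A →ₗ[k] C))).ofConv a =
      ∑ i ∈ Finset.range (n + 1), (n.choose i : C) * ((dev g) ^ i).ofConv a := by
    refine (map_sum (LinearMap.applyₗ a ∘ₗ (WithConv.linearEquiv k (A →ₗ[k] C)).toLinearMap) _ _).trans ?_
    exact Finset.sum_congr rfl fun i _ => h3 i
  rw [h4]
  rcases le_total m (n + 1) with hmn | hmn
  · symm
    refine Finset.sum_subset (Finset.range_mono hmn) fun i _ hi => ?_
    rw [convPow_fixSeries (dev g) (dev_one g) i m a ha (not_lt.1 fun h => hi (Finset.mem_range.2 h)), mul_zero]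
  · refine Finset.sum_subset (Finset.range_mono hmn) fun i _ hi => ?_
    rw [Nat.choose_eq_zero_of_lt (by simpa using hi), Nat.cast_zero, zero_mul]

/-- a finitely generated coordinate ring is generated inside one term of the fixed series -/
theorem exists_gen_fixSeries [Algebra.FiniteType k A] (hex : ∀ a : A, ∃ m, a ∈ fixSeries k A A m) :
    ∃ (s : Finset A) (m : ℕ), Algebra.adjoin k (s : Set A) = ⊤ ∧ ∀ a ∈ s, a ∈ fixSeries k A A m := by
  classical
  obtain ⟨s, hs⟩ := (Algebra.FiniteType.out : (⊤ : Subalgebra k A).FG)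
  choose f hf using hex
  exact ⟨s, s.sup f, hs, fun a ha => fixSeries_mono (Finset.le_sup ha) (hf a)⟩

/-- in characteristic `p` the points have exponent a power of `p` -/
theorem exists_pow_eq_one [Algebra.FiniteType k A] (hex : ∀ a : A, ∃ m, a ∈ fixSeries k A A m)
    (p : ℕ) [Fact p.Prime] [CharP C p] :
    ∃ N : ℕ, ∀ g : WithConv (A →ₐ[k] C), g ^ p ^ N = 1 := by
  obtain ⟨s, m, hs, hm⟩ := exists_gen_fixSeries hex
  refine ⟨m, fun g => WithConv.ofConv_injective (AlgHom.ext_of_adjoin_eq_top hs fun a ha => ?_)⟩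
  rw [pow_apply_eq g _ (fixSeries_mono (Nat.le_succ m) (hm a ha)), Finset.sum_range_succ']
  have : ∀ i ∈ Finset.range m, ((p ^ m).choose (i + 1) : C) * ((dev g) ^ (i + 1)).ofConv a = 0 := by
    intro i hi
    have hp := (Fact.out : p.Prime)
    have hne : i + 1 ≠ p ^ m := by
      have h1 := Finset.mem_range.1 hi
      have h2 : m < p ^ m := Nat.lt_pow_self hp.one_lt
      omega
    rw [(CharP.cast_eq_zero_iff C p _).2 (hp.dvd_choose_pow (Nat.succ_ne_zero i) hne), zero_mul]
  rw [Finset.sum_eq_zero this, zero_add, Nat.choose_zero_right, Nat.cast_one, one_mul, pow_zero]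
  simp

section CharZero

variable [CharZero k]

theorem exists_poly (hex : ∀ a : A, ∃ m, a ∈ fixSeries k A A m) (g : WithConv (A →ₐ[k] k)) (a : A) :
    ∃ P : k[X], ∀ n : ℕ, P.eval (n : k) = (g ^ n).ofConv a := by
  obtain ⟨m, hm⟩ := hex a
  refine ⟨∑ i ∈ Finset.range m, C (((dev g) ^ i).ofConv a / (i.factorial : k)) * descPochhammer k i, fun n => ?_⟩
  rw [pow_apply_eq g n hm, eval_finsetSum]
  refine Finset.sum_congr rfl fun i _ => ?_
  rw [eval_mul, eval_C, descPochhammer_eval_eq_descFactorial, Nat.descFactorial_eq_factorial_mul_choose,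
    Nat.cast_mul]
  field_simp [Nat.cast_ne_zero.2 i.factorial_ne_zero]

theorem aeval_scale (P : k[X]) (e : ℕ) (t : k) :
    aeval t (aeval ((e : k[X]) * X) P) = aeval ((e : k) * t) P := by
  rw [← Polynomial.aeval_algHom_apply]
  simp

theorem poly_ext {P Q : k[X]} (h : ∀ n : ℕ, P.eval (n : k) = Q.eval (n : k)) : P = Q :=
  eq_of_infinite_eval_eq P Q ((Set.infinite_range_of_injective (Nat.cast_injective (R := k))).mono
    (by rintro _ ⟨n, rfl⟩; exact h n))

variable (hex : ∀ a : A, ∃ m, a ∈ fixSeries k A A m)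

/-- the one-parameter subgroup through a point -/
def oneParam (g : WithConv (A →ₐ[k] k)) : A →ₐ[k] k[X] where
  toFun a := (exists_poly hex g a).choose
  map_one' := poly_ext fun n => by rw [(exists_poly hex g 1).choose_spec, map_one, eval_one]
  map_mul' a b := poly_ext fun n => by
    rw [(exists_poly hex g _).choose_spec, eval_mul, (exists_poly hex g _).choose_spec,
      (exists_poly hex g _).choose_spec, map_mul]
  map_zero' := poly_ext fun n => by rw [(exists_poly hex g 0).choose_spec, map_zero, eval_zero]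
  map_add' a b := poly_ext fun n => by
    rw [(exists_poly hex g _).choose_spec, eval_add, (exists_poly hex g _).choose_spec,
      (exists_poly hex g _).choose_spec, map_add]
  commutes' c := poly_ext fun n => by
    rw [(exists_poly hex g _).choose_spec, AlgHom.commutes, Polynomial.algebraMap_apply, eval_C]

/-- evaluation of a one-parameter subgroup -/
def evalParam (g : WithConv (A →ₐ[k] k)) (t : k) : WithConv (A →ₐ[k] k) :=
  toConv ((aeval t).comp (oneParam hex g))

theorem evalParam_natCast (g : WithConv (A →ₐ[k] k)) (n : ℕ) : evalParam hex g (n : k) = g ^ n := by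
  refine WithConv.ofConv_injective (AlgHom.ext fun a => ?_)
  change aeval (n : k) (exists_poly hex g a).choose = _
  rw [← (exists_poly hex g a).choose_spec n]
  rfl

theorem comp_pow {D : Type*} [CommRing D] [Algebra k D] (h : C →ₐ[k] D) (f : WithConv (A →ₐ[k] C)) :
    ∀ e : ℕ, toConv (h.comp (f ^ e).ofConv) = toConv (h.comp f.ofConv) ^ e
  | 0 => WithConv.ofConv_injective (AlgHom.ext fun a => by simp)
  | e + 1 => by
    rw [pow_succ, pow_succ, ← comp_pow h f e]
    exact WithConv.ofConv_injective (AlgHom.comp_convMul_distrib h (f ^ e) f)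

theorem evalParam_mul_nat (g : WithConv (A →ₐ[k] k)) (e : ℕ) (t : k) :
    evalParam hex g t ^ e = evalParam hex g (e * t) := by
  have key : (toConv (oneParam hex g) ^ e).ofConv = (aeval ((e : k[X]) * X)).comp (oneParam hex g) := by
    refine AlgHom.ext fun a => poly_ext fun n => ?_
    have h1 := comp_pow (aeval (n : k)) (toConv (oneParam hex g)) e
    have h2 := evalParam_natCast hex g n
    have h3 := evalParam_natCast hex g (n * e)
    rw [WithConv.ofConv_toConv] at h1
    change aeval (n : k) ((toConv (oneParam hex g) ^ e).ofConv a) = _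
    rw [show aeval (n : k) ((toConv (oneParam hex g) ^ e).ofConv a) =
        (toConv ((aeval (n : k)).comp (toConv (oneParam hex g) ^ e).ofConv)).ofConv a from rfl, h1]
    rw [evalParam] at h2 h3
    rw [h2, ← pow_mul, ← h3]
    change aeval ((n * e : ℕ) : k) (oneParam hex g a) = aeval (n : k) (aeval ((e : k[X]) * X) (oneParam hex g a))
    rw [aeval_scale, Nat.cast_mul, mul_comm]
  have h1 := comp_pow (aeval t) (toConv (oneParam hex g)) e
  rw [WithConv.ofConv_toConv] at h1
  rw [evalParam, ← h1, key]
  refine WithConv.ofConv_injective (AlgHom.ext fun a => ?_)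
  change aeval t (aeval ((e : k[X]) * X) (oneParam hex g a)) = aeval ((e : k) * t) (oneParam hex g a)
  rw [aeval_scale]

theorem oneParam_pow (g : WithConv (A →ₐ[k] k)) (e : ℕ) :
    oneParam hex (g ^ e) = (aeval ((e : k[X]) * X)).comp (oneParam hex g) := by
  refine AlgHom.ext fun a => poly_ext fun n => ?_
  change (exists_poly hex (g ^ e) a).choose.eval (n : k) = aeval (n : k) (aeval ((e : k[X]) * X) (oneParam hex g a))
  rw [(exists_poly hex (g ^ e) a).choose_spec n, ← pow_mul, ← evalParam_natCast hex g (e * n),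
    aeval_scale, Nat.cast_mul]
  rfl

include hex in
theorem pow_bijective_of_charZero {e : ℕ} (he : e ≠ 0) :
    Function.Bijective fun g : WithConv (A →ₐ[k] k) => g ^ e := by
  have he' : (e : k) ≠ 0 := Nat.cast_ne_zero.2 he
  refine Function.bijective_iff_has_inverse.2 ⟨fun g => evalParam hex g (e : k)⁻¹, fun g => ?_, fun g => ?_⟩
  · change evalParam hex (g ^ e) (e : k)⁻¹ = g
    rw [evalParam, oneParam_pow]
    refine Eq.trans ?_ ((evalParam_natCast hex g 1).trans (pow_one g))
    refine WithConv.ofConv_injective (AlgHom.ext fun a => ?_)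
    change aeval (e : k)⁻¹ (aeval ((e : k[X]) * X) (oneParam hex g a)) = aeval ((1 : ℕ) : k) (oneParam hex g a)
    rw [aeval_scale, mul_inv_cancel₀ he', Nat.cast_one]
  · change evalParam hex g (e : k)⁻¹ ^ e = g
    rw [evalParam_mul_nat, mul_inv_cancel₀ he', ← Nat.cast_one, evalParam_natCast, pow_one]

end CharZero

end Groth.Misc1.Unip
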