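import Groth.Agent.Misc1.Unip.Primitive
import Mathlib.RingTheory.Coalgebra.GroupLike

/-!
# Unipotent versus multiplicative type
-/

set_option autoImplicit false
set_option linter.unusedSectionVars false

universe u v w

open TensorProduct WithConv Groth.ComodLib

noncomputable section

namespace Groth.Misc1.Unip

/-- the defect of primitivity -/
def primDefect (R : Type u) (A : Type v) [CommRing R] [CommRing A] [Bialgebra R A] :
    A →ₗ[R] A ⊗[R] A :=
  Coalgebra.comul - (TensorProduct.mk R A A).flip 1 - TensorProduct.mk R A A 1

theorem primDefect_apply {R : Type u} {A : Type v} [CommRing R] [CommRing A] [Bialgebra R A] (a : A) :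
    primDefect R A a = Coalgebra.comul (R := R) a - a ⊗ₜ[R] 1 - 1 ⊗ₜ[R] a := rfl

section BaseChange

variable {k : Type u} [CommRing k] {R : Type w} [CommRing R] [Algebra k R] {A : Type v} [CommRing A]
  [Bialgebra k A]

variable (R) in
/-- the inclusion into a base change -/
def incl : A →ₐ[k] R ⊗[k] A := Algebra.TensorProduct.includeRight

theorem incl_apply (a : A) : incl R a = (1 : R) ⊗ₜ[k] a := rfl

variable (k R A) in
/-- the comparison of tensor squares -/
def nat : A ⊗[k] A →ₐ[k] (R ⊗[k] A) ⊗[R] (R ⊗[k] A) :=
  Algebra.TensorProduct.lift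
    (((Algebra.TensorProduct.includeLeft : (R ⊗[k] A) →ₐ[R] _).restrictScalars k).comp (incl R))
    (((Algebra.TensorProduct.includeRight : (R ⊗[k] A) →ₐ[R] _).restrictScalars k).comp (incl R))
    (fun _ _ => Commute.all _ _)

theorem nat_tmul (a b : A) : nat k R A (a ⊗ₜ b) = incl R a ⊗ₜ[R] incl R b := by
  simp [nat, incl]

theorem comul_incl (a : A) :
    Coalgebra.comul (R := R) (incl R a) = nat k R A (Coalgebra.comul (R := k) a) := by
  rw [incl_apply, TensorProduct.comul_tmul, CommSemiring.comul_apply]
  induction Coalgebra.comul (R := k) a using TensorProduct.induction_on with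
  | zero => simp
  | tmul x y => simp [nat_tmul, incl, Algebra.TensorProduct.one_def]
  | add x y hx hy => simp only [TensorProduct.tmul_add, map_add, hx, hy]

theorem counit_incl (a : A) :
    Coalgebra.counit (R := R) (incl R a : R ⊗[k] A) = algebraMap k R (Coalgebra.counit (R := k) a) := by
  rw [incl_apply, TensorProduct.counit_tmul, CommSemiring.counit_apply, Algebra.smul_def, mul_one]

theorem smul_incl (r : R) (a : A) : r ⊗ₜ[k] a = r • (incl R a : R ⊗[k] A) := by
  simp [incl_apply, TensorProduct.smul_tmul']

end BaseChange

section Field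

variable {k : Type u} [Field k] {A : Type v} [CommRing A] [HopfAlgebra k A]

theorem primDefect_injective_of_span (h : HopfRep.IsDiagonalizable k A) :
    Function.Injective (primDefect k A) := by
  rw [injective_iff_map_eq_zero]
  intro y hy
  set G := {a : A | IsGroupLikeElem k a}
  have hb : LinearIndependent k (Subtype.val : G → A) := linearIndepOn_isGroupLikeElem (R := k) (A := A)
  let b := Module.Basis.mk hb (by rw [Subtype.range_coe]; exact h.ge)
  let one' : G := ⟨1, IsGroupLikeElem.one⟩
  have hb' : ∀ g : G, b g = (g : A) := fun g => Module.Basis.mk_apply hb _ g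
  have key : ∀ g : G, TensorProduct.map (b.coord g) (b.coord g) (primDefect k A y) =
      (b.coord g (y) * (1 - 2 * b.coord g 1)) • ((1 : k) ⊗ₜ[k] (1 : k)) := by
    intro g
    let L : A →ₗ[k] k ⊗[k] k := ((b.coord g).smulRight ((1 - 2 * b.coord g 1) • ((1 : k) ⊗ₜ[k] (1 : k))))
    have e : (TensorProduct.map (b.coord g) (b.coord g)) ∘ₗ primDefect k A = L := by
      refine b.ext fun j => ?_
      rw [LinearMap.comp_apply, primDefect_apply, hb', (j.2).comul_eq_tmul_self]
      simp only [map_sub, TensorProduct.map_tmul, L, LinearMap.smulRight_apply]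
      rw [← hb' j]
      classical
      by_cases hj : j = g
      · subst hj
        simp only [Module.Basis.coord_apply, Module.Basis.repr_self, Finsupp.single_eq_same, one_smul]
        rw [show ((1 : k) ⊗ₜ[k] b.repr 1 j) = b.repr 1 j • ((1 : k) ⊗ₜ[k] (1 : k)) by simp [← TensorProduct.tmul_smul],
          show (b.repr 1 j ⊗ₜ[k] (1 : k)) = b.repr 1 j • ((1 : k) ⊗ₜ[k] (1 : k)) by simp [TensorProduct.smul_tmul'],
          two_mul]
        module
      · simp [hj]
    rw [← LinearMap.comp_apply, e]
    simp [L, smul_smul]
  refine b.ext_elem fun g => ?_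
  rw [map_zero, Finsupp.zero_apply]
  have h2 := congrArg (TensorProduct.lid k k) (key g)
  rw [hy, map_zero, map_zero] at h2
  simp only [map_smul, TensorProduct.lid_tmul, smul_eq_mul, mul_one] at h2
  rcases mul_eq_zero.1 h2.symm with h3 | h3
  · exact h3
  · classical
    have h1 : b.coord g 1 = if one' = g then 1 else 0 := by
      have e1 : b one' = 1 := hb' one'
      conv_lhs => rw [← e1]
      rw [Module.Basis.coord_apply, Module.Basis.repr_self, Finsupp.single_apply]
    rw [h1] at h3
    split_ifs at h3
    · norm_num at h3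
    · simp at h3

theorem primDefect_baseChange (R : Type w) [CommRing R] [Algebra k R] (z : R ⊗[k] A) :
    (TensorProduct.AlgebraTensorModule.distribBaseChange k R A A)
      ((primDefect k A).lTensor R z) = primDefect R (R ⊗[k] A) z := by
  induction z using TensorProduct.induction_on with
  | zero => simp
  | add p q hp hq => simp only [map_add, hp, hq]
  | tmul r a =>
    have h : ∀ t : A ⊗[k] A, TensorProduct.AlgebraTensorModule.distribBaseChange k R A A (r ⊗ₜ[k] t) =
        r • nat k R A t := by
      intro t
      induction t using TensorProduct.induction_on with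
      | zero => simp
      | tmul p q => simp [nat_tmul, incl_apply, TensorProduct.smul_tmul']
      | add p q hp hq => rw [TensorProduct.tmul_add, map_add, map_add, hp, hq, smul_add]
    have h2 : r ⊗ₜ[k] a = r • incl R a := smul_incl r a
    rw [LinearMap.lTensor_tmul, h, h2, map_smul, primDefect_apply, primDefect_apply, map_sub, map_sub,
      comul_incl]
    congr 1
    simp [nat_tmul]

/-- a group of multiplicative type has no homomorphisms to the additive group over any algebra -/
theorem primDefect_injective_of_multType (K : Type w) [Field K] [Algebra k K]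
    (h : HopfRep.IsDiagonalizable K (K ⊗[k] A)) : Function.Injective (primDefect k A) := by
  rw [injective_iff_map_eq_zero]
  intro a ha
  have h1 : primDefect K (K ⊗[k] A) ((1 : K) ⊗ₜ[k] a) = 0 := by
    rw [← primDefect_baseChange, LinearMap.lTensor_tmul, ha, TensorProduct.tmul_zero, map_zero]
  have h2 := (injective_iff_map_eq_zero _).1 (primDefect_injective_of_span h) _ h1
  exact (Algebra.TensorProduct.includeRight_injective (algebraMap k K).injective :
    Function.Injective (Algebra.TensorProduct.includeRight : A →ₐ[k] K ⊗[k] A)) (by simpa using h2)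

theorem primDefect_injective_tensor (h : Function.Injective (primDefect k A)) (R : Type w) [CommRing R]
    [Algebra k R] : Function.Injective (primDefect R (R ⊗[k] A)) := by
  have h1 : Function.Injective ((primDefect k A).lTensor R) :=
    Module.Flat.lTensor_preserves_injective_linearMap _ h
  intro x y hxy
  refine h1 ((TensorProduct.AlgebraTensorModule.distribBaseChange k R A A).injective ?_)
  rw [primDefect_baseChange, primDefect_baseChange, hxy]

theorem mem_fixSeries_baseChange (K : Type w) [Field K] [Algebra k K] : ∀ (m : ℕ) (a : A),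
    a ∈ fixSeries k A A m → incl K a ∈ fixSeries K (K ⊗[k] A) (K ⊗[k] A) m
  | 0, a, ha => by
    rw [show a = 0 from (Submodule.mem_bot k).1 ha, map_zero]
    exact Submodule.zero_mem _
  | m + 1, a, ha => mem_fixSeries_succ_iff_coact.2 (by
    obtain ⟨z, hz⟩ := mem_fixSeries_succ_iff_coact.1 ha
    let F := fixSeries k A A m
    have hmem : nat k K A (F.subtype.rTensor A z) ∈
        LinearMap.range ((fixSeries K (K ⊗[k] A) (K ⊗[k] A) m).subtype.rTensor (K ⊗[k] A)) := by
      clear hz
      induction z using TensorProduct.induction_on with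
      | zero => simp
      | add p q hp hq => rw [map_add, map_add]; exact Submodule.add_mem _ hp hq
      | tmul p q =>
        exact ⟨⟨incl K (p : A), mem_fixSeries_baseChange K m p p.2⟩ ⊗ₜ[K] incl K q, by simp [nat_tmul]⟩
    rw [hz] at hmem
    change nat k K A (Coalgebra.comul (R := k) a - a ⊗ₜ[k] 1) ∈ _ at hmem
    rw [map_sub, ← comul_incl, show nat k K A (a ⊗ₜ[k] 1) = incl K a ⊗ₜ[K] 1 by simp [nat_tmul]] at hmem
    exact hmem)

/-- unipotence is stable under extension of the base field -/
theorem exhaustive_baseChange (K : Type w) [Field K] [Algebra k K]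
    (hex : ∀ a : A, ∃ m, a ∈ fixSeries k A A m) (z : K ⊗[k] A) :
    ∃ m, z ∈ fixSeries K (K ⊗[k] A) (K ⊗[k] A) m := by
  induction z using TensorProduct.induction_on with
  | zero => exact ⟨0, Submodule.zero_mem _⟩
  | tmul r a =>
    obtain ⟨m, hm⟩ := hex a
    refine ⟨m, ?_⟩
    rw [show r ⊗ₜ[k] a = r • incl K a from smul_incl r a]
    exact Submodule.smul_mem _ _ (mem_fixSeries_baseChange K m a hm)
  | add p q hp hq =>
    obtain ⟨m, hm⟩ := hp
    obtain ⟨n, hn⟩ := hq
    exact ⟨max m n, add_mem (fixSeries_mono (le_max_left m n) hm) (fixSeries_mono (le_max_right m n) hn)⟩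

end Field

/-- a unipotent group has no nontrivial characters -/
theorem groupLike_eq_one {K : Type u} [Field K] {B : Type v} [CommRing B] [Bialgebra K B]
    (hex : ∀ a : B, ∃ m, a ∈ fixSeries K B B m) {g : B} (hg : IsGroupLikeElem K g) : g = 1 := by
  have hne : g ≠ 0 := fun h => by simpa [h] using hg.counit_eq_one
  have hop : ∀ φ : B →ₗ[K] K, op (augL φ) g = (φ g - φ 1) • g := by
    intro φ
    rw [op_augL, op_apply]
    change slice φ (Coalgebra.comul (R := K) g) - _ = _
    rw [hg.comul_eq_tmul_self, slice_tmul, sub_smul]
  by_contra h1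
  obtain ⟨φ, hφ⟩ : ∃ φ : B →ₗ[K] K, φ g - φ 1 ≠ 0 := by
    by_contra hall
    push Not at hall
    exact h1 (sub_eq_zero.1 ((Module.forall_dual_apply_eq_zero_iff K (g - 1)).1 fun φ => by
      rw [map_sub]; exact hall φ))
  have : ∀ m, g ∉ fixSeries K B B m := by
    intro m
    induction m with
    | zero => exact fun h => hne ((Submodule.mem_bot K).1 h)
    | succ m ih =>
      intro h
      have h2 := mem_fixSeries_succ.1 h φ
      rw [hop] at h2
      exact ih ((Submodule.smul_mem_iff _ hφ).1 h2)
  obtain ⟨m, hm⟩ := hex g
  exact this m hm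

/-- a homomorphism from a group without additive characters to a unipotent group is trivial -/
theorem hom_trivial {k : Type u} [Field k] {AU : Type v} [CommRing AU] [HopfAlgebra k AU]
    (hex : ∀ a : AU, ∃ m, a ∈ fixSeries k AU AU m) {R : Type w} [CommRing R] [Algebra k R]
    {M : Type*} [CommRing M] [Bialgebra R M] (hM : Function.Injective (primDefect R M))
    (φ : R ⊗[k] AU →ₐc[R] M) (z : R ⊗[k] AU) :
    φ z = algebraMap R M (Coalgebra.counit (R := R) z) := by
  have key : ∀ (m : ℕ) (a : AU), a ∈ fixSeries k AU AU m →
      φ (incl R a) = algebraMap R M (algebraMap k R (Coalgebra.counit (R := k) a)) := by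
    intro m
    induction m with
    | zero =>
      intro a ha
      rw [(Submodule.mem_bot k).1 ha]
      simp
    | succ m ih =>
      intro a ha
      obtain ⟨w, hw⟩ := mem_fixSeries_succ_iff_coact.1 ha
      change _ = Coalgebra.comul (R := k) a - a ⊗ₜ[k] 1 at hw
      rw [eq_comm, sub_eq_iff_eq_add] at hw
      have hc : ∀ t : R ⊗[k] AU, TensorProduct.map (φ : R ⊗[k] AU →ₗ[R] M) (φ : R ⊗[k] AU →ₗ[R] M)
          (Coalgebra.comul (R := R) t) = Coalgebra.comul (R := R) (φ t) :=
        fun t => CoalgHomClass.map_comp_comul_apply φ t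
      obtain ⟨y, hy⟩ : ∃ y : M, TensorProduct.map (φ : R ⊗[k] AU →ₗ[R] M) (φ : R ⊗[k] AU →ₗ[R] M)
          (nat k R AU ((fixSeries k AU AU m).subtype.rTensor AU w)) = 1 ⊗ₜ[R] y := by
        clear hw
        induction w using TensorProduct.induction_on with
        | zero => exact ⟨0, by simp⟩
        | add p q hp hq =>
          obtain ⟨y1, h1⟩ := hp
          obtain ⟨y2, h2⟩ := hq
          exact ⟨y1 + y2, by rw [map_add, map_add, map_add, h1, h2, TensorProduct.tmul_add]⟩
        | tmul p q =>
          refine ⟨algebraMap k R (Coalgebra.counit (R := k) (p : AU)) • φ (incl R q), ?_⟩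
          rw [TensorProduct.tmul_smul, TensorProduct.smul_tmul', LinearMap.rTensor_tmul, Submodule.subtype_apply]
          rw [nat_tmul, TensorProduct.map_tmul]
          change φ (incl R (p : AU)) ⊗ₜ[R] φ (incl R q) = _
          rw [ih p p.2, Algebra.algebraMap_eq_smul_one]
      set x := φ (incl R a)
      have h1 : Coalgebra.comul (R := R) x = 1 ⊗ₜ[R] y + x ⊗ₜ[R] 1 := by
        rw [← hc, comul_incl, hw, map_add, map_add, hy]
        congr 1
        simp [nat_tmul, x]
      set c := algebraMap k R (Coalgebra.counit (R := k) a)
      have hεx : Coalgebra.counit (R := R) x = c := by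
        rw [CoalgHomClass.counit_comp_apply, counit_incl]
      have hy' : y = x - c • 1 := by
        have := congrArg (fun t => TensorProduct.lid R M ((Coalgebra.counit (R := R) (A := M)).rTensor M t)) h1
        simp [hεx] at this
        exact eq_sub_of_add_eq this.symm
      have h0 : primDefect R M (x - c • 1) = 0 := by
        rw [primDefect_apply, map_sub, h1, hy', map_smul, Bialgebra.comul_one, Algebra.TensorProduct.one_def,
          TensorProduct.sub_tmul, TensorProduct.tmul_sub, TensorProduct.smul_tmul', TensorProduct.tmul_smul,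
          TensorProduct.smul_tmul']
        abel
      have := hM (h0.trans (map_zero (primDefect R M)).symm)
      rw [sub_eq_zero] at this
      rw [this, Algebra.algebraMap_eq_smul_one]
  induction z using TensorProduct.induction_on with
  | zero => simp
  | tmul r a =>
    obtain ⟨m, hm⟩ := hex a
    have h2 : r ⊗ₜ[k] a = r • incl R a := smul_incl r a
    rw [h2, map_smul, map_smul, key m a hm, counit_incl, smul_eq_mul, map_mul, Algebra.smul_def]
  | add p q hp hq => simp only [map_add, hp, hq]

end Groth.Misc1.Unip
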