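import Groth.Agent.Misc1.Unip.AllSS
import Groth.Agent.AlgGrp1.BorelRigid
import Groth.Agent.AlgGrp1.BorelExist
import Groth.Agent.AlgGrp1.SmoothReduced
import Groth.Agent.AlgGrp2.AffinePts
import Groth.Agent.Misc7.AffineGroupPoints
import Groth.Agent.GrpschAbsch.GrpEtaleRel
import Groth.Prelude.Def_CoactBr

/-!
# Smooth connected affine groups all of whose points are semisimple are commutative
-/

set_option autoImplicit false
set_option linter.unusedSectionVars false

universe u

open CategoryTheory MonoidalCategory CartesianMonoidalCategory MonObj AlgebraicGeometry Limits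
open WithConv
open scoped TensorProduct commutatorElement

noncomputable section

namespace Groth.Misc1.Unip

attribute [local instance 100] convGrpC

variable {k : Type u} [Field k] [IsAlgClosed k]

/-- the point of the spectrum of an algebra attached to a point of the Hopf algebra -/
abbrev ptEquiv (S C : Type u) [CommRing S] [Bialgebra k S] [CommRing C] [Algebra k C] :
    WithConv (S →ₐ[k] C) ≃* (CoactBr.sp k C ⟶ CoactBr.sp k S) := Spec.mapMulEquiv

theorem sp_comp_unique {W : Over (Spec (CommRingCat.of k))} (f g : W ⟶ CoactBr.sp k k) : f = g := by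
  refine Over.OverMorphism.ext ?_
  have hf := Over.w f
  have hg := Over.w g
  have h : (CoactBr.sp k k).hom = 𝟙 (Spec (CommRingCat.of k)) := Spec.map_id (CommRingCat.of k)
  rw [h] at hf hg
  exact ((Category.comp_id _).symm.trans hf).trans ((Category.comp_id _).symm.trans hg).symm

/-- a reduced affine group of finite type over an algebraically closed field is smooth -/
theorem smooth_sp (S : Type u) [CommRing S] [HopfAlgebra k S] [Algebra.FiniteType k S] [_root_.IsReduced S] :
    Smooth (CoactBr.sp k S).hom := by
  let G := (Spec (CommRingCat.of S)).asOver (Spec (CommRingCat.of k))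
  have : LocallyOfFiniteType G.hom := AlgebraicGeometry.locallyOfFiniteType_specOverSpec
  have : AlgebraicGeometry.IsReduced G.left :=
    inferInstanceAs (AlgebraicGeometry.IsReduced (Spec (CommRingCat.of S)))
  letI g : GrpObj G := inferInstance
  haveI : GrpObj (Over.mk G.hom) := g
  exact Groth.GrpschAbsch.smooth_of_isAlgClosed_of_isReduced G.hom

/-- in a smooth connected affine group all of whose points are semisimple the points commute -/
theorem points_commute {S : Type u} [CommRing S] [HopfAlgebra k S] [Algebra.FiniteType k S] [IsDomain S]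
    (hss : AllSS k S) (a b : WithConv (S →ₐ[k] k)) : Commute a b := by
  have : IsAffine (CoactBr.sp k S).left := inferInstanceAs (IsAffine (Spec (CommRingCat.of S)))
  have : ConnectedSpace (CoactBr.sp k S).left := inferInstanceAs (ConnectedSpace (PrimeSpectrum S))
  have : Smooth (CoactBr.sp k S).hom := smooth_sp S
  obtain ⟨B, _, i, _, X, act, o, hci, hsm, hBc, ⟨n, hn⟩, hX, hXp⟩ :=
    Groth.AlgGrp1.exists_solvable_proper (G := CoactBr.sp k S)
  have : IsAffine B.left := isAffine_of_isAffineHom i.left
  obtain ⟨A, ⟨w⟩⟩ := Groth.Misc7.AffineGroupPoints.exists_hopf B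
  let j : CoactBr.sp k A ≅ B := (Grp.forget _).mapIso w
  have hj : IsMonHom j.hom := inferInstanceAs (IsMonHom w.hom.hom.hom)
  obtain ⟨φ, hφ⟩ := Groth.AlgGrp2.pt_surjective (R := k) (B := S) (K := A) (j.hom ≫ i)
  have hiso : IsIso (Over.Hom.left j.hom) := inferInstanceAs (IsIso ((Over.forget _).map j.hom))
  let hom : CoactBr.sp k A ⟶ B := j.hom
  have hBred : IsReduced B.left := Groth.AlgGrp1.isReduced_of_smooth B.hom
  let jl : Spec (CommRingCat.of A) ≅ B.left := (Over.forget _).mapIso j
  have hAred : AlgebraicGeometry.IsReduced (Spec (CommRingCat.of A)) := isReduced_of_isOpenImmersion jl.hom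
  have : _root_.IsReduced A := (affine_isReduced_iff _).1 hAred
  have hAconn : ConnectedSpace (PrimeSpectrum A) :=
    jl.inv.homeomorph.surjective.connectedSpace jl.inv.continuous
  have hAft : Algebra.FiniteType k A := by
    have : LocallyOfFiniteType (CoactBr.sp k A).hom := by rw [← Over.w j.hom]; infer_instance
    change LocallyOfFiniteType (Spec.map (CommRingCat.ofHom (algebraMap k A))) at this
    rw [HasRingHomProperty.Spec_iff (P := @LocallyOfFiniteType)] at this
    exact RingHom.finiteType_algebraMap.1 this
  have : IsDomain A := Groth.HopfDim.isDomain_of_connected k A fun e he =>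
    Groth.Calg5.idemTrivial_of_connectedSpace (R := (A : Type u)) e he
  -- the monoid morphism on points
  let ρ : WithConv ((A : Type u) →ₐ[k] k) →* WithConv (S →ₐ[k] k) :=
    (ptEquiv S k).symm.toMonoidHom.comp
      ((MonoidHom.mk' (fun p => p ≫ (j.hom ≫ i)) fun p q => MonObj.mul_comp p q (j.hom ≫ i)).comp
        (ptEquiv A k).toMonoidHom)
  have hρ : ∀ g, ρ g = toConv (g.ofConv.comp φ) := fun g => (ptEquiv S k).injective <| by
    change (ptEquiv S k) ((ptEquiv S k).symm (ptEquiv A k g ≫ (j.hom ≫ i))) = _
    rw [MulEquiv.apply_symm_apply, ← hφ]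
    exact (CoactBr.pt_comp φ g.ofConv).symm
  let D : ℕ → Subgroup (WithConv (S →ₐ[k] k)) := fun m =>
    (derivedSeries (WithConv ((A : Type u) →ₐ[k] k)) m).map ρ
  have hD0 : IsConnSub (D 0) := by
    intro h hh
    obtain ⟨g, -, rfl⟩ := hh
    refine ⟨A, inferInstance, inferInstance, inferInstance, inferInstance, toConv φ,
      (1 : WithConv ((A : Type u) →ₐ[k] k)).ofConv, g.ofConv, ?_, ?_, fun c => ⟨toConv c, ?_, ?_⟩⟩
    · exact (hρ 1).symm.trans (map_one ρ)
    · exact (hρ g).symm
    · rw [derivedSeries_zero]; exact Subgroup.mem_top _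
    · exact hρ (toConv c)
  have hDs : ∀ m, D (m + 1) = ⁅D m, D m⁆ := fun m => by
    change Subgroup.map ρ _ = _
    rw [derivedSeries_succ, Subgroup.map_commutator]
  have hAn : derivedSeries (WithConv ((A : Type u) →ₐ[k] k)) n = ⊥ := by
    let e : WithConv ((A : Type u) →ₐ[k] k) →* (CoactBr.sp k k ⟶ B) :=
      (MonoidHom.mk' (fun p => p ≫ j.hom) fun p q => MonObj.mul_comp p q j.hom).comp
        (ptEquiv A k).toMonoidHom
    have he : Function.Injective e := fun p q h => (ptEquiv A k).injective ((cancel_mono j.hom).1 h)
    exact (Subgroup.map_eq_bot_iff_of_injective _ he).1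
      (le_bot_iff.1 (hn (CoactBr.sp k k) ▸ map_derivedSeries_le_derivedSeries e n))
  have hD1 := commutator_eq_bot hss D hD0 hDs (n := n) (by
    change Subgroup.map ρ _ = ⊥
    rw [hAn, Subgroup.map_bot])
  have hcomm : ∀ g h, Commute (ρ g) (ρ h) := fun g h => by
    have hm : ⁅ρ g, ρ h⁆ ∈ D 1 := by
      rw [← map_commutatorElement]
      refine Subgroup.mem_map_of_mem ρ ?_
      rw [derivedSeries_succ, derivedSeries_zero]
      exact Subgroup.commutator_mem_commutator (Subgroup.mem_top _) (Subgroup.mem_top _)
    rw [hD1, Subgroup.mem_bot] at hm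
    exact commutatorElement_eq_one_iff_mul_comm.1 hm
  -- commuting with the points of `B` means being central
  have central : ∀ x : WithConv (S →ₐ[k] k), (∀ g, Commute (ρ g) x) → ∀ y, Commute y x := by
    intro x hx y
    have hconst : toConv φ * constPt (A : Type u) x = constPt (A : Type u) x * toConv φ := by
      refine WithConv.ofConv_injective (AlgHom.ext fun s => sub_eq_zero.1 ?_)
      refine DimOne.eq_zero_of_points (k := k) fun c => ?_
      rw [map_sub, sub_eq_zero, ← pushPt_apply, ← pushPt_apply, map_mul, map_mul, pushPt_constPt,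
        show pushPt c (toConv φ) = ρ (toConv c) from (hρ (toConv c)).symm, (hx (toConv c)).eq]
    have huniv := congrArg (ptEquiv S A) hconst
    rw [map_mul, map_mul, show ptEquiv S A (toConv φ) = j.hom ≫ i from hφ,
      show ptEquiv S A (constPt (A : Type u) x) = CoactBr.pt (Algebra.ofId k A) ≫ ptEquiv S k x from
        CoactBr.pt_comp x.ofConv (Algebra.ofId k A)] at huniv
    have key := Groth.AlgGrp1.commute_of_invariant hX (ptEquiv S k x) (fun W t h => by
      have h2 := congrArg ((h ≫ j.inv) ≫ ·) huniv
      simp only [MonObj.comp_mul, Category.assoc, Iso.inv_hom_id_assoc] at h2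
      rwa [← Category.assoc j.inv (CoactBr.pt _), ← Category.assoc h,
        sp_comp_unique (h ≫ j.inv ≫ CoactBr.pt (Algebra.ofId k A)) t] at h2)
      (CoactBr.sp k k) (𝟙 _) (ptEquiv S k y)
    rw [Category.id_comp, ← map_mul, ← map_mul] at key
    exact (ptEquiv S k).injective key
  exact central b (fun g => (central (ρ g) (fun h => hcomm h g) b).symm) a

end Groth.Misc1.Unip
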