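import Groth.Agent.Misc1.Unip.Primitive
import Groth.Agent.Sga3.SubHopfMap

/-!
# Unipotence by Noetherian induction on closed subgroups
-/

set_option autoImplicit false
set_option linter.unusedSectionVars false

universe u v

open TensorProduct Groth.ComodLib

noncomputable section

namespace Groth.Misc1.Unip

variable {k : Type u} [Field k] {A : Type v} [CommRing A] [HopfAlgebra k A]

theorem map_mkQ_eq {I : Ideal A} (z : A ⊗[k] A) :
    TensorProduct.map (I.restrictScalars k).mkQ (I.restrictScalars k).mkQ z = 0 ↔
      Algebra.TensorProduct.map (Ideal.Quotient.mkₐ k I) (Ideal.Quotient.mkₐ k I) z = 0 := by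
  let e := (Submodule.Quotient.restrictScalarsEquiv k I)
  have h : TensorProduct.congr e e (TensorProduct.map (I.restrictScalars k).mkQ (I.restrictScalars k).mkQ z) =
      Algebra.TensorProduct.map (Ideal.Quotient.mkₐ k I) (Ideal.Quotient.mkₐ k I) z := by
    induction z using TensorProduct.induction_on with
    | zero => simp
    | tmul x y => rfl
    | add x y hx hy => simp only [map_add, hx, hy]
  rw [← h]
  exact (LinearEquiv.map_eq_zero_iff _).symm

theorem isHopfIdeal_ker {B : Type v} [CommRing B] [HopfAlgebra k B] (f : A →ₐc[k] B)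
    (hs : Function.Surjective f) : (RingHom.ker (f : A →ₐ[k] B)).IsHopfIdeal k := by
  set J : Ideal A := RingHom.ker (f : A →ₐ[k] B)
  let e : (A ⧸ J) ≃ₐ[k] B := Ideal.quotientKerAlgEquivOfSurjective (f := (f : A →ₐ[k] B)) hs
  refine { counit_eq_zero := fun a ha => ?_, map_mkQ_comul_eq_zero := fun a ha => ?_,
           antipode_mem := fun a ha => ?_ }
  · rw [← CoalgHomClass.counit_comp_apply f a, show f a = 0 from ha, map_zero]
  · refine (map_mkQ_eq _).2 ((Algebra.TensorProduct.congr e e).injective ?_)
    rw [map_zero]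
    have : ∀ z : A ⊗[k] A, Algebra.TensorProduct.congr e e
        (Algebra.TensorProduct.map (Ideal.Quotient.mkₐ k J) (Ideal.Quotient.mkₐ k J) z) =
        TensorProduct.map (f : A →ₗ[k] B) (f : A →ₗ[k] B) z := by
      intro z
      induction z using TensorProduct.induction_on with
      | zero => simp
      | tmul p r => rfl
      | add p r hp hr => simp only [map_add, hp, hr]
    rw [this, CoalgHomClass.map_comp_comul_apply f a, show f a = 0 from ha, map_zero]
  · change f (HopfAlgebra.antipode k a) = 0
    rw [Groth.Sga3.SubHopfFlat.map_antipode f a, show f a = 0 from ha, map_zero]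

theorem isHopfIdeal_span_primitive {x : A}
    (hx : Coalgebra.comul (R := k) x = x ⊗ₜ[k] (1 : A) + (1 : A) ⊗ₜ[k] x) :
    (Ideal.span {x}).IsHopfIdeal k := by
  set I := Ideal.span {x}
  have hy : ∀ (J : Ideal A), x ∈ J → I ≤ J := fun J h => Ideal.span_le.2 (by simpa using h)
  have hxI : Ideal.Quotient.mk I x = 0 := Ideal.Quotient.eq_zero_iff_mem.2 (Ideal.mem_span_singleton_self x)
  refine { counit_eq_zero := fun a ha => ?_, map_mkQ_comul_eq_zero := fun a ha => ?_,
           antipode_mem := fun a ha => ?_ }
  · exact hy (RingHom.ker (Bialgebra.counitAlgHom k A)) (counit_primitive hx) ha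
  · refine (map_mkQ_eq _).2
      (hy (RingHom.ker ((Algebra.TensorProduct.map (Ideal.Quotient.mkₐ k I) (Ideal.Quotient.mkₐ k I)).comp
        (Bialgebra.comulAlgHom k A))) ?_ ha)
    simp [hx, hxI]
  · refine hy (I.comap (HopfAlgebra.antipodeAlgHom k A)) ?_ ha
    change HopfAlgebra.antipode k x ∈ I
    rw [antipode_primitive hx]
    exact neg_mem (Ideal.mem_span_singleton_self x)

/-- unipotence from primitive elements in all nontrivial quotients -/
theorem isUnipotent_of_quotient_primitive [IsNoetherianRing A]
    (h : ∀ (I : Ideal A) [I.IsHopfIdeal k], I ≠ RingHom.ker (Bialgebra.counitAlgHom k A) →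
      ∃ x : A ⧸ I, x ≠ 0 ∧
        Coalgebra.comul (R := k) x = x ⊗ₜ[k] (1 : A ⧸ I) + (1 : A ⧸ I) ⊗ₜ[k] x) :
    ∀ (I : Ideal A) [I.IsHopfIdeal k], HopfRep.IsUnipotent k (A ⧸ I) := by
  intro I
  induction I using IsNoetherian.induction with
  | hgt I ih =>
    intro hI
    by_cases he : I = RingHom.ker (Bialgebra.counitAlgHom k A)
    · refine isUnipotent_of_exhaustive fun b => ⟨1, ?_⟩
      obtain ⟨a, rfl⟩ := Ideal.Quotient.mk_surjective b
      rw [fixSeries_regular_one, Submodule.mem_span_singleton]
      refine ⟨Coalgebra.counit (R := k) a, ?_⟩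
      rw [← sub_eq_zero, Algebra.smul_def, mul_one,
        show algebraMap k (A ⧸ I) (Coalgebra.counit (R := k) a) =
          Ideal.Quotient.mk I (algebraMap k A (Coalgebra.counit (R := k) a)) from rfl, ← map_sub,
        Ideal.Quotient.eq_zero_iff_mem]
      exact he ▸ (by simp [RingHom.mem_ker] : _ ∈ RingHom.ker (Bialgebra.counitAlgHom k A))
    · obtain ⟨x, hx0, hx⟩ := h I he
      have := isHopfIdeal_span_primitive hx
      let q : A ⧸ I →ₐc[k] (A ⧸ I) ⧸ Ideal.span {x} := Bialgebra.Quotient.mkBialgHom _
      let f : A →ₐc[k] (A ⧸ I) ⧸ Ideal.span {x} := q.comp (Bialgebra.Quotient.mkBialgHom I)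
      have hf : Function.Surjective f := Ideal.Quotient.mk_surjective.comp Ideal.Quotient.mk_surjective
      let J : Ideal A := RingHom.ker (f : A →ₐ[k] (A ⧸ I) ⧸ Ideal.span {x})
      have hJ : J.IsHopfIdeal k := isHopfIdeal_ker f hf
      have hIJ : I < J := by
        refine lt_of_le_of_ne (fun a ha => ?_) fun e => hx0 ?_
        · change q (Ideal.Quotient.mk I a) = 0
          rw [Ideal.Quotient.eq_zero_iff_mem.2 ha, map_zero]
        · obtain ⟨a, rfl⟩ := Ideal.Quotient.mk_surjective x
          refine Ideal.Quotient.eq_zero_iff_mem.2 (e ▸ ?_)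
          exact Ideal.Quotient.eq_zero_iff_mem.2 (Ideal.mem_span_singleton_self _)
      let g : A ⧸ J →ₐ[k] (A ⧸ I) ⧸ Ideal.span {x} :=
        Ideal.Quotient.liftₐ J (f : A →ₐ[k] (A ⧸ I) ⧸ Ideal.span {x}) fun a ha => ha
      let gB : A ⧸ J →ₐc[k] (A ⧸ I) ⧸ Ideal.span {x} := BialgHom.ofAlgHom g
        (AlgHom.ext fun y => by
          obtain ⟨a, rfl⟩ := Ideal.Quotient.mk_surjective y
          exact CoalgHomClass.counit_comp_apply f a)
        (AlgHom.ext fun y => by
          obtain ⟨a, rfl⟩ := Ideal.Quotient.mk_surjective y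
          change TensorProduct.map g.toLinearMap g.toLinearMap
              (TensorProduct.map (Ideal.Quotient.mkₐ k J).toLinearMap (Ideal.Quotient.mkₐ k J).toLinearMap
                (Coalgebra.comul (R := k) a)) = Coalgebra.comul (R := k) (f a)
          rw [← CoalgHomClass.map_comp_comul_apply f a]
          generalize Coalgebra.comul (R := k) a = t
          induction t using TensorProduct.induction_on with
          | zero => simp
          | add p r hp hr => simp only [map_add, hp, hr]
          | tmul p r => rfl)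
      have hg : Function.Surjective gB := fun y => by
        obtain ⟨a, rfl⟩ := hf y
        exact ⟨Ideal.Quotient.mk J a, rfl⟩
      exact isUnipotent_of_primitive hx q Ideal.Quotient.mk_surjective
        (fun b hb => Ideal.Quotient.eq_zero_iff_mem.1 hb)
        (isUnipotent_of_surjective gB hg (ih J hIJ))

end Groth.Misc1.Unip
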