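import Groth.Agent.AlgGrp1.MaxTorusSolv
import Groth.Agent.AlgGrp1.BorelConj
import Groth.Agent.Misc1.Unip.AllSSBorel
import Groth.Agent.Misc1.Unip.Quotient
import Groth.Agent.Misc1.Unip.MultType
import Groth.Agent.Misc1.LineStab.Basic
import Groth.Agent.Agf.Quot

/-!
# Smooth connected affine groups without subtori are unipotent
-/

set_option autoImplicit false
set_option linter.unusedSectionVars false

universe u

open CategoryTheory MonoidalCategory CartesianMonoidalCategory MonObj AlgebraicGeometry Limits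
open WithConv
open scoped TensorProduct

noncomputable section

namespace Groth.Misc1.Unip

variable {k : Type u} [Field k]

/-- `Spec A × Spec B = Spec (A ⊗ B)` by the two projections -/
theorem isIso_lift_incl (A B : Type u) [CommRing A] [Algebra k A] [CommRing B] [Algebra k B] :
    IsIso (lift (CoactBr.pt (Algebra.TensorProduct.includeLeft : A →ₐ[k] A ⊗[k] B))
      (CoactBr.pt (Algebra.TensorProduct.includeRight : B →ₐ[k] A ⊗[k] B))) := by
  set l := lift (CoactBr.pt (Algebra.TensorProduct.includeLeft : A →ₐ[k] A ⊗[k] B))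
    (CoactBr.pt (Algebra.TensorProduct.includeRight : B →ₐ[k] A ⊗[k] B))
  have h : l.left = (pullbackSpecIso k A B).inv := by
    refine pullback.hom_ext ?_ ?_
    · refine Eq.trans ?_ (pullbackSpecIso_inv_fst k A B).symm
      exact congrArg (fun m => m.left) (lift_fst (CoactBr.pt (Algebra.TensorProduct.includeLeft : A →ₐ[k] A ⊗[k] B))
        (CoactBr.pt (Algebra.TensorProduct.includeRight : B →ₐ[k] A ⊗[k] B)))
    · refine Eq.trans ?_ (pullbackSpecIso_inv_snd k A B).symm
      exact congrArg (fun m => m.left) (lift_snd (CoactBr.pt (Algebra.TensorProduct.includeLeft : A →ₐ[k] A ⊗[k] B))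
        (CoactBr.pt (Algebra.TensorProduct.includeRight : B →ₐ[k] A ⊗[k] B)))
  have : IsIso ((Over.forget _).map l) := by
    change IsIso l.left
    rw [h]; infer_instance
  exact isIso_of_reflects_iso l (Over.forget _)

/-- a function on a group which descends to a proper quotient is constant -/
theorem mem_range_of_factor [IsAlgClosed k] {A : Type u} [CommRing A] [IsDomain A] [Algebra k A] (f : A)
    {X : Over (Spec (CommRingCat.of k))} [IsProper X.hom] (p : CoactBr.sp k A ⟶ X) [Surjective p.left]
    (d : X ⟶ CoactBr.sp k (Polynomial k)) (hd : p ≫ d = CoactBr.pt (Polynomial.aeval f)) :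
    f ∈ Set.range (algebraMap k A) := by
  by_cases hinj : Function.Injective (Polynomial.aeval f : Polynomial k →ₐ[k] A)
  · exfalso
    have : IsAffine (CoactBr.sp k (Polynomial k)).left := inferInstanceAs (IsAffine (Spec (CommRingCat.of (Polynomial k))))
    have : IsAffineHom (CoactBr.sp k (Polynomial k)).hom := isAffineHom_of_isAffine _
    have hsep : IsSeparated (CoactBr.sp k (Polynomial k)).hom := inferInstance
    have : UniversallyClosed (d.left ≫ (CoactBr.sp k (Polynomial k)).hom) := by rw [Over.w]; infer_instance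
    have : UniversallyClosed d.left := .of_comp_of_isSeparated _ (CoactBr.sp k (Polynomial k)).hom
    have hsurj : Surjective d.left := by
      refine ⟨fun y => ?_⟩
      have hy : y ∈ closure (Set.range (PrimeSpectrum.comap (Polynomial.aeval f : Polynomial k →ₐ[k] A).toRingHom)) := by
        rw [PrimeSpectrum.closure_range_comap,
          show RingHom.ker (Polynomial.aeval f : Polynomial k →ₐ[k] A).toRingHom = ⊥ from
            (RingHom.injective_iff_ker_eq_bot _).1 hinj]
        simp only [Submodule.bot_coe, PrimeSpectrum.zeroLocus_singleton_zero]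
        exact Set.mem_univ y
      have hsub : Set.range (PrimeSpectrum.comap (Polynomial.aeval f : Polynomial k →ₐ[k] A).toRingHom) ⊆
          Set.range d.left.base := by
        rintro _ ⟨q, rfl⟩
        refine ⟨p.left.base q, ?_⟩
        exact congrArg (fun m => m.left.base q) hd
      have := closure_mono hsub hy
      exact (IsClosed.closure_eq d.left.isClosedMap.isClosed_range).le this
    have : UniversallyClosed (CoactBr.sp k (Polynomial k)).hom := .of_comp_surjective d.left _
    have : IsIntegralHom (CoactBr.sp k (Polynomial k)).hom :=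
      IsIntegralHom.iff_universallyClosed_and_isAffineHom.2 ⟨this, inferInstance⟩
    have hint : (algebraMap k (Polynomial k)).IsIntegral :=
      IsIntegralHom.SpecMap_iff.1 this
    exact Polynomial.transcendental_X k (show IsIntegral k (Polynomial.X : Polynomial k) from hint _).isAlgebraic
  · have halg : IsAlgebraic k f := by
      by_contra h
      exact hinj (transcendental_iff_injective.1 h)
    have hint : IsIntegral k f := halg.isIntegral
    refine (minpoly.degree_eq_one_iff.1 ?_ : f ∈ (algebraMap k A).range)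
    exact IsAlgClosed.degree_eq_one_of_irreducible k (minpoly.irreducible hint)

variable [IsAlgClosed k]

/-- **a smooth connected affine group without subtori is unipotent** -/
theorem isUnipotent_of_hasNoSubtorus {A : Type u} [CommRing A] [HopfAlgebra k A] [Algebra.FiniteType k A]
    [IsDomain A] (hA : Red.HasNoSubtorus k (CoactBr.sp k A)) : HopfRep.IsUnipotent k A := by
  have : IsAffine (CoactBr.sp k A).left := inferInstanceAs (IsAffine (Spec (CommRingCat.of A)))
  have : ConnectedSpace (CoactBr.sp k A).left := inferInstanceAs (ConnectedSpace (PrimeSpectrum A))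
  have : Smooth (CoactBr.sp k A).hom := smooth_sp A
  obtain ⟨B, _, i, _, X, act, o, hci, hsm, hBc, ⟨n, hn⟩, hX, hXp⟩ :=
    Groth.AlgGrp1.exists_solvable_proper (G := CoactBr.sp k A)
  have : IsAffine B.left := isAffine_of_isAffineHom i.left
  have : LocallyOfFiniteType B.hom := by rw [← Over.w i]; infer_instance
  obtain ⟨C, _, _, _, e, he⟩ := Groth.AlgGrp1.exists_hopf_iso B
  have : IsIso e.hom.left := inferInstanceAs (IsIso ((Over.forget _).map e.hom))
  have : IsReduced B.left := Groth.AlgGrp1.isReduced_of_smooth B.hom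
  have hred : AlgebraicGeometry.IsReduced (CoactBr.sp k C).left := isReduced_of_isOpenImmersion e.hom.left
  have : _root_.IsReduced C := (affine_isReduced_iff (CommRingCat.of C)).1 hred
  have hconn : ConnectedSpace (PrimeSpectrum C) := by
    have : IsIso e.inv.left := inferInstanceAs (IsIso ((Over.forget _).map e.inv))
    exact e.inv.left.homeomorph.surjective.connectedSpace e.inv.left.homeomorph.continuous
  have : IsDomain C := Groth.HopfDim.isDomain_of_connected k C fun x hx =>
    Groth.Calg5.idemTrivial_of_connectedSpace (R := C) x hx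
  have : Group.IsSolvable (WithConv (C →ₐ[k] k)) := by
    let P : WithConv (C →ₐ[k] k) →* (CoactBr.sp k k ⟶ B) :=
      MonoidHom.mk' (fun f => CoactBr.pt f.ofConv ≫ e.hom) fun f g => by
        rw [← MonObj.mul_comp]
        congr 1
        exact map_mul Spec.mapMulEquiv f g
    haveI : Group.IsSolvable (CoactBr.sp k k ⟶ B) := ⟨⟨n, hn _⟩⟩
    exact Group.isSolvable_of_isSolvable_injective (f := P) fun f g h =>
      WithConv.ofConv_injective (CoactBr.pt_injective ((cancel_mono e.hom).1 h))
  obtain ⟨r, ψ, ρ, J, hJh, hρ, hJ, hU⟩ :=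
    Groth.AlgGrp1.exists_split_extension (k := k) C Groth.Misc1.Unip.isTrigonalizable_of_solvable
  -- the torus of `B` is trivial
  let N := MonoidAlgebra k (Multiplicative (Fin r → ℤ))
  have := Groth.AlgGrp1.isMonHom_pt_bialg ρ
  let j : CoactBr.sp k N ⟶ CoactBr.sp k A := CoactBr.pt (ρ : C →ₐ[k] N) ≫ e.hom ≫ i
  have : IsClosedImmersion j.left := by
    have : IsClosedImmersion (CoactBr.pt (ρ : C →ₐ[k] N)).left := by
      rw [CoactBr.pt_left]
      exact IsClosedImmersion.spec_of_surjective _ fun b => ⟨ψ b, DFunLike.congr_fun hρ b⟩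
    change IsClosedImmersion ((CoactBr.pt (ρ : C →ₐ[k] N)).left ≫ e.hom.left ≫ i.left)
    infer_instance
  have : Mono j := Over.mono_of_mono_left j
  have htriv : IsIso (CoactBr.sp k N).hom :=
    hA (CoactBr.sp k N) j (Groth.AlgGrp1.isTorus_of_diag_iso (Iso.refl _) (inferInstanceAs (IsMonHom (𝟙 _))))
  have haug : ∀ x : N, x = algebraMap k N (Coalgebra.counit (R := k) x) := fun x => by
    have h : CoactBr.pt (AlgHom.id k N) = CoactBr.pt ((Algebra.ofId k N).comp (Bialgebra.counitAlgHom k N)) :=
      Over.OverMorphism.ext ((cancel_mono (CoactBr.sp k N).hom).1 ((Over.w _).trans (Over.w _).symm))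
    simpa using AlgHom.congr_fun (CoactBr.pt_injective h) x
  have hJ0 : J = ⊥ := by
    rw [hJ, Ideal.map_eq_bot_iff_le_ker]
    intro x hx
    rw [RingHom.mem_ker, Bialgebra.counitAlgHom_apply] at hx
    rw [RingHom.mem_ker, haug x, hx, map_zero, map_zero]
  have hCu : HopfRep.IsUnipotent k C := by
    let q := Bialgebra.Quotient.mkBialgHom (R := k) J
    have hq : Function.Bijective q := by
      refine ⟨fun a b h => ?_, Ideal.Quotient.mk_surjective⟩
      have : a - b ∈ J := Ideal.Quotient.eq.1 h
      rwa [hJ0, Ideal.mem_bot, sub_eq_zero] at this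
    let eq := BialgEquiv.ofBijective q hq
    exact isUnipotent_of_surjective eq.symm.toBialgHom eq.symm.surjective hU
  -- the subgroup `B` is everything
  obtain ⟨φ, hφ⟩ := Groth.AlgGrp1.exists_bialgHom_of_isMonHom (e.hom ≫ i)
  have hφs : Function.Surjective φ := by
    have hcl : IsClosedImmersion (CoactBr.pt (φ : A →ₐ[k] C)).left := by
      rw [hφ, Over.comp_left]; infer_instance
    rw [CoactBr.pt_left] at hcl
    have h1 : Function.Surjective (Spec.map (CommRingCat.ofHom (φ : A →ₐ[k] C).toRingHom)).appTop :=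
      (@IsClosedImmersion.isAffine_surjective_of_isAffine _ _ _ (Spec.map (CommRingCat.ofHom (φ : A →ₐ[k] C).toRingHom)) hcl).2
    intro c
    obtain ⟨b, hb⟩ := h1 ((Scheme.ΓSpecIso (CommRingCat.of C)).inv c)
    refine ⟨(Scheme.ΓSpecIso (CommRingCat.of A)).hom b, ?_⟩
    have hn := congrArg (fun t => (Scheme.ΓSpecIso (CommRingCat.of C)).hom t) hb
    have hnat := congrArg (fun m => m b) (Scheme.ΓSpecIso_naturality (CommRingCat.ofHom (φ : A →ₐ[k] C).toRingHom))
    simp only [CommRingCat.comp_apply] at hnat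
    simp only [Iso.inv_hom_id_apply] at hn
    exact hnat.symm.trans hn
  obtain ⟨d, hd0, a, hΔ, hε, -, hker⟩ := Groth.Misc1.LineStab.exists_corep φ hφs
  have hcol : ∀ i : Fin d, i ≠ ⟨0, hd0⟩ → φ (a i ⟨0, hd0⟩) = 0 := fun i hi => by
    have : a i ⟨0, hd0⟩ ∈ RingHom.ker φ := hker ▸ Ideal.subset_span ⟨⟨i, hi⟩, rfl⟩
    exact this
  have h00 : φ (a ⟨0, hd0⟩ ⟨0, hd0⟩) = 1 := by
    refine groupLike_eq_one (fun x => Groth.ComodLib.exists_mem_fixSeries hCu x) ?_
    refine ⟨?_, ?_⟩
    · rw [CoalgHomClass.counit_comp_apply φ, hε, if_pos rfl]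
    · rw [← CoalgHomClass.map_comp_comul_apply φ, hΔ, map_sum]
      rw [Finset.sum_eq_single ⟨0, hd0⟩ (fun l _ hl => by simp [hcol l hl]) (fun h => absurd (Finset.mem_univ _) h)]
      simp
  have hinv : ∀ i : Fin d, i ≠ ⟨0, hd0⟩ → a i ⟨0, hd0⟩ = 0 := fun i₀ hi₀ => by
    set f := a i₀ ⟨0, hd0⟩ with hf
    have hfφ : TensorProduct.map LinearMap.id (φ : A →ₗ[k] C) (Coalgebra.comul (R := k) f) = f ⊗ₜ[k] (1 : C) := by
      rw [hf, hΔ, map_sum, Finset.sum_eq_single ⟨0, hd0⟩ (fun l _ hl => by simp [hcol l hl])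
        (fun h => absurd (Finset.mem_univ _) h)]
      simp [h00]
    let Fm : CoactBr.sp k A ⟶ CoactBr.sp k (Polynomial k) := CoactBr.pt (Polynomial.aeval f)
    have := hX.1; have := hX.2.1; have := hX.2.2.1
    have := Groth.AlgGrp1.lfp_left (act.orbitMap o)
    have key : fst (CoactBr.sp k A) B ≫ Fm = ((CoactBr.sp k A ◁ i) ≫ μ[CoactBr.sp k A]) ≫ Fm := by
      let iL : A →ₐ[k] A ⊗[k] C := Algebra.TensorProduct.includeLeft
      let iR : C →ₐ[k] A ⊗[k] C := Algebra.TensorProduct.includeRight
      have := isIso_lift_incl (k := k) A C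
      let L := lift (CoactBr.pt iL) (CoactBr.pt iR)
      have e1 : L ≫ (CoactBr.sp k A ◁ e.hom) ≫ fst (CoactBr.sp k A) B = CoactBr.pt iL := by simp [L]
      have e2 : L ≫ (CoactBr.sp k A ◁ e.hom) ≫ (CoactBr.sp k A ◁ i) ≫ μ[CoactBr.sp k A] =
          CoactBr.pt iL * (CoactBr.pt iR ≫ e.hom ≫ i) := by
        simp [L, Hom.mul_def, lift_whiskerLeft_assoc]
      rw [← cancel_epi (CoactBr.sp k A ◁ e.hom), ← cancel_epi L, ← Category.assoc _ _ Fm, ← Category.assoc L, e1,
        ← Category.assoc _ ((CoactBr.sp k A ◁ i) ≫ μ[CoactBr.sp k A]) Fm, ← Category.assoc L, e2, ← hφ]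
      simp only [Fm]
      rw [← CoactBr.pt_comp, ← CoactBr.pt_comp, CoactBr.pt_mul_pt, ← CoactBr.pt_comp]
      refine congrArg CoactBr.pt (Polynomial.algHom_ext ?_)
      simp only [AlgHom.comp_apply, Polynomial.aeval_X, Bialgebra.comulAlgHom_apply]
      refine (show iL f = f ⊗ₜ[k] (1 : C) from rfl).trans (hfφ.symm.trans ?_)
      induction Coalgebra.comul (R := k) f using TensorProduct.induction_on with
      | zero => simp
      | tmul x y => simp [iL, iR]
      | add x y hx hy => simp only [map_add, hx, hy]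
    obtain ⟨dd, hdd⟩ := Groth.Agf.exists_desc_of_fppf (act.orbitMap o) _ _ hX.2.2.2 Fm key
    obtain ⟨c, hc⟩ := mem_range_of_factor f (act.orbitMap o) dd hdd
    have : Coalgebra.counit (R := k) f = 0 := by rw [hf, hε, if_neg hi₀]
    rw [← hc, Bialgebra.counit_algebraMap] at this
    rw [← hc, this, map_zero]
  have hinjφ : Function.Injective φ := by
    refine (RingHom.injective_iff_ker_eq_bot φ).2 ?_
    rw [hker, Ideal.span_eq_bot]
    rintro _ ⟨⟨i, hi⟩, rfl⟩
    exact hinv i hi
  let eφ := BialgEquiv.ofBijective φ ⟨hinjφ, hφs⟩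
  exact isUnipotent_of_surjective eφ.symm.toBialgHom eφ.symm.surjective hCu

/-- scheme form: the Hopf algebra of a smooth connected affine group without subtori is unipotent -/
theorem exists_unipotent_hopf (H : Over (Spec (CommRingCat.of k))) [GrpObj H] [IsAffine H.left] [Smooth H.hom]
    [ConnectedSpace H.left] (hH : Red.HasNoSubtorus k H) :
    ∃ (A : Type u) (_ : CommRing A) (_ : HopfAlgebra k A) (_ : Algebra.FiniteType k A) (_ : IsDomain A)
      (e : CoactBr.sp k A ≅ H) (_ : IsMonHom e.hom), HopfRep.IsUnipotent k A := by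
  obtain ⟨A, _, _, _, e, he⟩ := Groth.AlgGrp1.exists_hopf_iso H
  have : IsIso e.hom.left := inferInstanceAs (IsIso ((Over.forget _).map e.hom))
  have : IsReduced H.left := Groth.AlgGrp1.isReduced_of_smooth H.hom
  have hred : AlgebraicGeometry.IsReduced (CoactBr.sp k A).left := isReduced_of_isOpenImmersion e.hom.left
  have : _root_.IsReduced A := (affine_isReduced_iff (CommRingCat.of A)).1 hred
  have hconn : ConnectedSpace (PrimeSpectrum A) := by
    have : IsIso e.inv.left := inferInstanceAs (IsIso ((Over.forget _).map e.inv))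
    exact e.inv.left.homeomorph.surjective.connectedSpace e.inv.left.homeomorph.continuous
  have : IsDomain A := Groth.HopfDim.isDomain_of_connected k A fun x hx =>
    Groth.Calg5.idemTrivial_of_connectedSpace (R := A) x hx
  refine ⟨A, inferInstance, inferInstance, inferInstance, inferInstance, e, he,
    isUnipotent_of_hasNoSubtorus fun T _ j _ _ hT => ?_⟩
  haveI := he
  exact hH T (j ≫ e.hom) hT

/-- a nonzero stable subspace of a comodule of a unipotent group has a nonzero fixed vector -/
theorem exists_fixed_of_stable {K : Type u} [Field K] {A : Type u} [CommRing A] [Bialgebra K A]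
    (hU : HopfRep.IsUnipotent K A) {V : Type u} [AddCommGroup V] [Module K V] [HopfRep.Comod K A V]
    (M : Submodule K V) (hM : ∀ (φ : A →ₗ[K] K), ∀ x ∈ M, Groth.ComodLib.op φ x ∈ M) {x : V} (hx : x ∈ M)
    (hx0 : x ≠ 0) :
    ∃ v ∈ M, v ≠ 0 ∧ HopfRep.Comod.coact (k := K) (A := A) v = v ⊗ₜ[K] (1 : A) := by
  classical
  have hex : ∃ n, ∃ a ∈ M, a ∈ Groth.ComodLib.fixSeries K A V n ∧ a ≠ 0 :=
    ⟨_, x, hx, (Groth.ComodLib.exists_mem_fixSeries hU x).choose_spec, hx0⟩
  obtain ⟨a, haM, hafix, ha0⟩ := Nat.find_spec hex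
  cases hn : Nat.find hex with
  | zero =>
    rw [hn] at hafix
    exact absurd ((Submodule.mem_bot K).1 hafix) ha0
  | succ n =>
    rw [hn] at hafix
    have h1 : a ∈ Groth.ComodLib.fixSeries K A V 1 :=
      Groth.ComodLib.mem_fixSeries_succ.2 fun φ => (Submodule.mem_bot K).2 (by
        by_contra hb
        exact Nat.find_min hex (show n < Nat.find hex by omega)
          ⟨_, hM _ a haM, Groth.ComodLib.mem_fixSeries_succ.1 hafix φ, hb⟩)
    rw [Groth.ComodLib.fixSeries_one] at h1
    exact ⟨a, haM, ha0, h1⟩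

end Groth.Misc1.Unip
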