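import Mathlib.RingTheory.HopfAlgebra.Convolution
import Mathlib.RingTheory.FiniteType
import Mathlib.RingTheory.Ideal.Quotient.Operations

/-!
# Small models of Hopf algebras of finite type
-/

set_option autoImplicit false

universe u v w

open TensorProduct Coalgebra

noncomputable section

namespace Groth.Misc1.Unip

variable {k : Type u} [CommRing k] {A : Type v} [CommRing A] {S : Type w} [CommRing S] [Algebra k S]

/-- transport of a bialgebra structure along an algebra isomorphism -/
@[reducible] def bialgebraOfEquiv [Bialgebra k A] (f : A ≃ₐ[k] S) : Bialgebra k S :=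
  Bialgebra.ofAlgHom
    (((Algebra.TensorProduct.map f.toAlgHom f.toAlgHom).comp (Bialgebra.comulAlgHom k A)).comp f.symm.toAlgHom)
    ((Bialgebra.counitAlgHom k A).comp f.symm.toAlgHom)
    (by
      refine AlgHom.ext fun s => ?_
      obtain ⟨a, rfl⟩ := f.surjective s
      have h := LinearMap.congr_fun (Coalgebra.coassoc (R := k) (A := A)) a
      simp only [LinearMap.comp_apply, LinearEquiv.coe_coe] at h
      refine Eq.trans ?_ ((congrArg (TensorProduct.map f.toAlgHom.toLinearMap
        (TensorProduct.map f.toAlgHom.toLinearMap f.toAlgHom.toLinearMap)) h).trans ?_) <;>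
        simp only [AlgHom.comp_apply, AlgEquiv.coe_toAlgHom, AlgEquiv.symm_apply_apply,
          Bialgebra.comulAlgHom_apply] <;>
        generalize comul (R := k) a = z <;>
        induction z using TensorProduct.induction_on with
        | zero => simp
        | add p q hp hq => simp only [map_add, hp, hq]
        | tmul p q => ?_
      · simp only [Algebra.TensorProduct.map_tmul, AlgEquiv.coe_toAlgHom, AlgHom.comp_apply, AlgEquiv.symm_apply_apply,
          AlgHom.id_apply, LinearMap.rTensor_tmul, Bialgebra.comulAlgHom_apply]
        generalize comul (R := k) p = w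
        induction w using TensorProduct.induction_on with
        | zero => simp
        | tmul x y => rfl
        | add x y hx hy => simp only [map_add, TensorProduct.add_tmul, hx, hy]
      · simp only [Algebra.TensorProduct.map_tmul, AlgEquiv.coe_toAlgHom, AlgHom.comp_apply, AlgEquiv.symm_apply_apply,
          AlgHom.id_apply, LinearMap.lTensor_tmul, Bialgebra.comulAlgHom_apply]
        rfl)
    (by
      refine AlgHom.ext fun s => ?_
      obtain ⟨a, rfl⟩ := f.surjective s
      refine Eq.trans ?_ ((congrArg (f.toLinearMap.lTensor k) (Coalgebra.rTensor_counit_comul (R := k) a)).trans rfl)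
      simp only [AlgHom.comp_apply, AlgEquiv.coe_toAlgHom, AlgEquiv.symm_apply_apply,
        Bialgebra.comulAlgHom_apply]
      generalize comul (R := k) a = z
      induction z using TensorProduct.induction_on with
      | zero => simp
      | add p q hp hq => simp only [map_add, hp, hq]
      | tmul p q => simp)
    (by
      refine AlgHom.ext fun s => ?_
      obtain ⟨a, rfl⟩ := f.surjective s
      refine Eq.trans ?_ ((congrArg (f.toLinearMap.rTensor k) (Coalgebra.lTensor_counit_comul (R := k) a)).trans rfl)
      simp only [AlgHom.comp_apply, AlgEquiv.coe_toAlgHom, AlgEquiv.symm_apply_apply,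
        Bialgebra.comulAlgHom_apply]
      generalize comul (R := k) a = z
      induction z using TensorProduct.induction_on with
      | zero => simp
      | add p q hp hq => simp only [map_add, hp, hq]
      | tmul p q => simp)

theorem bialgebraOfEquiv_comul [Bialgebra k A] (f : A ≃ₐ[k] S) (a : A) :
    (bialgebraOfEquiv f).comul (f a) = TensorProduct.map f.toLinearMap f.toLinearMap (comul (R := k) a) := by
  change (Algebra.TensorProduct.map f.toAlgHom f.toAlgHom) (comul (R := k) (f.symm (f a))) = _
  rw [f.symm_apply_apply]
  rfl

/-- transport of a Hopf algebra structure along an algebra isomorphism -/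
@[reducible] def hopfAlgebraOfEquiv [HopfAlgebra k A] (f : A ≃ₐ[k] S) : HopfAlgebra k S :=
  letI := bialgebraOfEquiv f
  { bialgebraOfEquiv f with
    antipode := f.toLinearMap ∘ₗ HopfAlgebra.antipode k ∘ₗ f.symm.toLinearMap
    mul_antipode_rTensor_comul := by
      refine LinearMap.ext fun s => ?_
      obtain ⟨a, rfl⟩ := f.surjective s
      refine Eq.trans ?_ ((congrArg f (HopfAlgebra.mul_antipode_rTensor_comul_apply (R := k) a)).trans ?_)
      · simp only [LinearMap.comp_apply]
        rw [bialgebraOfEquiv_comul]
        generalize comul (R := k) a = z
        induction z using TensorProduct.induction_on with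
        | zero => simp
        | add p q hp hq => simp only [map_add, hp, hq]
        | tmul p q => simp
      · rw [AlgEquiv.commutes]
        exact congrArg (algebraMap k S) (congrArg (Coalgebra.counit (R := k)) (f.symm_apply_apply a).symm)
    mul_antipode_lTensor_comul := by
      refine LinearMap.ext fun s => ?_
      obtain ⟨a, rfl⟩ := f.surjective s
      refine Eq.trans ?_ ((congrArg f (HopfAlgebra.mul_antipode_lTensor_comul_apply (R := k) a)).trans ?_)
      · simp only [LinearMap.comp_apply]
        rw [bialgebraOfEquiv_comul]
        generalize comul (R := k) a = z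
        induction z using TensorProduct.induction_on with
        | zero => simp
        | add p q hp hq => simp only [map_add, hp, hq]
        | tmul p q => simp
      · rw [AlgEquiv.commutes]
        exact congrArg (algebraMap k S) (congrArg (Coalgebra.counit (R := k)) (f.symm_apply_apply a).symm) }

/-- an algebra of finite type has a model in the universe of the base -/
theorem exists_small_model [Algebra k A] [Algebra.FiniteType k A] :
    ∃ (S : Type u) (_ : CommRing S) (_ : Algebra k S), Algebra.FiniteType k S ∧ Nonempty (A ≃ₐ[k] S) := by
  obtain ⟨n, g, hg⟩ := Algebra.FiniteType.iff_quotient_mvPolynomial''.1 ‹Algebra.FiniteType k A›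
  let e := (Ideal.quotientKerAlgEquivOfSurjective (f := g) hg).symm
  exact ⟨_, inferInstance, inferInstance, Algebra.FiniteType.equiv ‹_› e, ⟨e⟩⟩

end Groth.Misc1.Unip
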