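import Groth.Agent.Misc1.Unip.Trig
import Groth.Agent.Misc1.Unip.DimOne.Basic
import Groth.Agent.Misc1.Unip.Transport
import Groth.Agent.PropsBasic.HopfRed
import Groth.Agent.VarietyBC.TensorAlgClosed
import Mathlib.LinearAlgebra.Determinant
import Mathlib.LinearAlgebra.Eigenspace.Triangularizable
import Mathlib.GroupTheory.Solvable

/-!
# The theorem of Lie and Kolchin
-/

set_option autoImplicit false
set_option linter.unusedSectionVars false

universe u v w

open TensorProduct WithConv Groth.ComodLib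
open scoped commutatorElement

noncomputable section

namespace Groth.Misc1.Unip

variable {k : Type u} [Field k] {A : Type v} [CommRing A] [HopfAlgebra k A]

/-- points with values in any algebra form a group -/
@[reducible] def convGrpC (C : Type w) [CommRing C] [Algebra k C] : Group (WithConv (A →ₐ[k] C)) where
  inv f := toConv (f.ofConv.comp (HopfAlgebra.antipodeAlgHom k A))
  inv_mul_cancel f := by
    apply WithConv.ofConv_injective
    have h := AlgHom.comp_convMul_distrib f.ofConv (toConv (HopfAlgebra.antipodeAlgHom k A))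
      (toConv (AlgHom.id k A))
    rw [AlgHom.antipode_id_cancel, ofConv_toConv, ofConv_toConv, AlgHom.comp_id, toConv_ofConv] at h
    rw [← h]
    apply AlgHom.ext; intro a
    exact f.ofConv.commutes _

attribute [local instance 100] convGrpC

section Push

variable {C : Type v} [CommRing C] [Algebra k C]

/-- push points along a map of test algebras -/
def pushPt {D : Type w} [CommRing D] [Algebra k D] (c : C →ₐ[k] D) :
    WithConv (A →ₐ[k] C) →* WithConv (A →ₐ[k] D) where
  toFun F := toConv (c.comp F.ofConv)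
  map_one' := by
    refine WithConv.ofConv_injective (AlgHom.ext fun a => ?_)
    simp
  map_mul' F G := WithConv.ofConv_injective (AlgHom.comp_convMul_distrib c F G)

theorem pushPt_apply {D : Type w} [CommRing D] [Algebra k D] (c : C →ₐ[k] D) (F : WithConv (A →ₐ[k] C)) (a : A) :
    (pushPt c F).ofConv a = c (F.ofConv a) := rfl

/-- constant families -/
def constPt (C : Type v) [CommRing C] [Algebra k C] : WithConv (A →ₐ[k] k) →* WithConv (A →ₐ[k] C) where
  toFun g := toConv ((Algebra.ofId k C).comp g.ofConv)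
  map_one' := by
    refine WithConv.ofConv_injective (AlgHom.ext fun a => ?_)
    simp [Algebra.ofId_apply]
  map_mul' F G := WithConv.ofConv_injective (AlgHom.comp_convMul_distrib (Algebra.ofId k C) F G)

theorem pushPt_constPt (c : C →ₐ[k] k) (g : WithConv (A →ₐ[k] k)) : pushPt c (constPt C g) = g :=
  WithConv.ofConv_injective (AlgHom.ext fun a => c.commutes _)

end Push

/-- a function on an irreducible variety with finitely many values is constant -/
theorem apply_eq_of_finite [IsAlgClosed k] {C : Type v} [CommRing C] [IsDomain C] [Algebra k C]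
    [Algebra.FiniteType k C] {f : C} {s : Set k} (hs : s.Finite) (h : ∀ c : C →ₐ[k] k, c f ∈ s)
    (c₀ c₁ : C →ₐ[k] k) : c₁ f = c₀ f := by
  classical
  have h0 : ∏ r ∈ hs.toFinset, (f - algebraMap k C r) = 0 := DimOne.eq_zero_of_points (k := k) fun c => by
    rw [map_prod]
    refine Finset.prod_eq_zero (hs.mem_toFinset.2 (h c)) ?_
    rw [map_sub, AlgHom.commutes]
    exact sub_self _
  obtain ⟨r, -, hr⟩ := Finset.prod_eq_zero_iff.1 h0
  rw [sub_eq_zero.1 hr, AlgHom.commutes, AlgHom.commutes]

/-- every element of `H` is joined to the identity inside `H` -/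
def IsConnSub (H : Subgroup (WithConv (A →ₐ[k] k))) : Prop :=
  ∀ h ∈ H, ∃ (C : Type v) (_ : CommRing C) (_ : Algebra k C) (_ : IsDomain C) (_ : Algebra.FiniteType k C)
    (F : WithConv (A →ₐ[k] C)) (c₀ c₁ : C →ₐ[k] k),
    pushPt c₀ F = 1 ∧ pushPt c₁ F = h ∧ ∀ c : C →ₐ[k] k, pushPt c F ∈ H

variable [IsAlgClosed k] [Algebra.FiniteType k A]

theorem isConnSub_top [IsDomain A] : IsConnSub (⊤ : Subgroup (WithConv (A →ₐ[k] k))) := fun h _ =>
  ⟨A, inferInstance, inferInstance, inferInstance, inferInstance, toConv (AlgHom.id k A),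
    (1 : WithConv (A →ₐ[k] k)).ofConv, h.ofConv,
    WithConv.ofConv_injective (AlgHom.ext fun _ => rfl), WithConv.ofConv_injective (AlgHom.ext fun _ => rfl),
    fun _ => Subgroup.mem_top _⟩

theorem isConnSub_commutator [IsDomain A] {H : Subgroup (WithConv (A →ₐ[k] k))} (hH : IsConnSub H) :
    IsConnSub ⁅H, H⁆ := by
  intro h hh
  rw [Subgroup.commutator_def] at hh
  induction hh using Subgroup.closure_induction with
  | mem x hx =>
    obtain ⟨a, ha, b, hb, rfl⟩ := hx
    obtain ⟨C, _, _, _, _, F, c₀, c₁, h0, h1, hC⟩ := hH a ha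
    obtain ⟨D, _, _, _, _, G, d₀, d₁, e0, e1, hD⟩ := hH b hb
    have : IsDomain (C ⊗[k] D) := Groth.VarietyBC.isDomain_tensor
    have : Algebra.FiniteType k (C ⊗[k] D) := Algebra.FiniteType.trans (S := C) ‹_› inferInstance
    let iC : C →ₐ[k] C ⊗[k] D := Algebra.TensorProduct.includeLeft
    let iD : D →ₐ[k] C ⊗[k] D := Algebra.TensorProduct.includeRight
    have key : ∀ e : C ⊗[k] D →ₐ[k] k, pushPt e ⁅pushPt iC F, pushPt iD G⁆ =
        ⁅pushPt (e.comp iC) F, pushPt (e.comp iD) G⁆ := fun e => by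
      rw [map_commutatorElement]
      rfl
    have hleft : ∀ (c : C →ₐ[k] k) (d : D →ₐ[k] k),
        (Algebra.TensorProduct.lift c d fun _ _ => Commute.all _ _).comp iC = c := fun c d =>
      Algebra.TensorProduct.lift_comp_includeLeft _ _ _
    have hright : ∀ (c : C →ₐ[k] k) (d : D →ₐ[k] k),
        (Algebra.TensorProduct.lift c d fun _ _ => Commute.all _ _).comp iD = d := fun c d =>
      AlgHom.ext fun x => by simp [iD]
    refine ⟨C ⊗[k] D, inferInstance, inferInstance, inferInstance, inferInstance,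
      ⁅pushPt iC F, pushPt iD G⁆, Algebra.TensorProduct.lift c₀ d₀ fun _ _ => Commute.all _ _,
      Algebra.TensorProduct.lift c₁ d₁ fun _ _ => Commute.all _ _, ?_, ?_, fun e => ?_⟩
    · rw [key, hleft, hright, h0, e0]
      simp
    · rw [key, hleft, hright, h1, e1]
    · rw [key]
      exact Subgroup.commutator_mem_commutator (hC _) (hD _)
  | one =>
    exact ⟨A, inferInstance, inferInstance, inferInstance, inferInstance, 1, (1 : WithConv (A →ₐ[k] k)).ofConv,
      (1 : WithConv (A →ₐ[k] k)).ofConv,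
      map_one (pushPt (A := A) _), map_one (pushPt (A := A) _),
      fun c => (map_one (pushPt (A := A) c)).symm ▸ one_mem _⟩
  | mul x y _ _ hx hy =>
    obtain ⟨C, _, _, _, _, F, c₀, c₁, h0, h1, hC⟩ := hx
    obtain ⟨D, _, _, _, _, G, d₀, d₁, e0, e1, hD⟩ := hy
    have : IsDomain (C ⊗[k] D) := Groth.VarietyBC.isDomain_tensor
    have : Algebra.FiniteType k (C ⊗[k] D) := Algebra.FiniteType.trans (S := C) ‹_› inferInstance
    let iC : C →ₐ[k] C ⊗[k] D := Algebra.TensorProduct.includeLeft
    let iD : D →ₐ[k] C ⊗[k] D := Algebra.TensorProduct.includeRight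
    have key : ∀ e : C ⊗[k] D →ₐ[k] k, pushPt e (pushPt iC F * pushPt iD G) =
        pushPt (e.comp iC) F * pushPt (e.comp iD) G := fun e => by
      rw [map_mul]
      rfl
    have hleft : ∀ (c : C →ₐ[k] k) (d : D →ₐ[k] k),
        (Algebra.TensorProduct.lift c d fun _ _ => Commute.all _ _).comp iC = c := fun c d =>
      Algebra.TensorProduct.lift_comp_includeLeft _ _ _
    have hright : ∀ (c : C →ₐ[k] k) (d : D →ₐ[k] k),
        (Algebra.TensorProduct.lift c d fun _ _ => Commute.all _ _).comp iD = d := fun c d =>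
      AlgHom.ext fun x => by simp [iD]
    refine ⟨C ⊗[k] D, inferInstance, inferInstance, inferInstance, inferInstance,
      pushPt iC F * pushPt iD G, Algebra.TensorProduct.lift c₀ d₀ fun _ _ => Commute.all _ _,
      Algebra.TensorProduct.lift c₁ d₁ fun _ _ => Commute.all _ _, ?_, ?_, fun e => ?_⟩
    · rw [key, hleft, hright, h0, e0, one_mul]
    · rw [key, hleft, hright, h1, e1]
    · rw [key]
      exact mul_mem (hC _) (hD _)
  | inv x _ hx =>
    obtain ⟨C, _, _, _, _, F, c₀, c₁, h0, h1, hC⟩ := hx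
    exact ⟨C, inferInstance, inferInstance, inferInstance, inferInstance, F⁻¹, c₀, c₁,
      by rw [map_inv, h0, inv_one], by rw [map_inv, h1], fun c => by rw [map_inv]; exact inv_mem (hC c)⟩

theorem isConnSub_derivedSeries [IsDomain A] :
    ∀ i, IsConnSub (derivedSeries (WithConv (A →ₐ[k] k)) i)
  | 0 => isConnSub_top
  | i + 1 => isConnSub_commutator (isConnSub_derivedSeries i)

variable {V : Type w} [AddCommGroup V] [Module k V] [HopfRep.Comod k A V] [Module.Finite k V]

/-- conjugation by a connected group fixes the weights -/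
theorem conj_char_eq {H : Subgroup (WithConv (A →ₐ[k] k))} (hH : IsConnSub H)
    {χ : WithConv (A →ₐ[k] k) → k} {x : V} (hx0 : x ≠ 0) {κ : WithConv (A →ₐ[k] k)}
    (hg : ∀ g ∈ H, pointAct k A V (g⁻¹ * κ * g) x = χ (g⁻¹ * κ * g) • x)
    {h : WithConv (A →ₐ[k] k)} (hh : h ∈ H) : χ (h⁻¹ * κ * h) = χ κ := by
  obtain ⟨C, _, _, _, _, F, c₀, c₁, h0, h1, hC⟩ := hH h hh
  obtain ⟨ψ, hψ⟩ : ∃ ψ : V →ₗ[k] k, ψ x = 1 := by
    obtain ⟨f, hf⟩ : ∃ f : V →ₗ[k] k, f x ≠ 0 := by
      by_contra hne
      push Not at hne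
      exact hx0 ((Module.forall_dual_apply_eq_zero_iff k x).1 hne)
    exact ⟨(f x)⁻¹ • f, by rw [LinearMap.smul_apply, smul_eq_mul, inv_mul_cancel₀ hf]⟩
  set f := (F⁻¹ * constPt C κ * F).ofConv (cf (A := A) ψ x) with hf
  have hval : ∀ c : C →ₐ[k] k, c f = χ ((pushPt c F)⁻¹ * κ * pushPt c F) := by
    intro c
    rw [hf, ← pushPt_apply, map_mul, map_mul, map_inv, pushPt_constPt]
    set g := (pushPt c F)⁻¹ * κ * pushPt c F
    change g.ofConv.toLinearMap (cf (A := A) ψ x) = _
    rw [apply_cf, ← pointAct_apply, hg _ (hC c), map_smul, hψ, smul_eq_mul, mul_one]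
  have h01 := apply_eq_of_finite (Module.End.finite_hasEigenvalue (pointAct k A V κ)) (fun c => by
    change Module.End.HasEigenvalue (pointAct k A V κ) (c f)
    rw [hval]
    set g := pushPt c F
    refine Module.End.hasEigenvalue_of_hasEigenvector (x := pointAct k A V g x)
      ⟨Module.End.mem_eigenspace_iff.2 ?_, fun e => hx0 ?_⟩
    · rw [← map_smul, ← hg g (hC c), ← Module.End.mul_apply, ← Module.End.mul_apply, ← map_mul, ← map_mul]
      congr 2
      group
    · have e2 := congrArg (pointAct k A V g⁻¹) e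
      rwa [← Module.End.mul_apply, ← map_mul, inv_mul_cancel, map_one, Module.End.one_apply, map_zero] at e2)
    c₀ c₁
  rw [hval, hval, h0, h1] at h01
  simpa using h01

theorem exists_eigvec_step {H K : Subgroup (WithConv (A →ₐ[k] k))} (hH : IsConnSub H) (hKH : K ≤ H)
    (hcomm : ∀ a ∈ H, ∀ b ∈ H, ⁅a, b⁆ ∈ K) {x : V} (hx0 : x ≠ 0)
    (hx : ∀ κ ∈ K, ∃ r : k, pointAct k A V κ x = r • x) :
    ∃ y : V, y ≠ 0 ∧ ∀ h ∈ H, ∃ r : k, pointAct k A V h y = r • y := by
  classical
  choose! χ hχ using hx
  have hnormal : ∀ a ∈ H, ∀ κ ∈ K, a⁻¹ * κ * a ∈ K := by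
    intro a ha κ hκ
    have h1 := hcomm a⁻¹ (inv_mem ha) κ (hKH hκ)
    have h2 : a⁻¹ * κ * a = ⁅a⁻¹, κ⁆ * κ := by rw [commutatorElement_def]; group
    rw [h2]
    exact mul_mem h1 hκ
  let U : Submodule k V := ⨅ κ : K, LinearMap.ker (pointAct k A V κ.1 - χ κ.1 • (1 : Module.End k V))
  have hU : ∀ {z : V}, z ∈ U ↔ ∀ κ ∈ K, pointAct k A V κ z = χ κ • z := by
    intro z
    simp only [U, Submodule.mem_iInf, LinearMap.mem_ker, LinearMap.sub_apply, LinearMap.smul_apply,
      Module.End.one_apply, sub_eq_zero]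
    exact ⟨fun h κ hκ => h ⟨κ, hκ⟩, fun h κ => h κ.1 κ.2⟩
  have hxU : x ∈ U := hU.2 hχ
  have hstab : ∀ h ∈ H, ∀ z ∈ U, pointAct k A V h z ∈ U := by
    intro h hh z hz
    refine hU.2 fun κ hκ => ?_
    have hT : ∀ g ∈ H, pointAct k A V κ (pointAct k A V g z) = χ (g⁻¹ * κ * g) • pointAct k A V g z := by
      intro g hg
      rw [← map_smul, ← hU.1 hz _ (hnormal g hg κ hκ), ← Module.End.mul_apply, ← Module.End.mul_apply,
        ← map_mul, ← map_mul]
      congr 2
      group
    rw [hT h hh]
    congr 1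
    exact conj_char_eq hH hx0 (fun g hg => hχ _ (hnormal g hg κ hκ)) hh
  have hUne : U ≠ ⊥ := fun e => hx0 ((Submodule.mem_bot k).1 (e ▸ hxU))
  let R : H →* Module.End k U :=
    { toFun := fun h => (pointAct k A V h.1).restrict (hstab h.1 h.2)
      map_one' := LinearMap.ext fun z => Subtype.ext (by
        change pointAct k A V 1 z.1 = z.1
        rw [map_one, Module.End.one_apply])
      map_mul' := fun a b => LinearMap.ext fun z => Subtype.ext (by
        change pointAct k A V (a.1 * b.1) z.1 = pointAct k A V a.1 (pointAct k A V b.1 z.1)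
        rw [map_mul, Module.End.mul_apply]) }
  have hcommute : ∀ a b : H, R a * R b = R b * R a := by
    intro a b
    have hone : χ ⁅a.1, b.1⁆ = 1 := by
      obtain ⟨C, _, _, _, _, F, c₀, c₁, h0, h1, hC⟩ := hH a.1 a.2
      obtain ⟨ψ, hψ⟩ : ∃ ψ : V →ₗ[k] k, ψ x = 1 := by
        obtain ⟨f, hf⟩ : ∃ f : V →ₗ[k] k, f x ≠ 0 := by
          by_contra hne
          push Not at hne
          exact hx0 ((Module.forall_dual_apply_eq_zero_iff k x).1 hne)
        exact ⟨(f x)⁻¹ • f, by rw [LinearMap.smul_apply, smul_eq_mul, inv_mul_cancel₀ hf]⟩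
      set f := (⁅F, constPt C b.1⁆).ofConv (cf (A := A) ψ x) with hf
      have hval : ∀ c : C →ₐ[k] k, c f = χ ⁅pushPt c F, b.1⁆ := by
        intro c
        rw [hf, ← pushPt_apply, map_commutatorElement, pushPt_constPt]
        set g := ⁅pushPt c F, b.1⁆
        change g.ofConv.toLinearMap (cf (A := A) ψ x) = _
        rw [apply_cf, ← pointAct_apply, hχ g (hcomm _ (hC c) _ b.2), map_smul, hψ, smul_eq_mul, mul_one]
      set d := Module.finrank k U with hd
      have hd0 : d ≠ 0 := by
        have : Nontrivial U := Submodule.nontrivial_iff_ne_bot.2 hUne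
        exact (Module.finrank_pos (R := k) (M := U)).ne'
      have hroot : ∀ c : C →ₐ[k] k, c f ∈ {r : k | r ^ d = 1} := by
        intro c
        rw [hval]
        set g : H := ⟨pushPt c F, hC c⟩
        have hR : R ⁅g, b⁆ = χ ⁅pushPt c F, b.1⁆ • 1 := by
          refine LinearMap.ext fun z => Subtype.ext ?_
          change pointAct k A V (⁅g, b⁆ : H).1 z.1 = χ ⁅pushPt c F, b.1⁆ • z.1
          exact hU.1 z.2 _ (hcomm _ (hC c) _ b.2)
        have hdet := congrArg LinearMap.det hR
        rw [LinearMap.det_smul, map_one, mul_one] at hdet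
        change χ ⁅pushPt c F, b.1⁆ ^ d = 1
        rw [← hdet]
        have hm := map_commutatorElement ((LinearMap.det.comp R).toHomUnits) g b
        have hm' := hm.trans (commutatorElement_eq_one_iff_mul_comm.2 (mul_comm _ _))
        exact congrArg Units.val hm'
      have hfin : ({r : k | r ^ d = 1}).Finite := by
        refine (Polynomial.X ^ d - Polynomial.C (1 : k)).roots.toFinset.finite_toSet.subset fun r hr => ?_
        rw [Finset.mem_coe, Multiset.mem_toFinset, Polynomial.mem_roots (Polynomial.X_pow_sub_C_ne_zero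
          (Nat.pos_of_ne_zero hd0) 1)]
        simpa [Polynomial.IsRoot, sub_eq_zero] using hr
      have h01 := apply_eq_of_finite hfin hroot c₀ c₁
      rw [hval, hval, h0, h1, commutatorElement_one_left] at h01
      rw [h01]
      have h11 := hχ 1 (one_mem K)
      rw [map_one, Module.End.one_apply] at h11
      exact smul_left_injective k hx0 (((one_smul k x).trans h11).symm)
    have hab : a * b = ⁅a, b⁆ * (b * a) := by rw [commutatorElement_def]; group
    rw [← map_mul, ← map_mul, hab, map_mul]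
    have : R ⁅a, b⁆ = 1 := LinearMap.ext fun z => Subtype.ext (by
      change pointAct k A V (⁅a, b⁆ : H).1 z.1 = z.1
      refine (hU.1 z.2 _ (hcomm _ a.2 _ b.2)).trans ?_
      rw [hone, one_smul])
    rw [this, one_mul]
  obtain ⟨W, ⟨hW0, hW⟩, hmin⟩ := WellFounded.has_min (wellFounded_lt (α := Submodule k U))
    {W | W ≠ ⊥ ∧ ∀ a : H, ∀ z ∈ W, R a z ∈ W}
    ⟨⊤, by
      have : Nontrivial U := Submodule.nontrivial_iff_ne_bot.2 hUne
      exact top_ne_bot, fun _ _ _ => Submodule.mem_top⟩
  obtain ⟨z, hz, hz0⟩ := (Submodule.ne_bot_iff _).1 hW0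
  refine ⟨z.1, fun e => hz0 (Subtype.ext e), fun h hh => ?_⟩
  have : Nontrivial W := Submodule.nontrivial_iff_ne_bot.2 hW0
  let P : Module.End k W := (R ⟨h, hh⟩).restrict (hW ⟨h, hh⟩)
  obtain ⟨r, hr⟩ := Module.End.exists_eigenvalue P
  obtain ⟨e, he⟩ := hr.exists_hasEigenvector
  let W' : Submodule k U := W ⊓ Module.End.eigenspace (R ⟨h, hh⟩) r
  have heW : (e : U) ∈ W' := ⟨e.2, Module.End.mem_eigenspace_iff.2 (congrArg Subtype.val he.apply_eq_smul)⟩
  have hW' : W' = W := by
    refine (inf_le_left : W' ≤ W).eq_of_not_lt (hmin W' ⟨fun e' => he.2 (Subtype.ext ?_), fun a q hq => ⟨hW a q hq.1, ?_⟩⟩)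
    · exact (Submodule.mem_bot k).1 (e' ▸ heW)
    · refine Module.End.mem_eigenspace_iff.2 ?_
      have hq2 := Module.End.mem_eigenspace_iff.1 hq.2
      rw [← Module.End.mul_apply, hcommute, Module.End.mul_apply, hq2, map_smul]
  refine ⟨r, ?_⟩
  have hzW : z ∈ W' := hW'.symm ▸ hz
  exact congrArg Subtype.val (Module.End.mem_eigenspace_iff.1 hzW.2)

/-- Lie–Kolchin -/
theorem exists_common_eigvec [IsDomain A] [Group.IsSolvable (WithConv (A →ₐ[k] k))] [Nontrivial V] :
    ∃ y : V, y ≠ 0 ∧ ∀ g : WithConv (A →ₐ[k] k), ∃ r : k, pointAct k A V g y = r • y := by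
  obtain ⟨n, hn⟩ := Group.IsSolvable.solvable (G := WithConv (A →ₐ[k] k))
  obtain ⟨x₀, hx₀⟩ := exists_ne (0 : V)
  have key : ∀ j, j ≤ n → ∃ y : V, y ≠ 0 ∧
      ∀ g ∈ derivedSeries (WithConv (A →ₐ[k] k)) (n - j), ∃ r : k, pointAct k A V g y = r • y := by
    intro j
    induction j with
    | zero =>
      intro _
      refine ⟨x₀, hx₀, fun g hg => ⟨1, ?_⟩⟩
      rw [Nat.sub_zero, hn, Subgroup.mem_bot] at hg
      rw [hg, map_one, Module.End.one_apply, one_smul]
    | succ j ih =>
      intro hj
      obtain ⟨x, hx0, hx⟩ := ih (by omega)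
      have e : n - j = (n - (j + 1)) + 1 := by omega
      rw [e, derivedSeries_succ] at hx
      refine exists_eigvec_step (isConnSub_derivedSeries _) ?_ (fun a ha b hb =>
        Subgroup.commutator_mem_commutator ha hb) hx0 hx
      rw [Subgroup.commutator_le]
      intro a ha b hb
      rw [commutatorElement_def]
      exact mul_mem (mul_mem (mul_mem ha hb) (inv_mem ha)) (inv_mem hb)
  obtain ⟨y, hy0, hy⟩ := key n le_rfl
  rw [Nat.sub_self, derivedSeries_zero] at hy
  exact ⟨y, hy0, fun g => hy g (Subgroup.mem_top g)⟩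

/-- connected solvable groups are trigonalizable -/
theorem isTrigonalizable_of_solvable {k : Type u} [Field k] [IsAlgClosed k] {A : Type v} [CommRing A]
    [HopfAlgebra k A] [Algebra.FiniteType k A] [IsDomain A] [Group.IsSolvable (WithConv (A →ₐ[k] k))] :
    HopfRep.IsTrigonalizable k A := by
  intro V _ _ _ _ hV
  have := hV.1
  obtain ⟨y, hy0, hy⟩ := exists_common_eigvec (k := k) (A := A) (V := V)
  have hsub : HopfRep.IsSubcomod (k := k) (A := A) (Submodule.span k {y}) := by
    have hy' : ∀ φ : A →ₗ[k] k, op φ y ∈ Submodule.span k {y} := by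
      intro φ
      rw [← Submodule.Quotient.mk_eq_zero]
      refine (Module.forall_dual_apply_eq_zero_iff k _).1 fun ψ => ?_
      let α : V →ₗ[k] k := ψ ∘ₗ (Submodule.span k {y}).mkQ
      have hα : cf (A := A) α y = 0 := DimOne.eq_zero_of_points (k := k) fun g => by
        obtain ⟨r, hr⟩ := hy (toConv g)
        change g.toLinearMap (cf (A := A) α y) = 0
        rw [apply_cf, show op g.toLinearMap y = r • y from hr, map_smul]
        change r • ψ ((Submodule.span k {y}).mkQ y) = 0
        rw [Submodule.mkQ_apply, (Submodule.Quotient.mk_eq_zero _).2 (Submodule.mem_span_singleton_self y),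
          map_zero, smul_zero]
      change α (op φ y) = 0
      rw [← apply_cf, hα, map_zero]
    refine (isSubcomod_iff _).2 fun φ z hz => ?_
    obtain ⟨c, rfl⟩ := Submodule.mem_span_singleton.1 hz
    rw [map_smul]
    exact Submodule.smul_mem _ _ (hy' φ)
  rcases hV.2 _ hsub with h | h
  · exact absurd (Submodule.span_singleton_eq_bot.1 h) hy0
  · rw [← finrank_top k V, ← h, finrank_span_singleton hy0]

theorem isDomain_of_connected' {k : Type u} [Field k] {A : Type v} [CommRing A] [HopfAlgebra k A]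
    [Algebra.FiniteType k A] [IsReduced A] (hconn : ∀ e : A, IsIdempotentElem e → e = 0 ∨ e = 1) : IsDomain A := by
  obtain ⟨S, _, _, hS, ⟨e⟩⟩ := exists_small_model (k := k) (A := A)
  letI hH : HopfAlgebra k S := hopfAlgebraOfEquiv e
  haveI : IsReduced S := isReduced_of_injective e.symm e.symm.injective
  have : IsDomain S := Groth.HopfDim.isDomain_of_connected k S fun s hs =>
    (hconn (e.symm s) (hs.map e.symm)).imp (fun h => e.symm.injective (h.trans (map_zero _).symm))
      (fun h => e.symm.injective (h.trans (map_one _).symm))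
  exact e.injective.isDomain e

end Groth.Misc1.Unip
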