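import Groth.Agent.Hopf.Unipotent
import Groth.Agent.Hopf.Push
import Groth.Agent.Sga3.SubHopfFlat

/-!
# Unipotent groups: quotients, extensions by subgroups of the additive group
-/

set_option autoImplicit false
set_option linter.unusedSectionVars false

universe u v w

open TensorProduct WithConv Groth.ComodLib

noncomputable section

namespace Groth.Misc1.Unip

variable {k : Type u} [Field k]

section Bialg

variable {A : Type v} [CommRing A] [Bialgebra k A] {B : Type v} [CommRing B] [Bialgebra k B]

/-- exhaustive fixed series of the regular comodule gives unipotence -/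
theorem isUnipotent_of_exhaustive (h : ∀ a : A, ∃ m, a ∈ fixSeries k A A m) :
    HopfRep.IsUnipotent k A := by
  obtain ⟨C, hC, h0, htop, hcomul⟩ := coconnected_of_exhaustive h
  intro V _ _ _ _ _
  exact fixedPts_ne_bot_of_coconnected C hC h0 htop hcomul

theorem map_mem_fixSeries (q : A →ₐc[k] B) : ∀ (n : ℕ) (a : A), a ∈ fixSeries k A A n →
    q a ∈ fixSeries k B B n
  | 0, a, ha => by
    rw [show a = 0 from (Submodule.mem_bot k).1 ha, map_zero]
    exact Submodule.zero_mem _
  | n + 1, a, ha => mem_fixSeries_succ.2 fun φ => by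
    have e : op (augL φ) (q a) = q (op (augL (φ ∘ₗ (q : A →ₗ[k] B))) a) := by
      have e1 : augL (φ ∘ₗ (q : A →ₗ[k] B)) = augL φ ∘ₗ (q : A →ₗ[k] B) := by
        ext b
        simp [augL]
      rw [e1, op_apply, op_apply]
      change slice (augL φ) (Coalgebra.comul (R := k) (q a)) =
        q (slice (augL φ ∘ₗ (q : A →ₗ[k] B)) (Coalgebra.comul (R := k) a))
      rw [← CoalgHomClass.map_comp_comul_apply q a]
      generalize Coalgebra.comul (R := k) a = z
      induction z using TensorProduct.induction_on with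
      | zero => simp
      | tmul p r => simp
      | add p r hp hr => simp only [map_add, hp, hr]
    rw [e]
    exact map_mem_fixSeries q n _ (mem_fixSeries_succ.1 ha _)

theorem exhaustive_of_surjective (q : A →ₐc[k] B) (hq : Function.Surjective q)
    (hU : HopfRep.IsUnipotent k A) (b : B) : ∃ m, b ∈ fixSeries k B B m := by
  obtain ⟨a, rfl⟩ := hq b
  obtain ⟨m, hm⟩ := exists_mem_fixSeries hU a
  exact ⟨m, map_mem_fixSeries q m a hm⟩

/-- a quotient bialgebra of a unipotent one is unipotent -/
theorem isUnipotent_of_surjective (q : A →ₐc[k] B) (hq : Function.Surjective q)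
    (hU : HopfRep.IsUnipotent k A) : HopfRep.IsUnipotent k B :=
  isUnipotent_of_exhaustive (exhaustive_of_surjective q hq hU)

/-- a unipotent bialgebra other than `k` has a nonzero primitive element -/
theorem exists_primitive_of_exhaustive (h : ∀ a : A, ∃ m, a ∈ fixSeries k A A m)
    {a : A} (ha : a ∉ Submodule.span k {(1 : A)}) :
    ∃ x : A, x ≠ 0 ∧ Coalgebra.comul (R := k) x = x ⊗ₜ[k] (1 : A) + (1 : A) ⊗ₜ[k] x := by
  have h1 : fixSeries k A A 1 = Submodule.span k {(1 : A)} := fixSeries_regular_one
  obtain ⟨b, hb2, hb1⟩ : ∃ b, b ∈ fixSeries k A A 2 ∧ b ∉ fixSeries k A A 1 := by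
    by_contra hne
    push Not at hne
    have hall : ∀ n, fixSeries k A A n ≤ fixSeries k A A 1 := by
      intro n
      induction n with
      | zero => exact bot_le
      | succ n ih =>
        exact fun c hc => hne c (mem_fixSeries_succ.2 fun φ => ih (mem_fixSeries_succ.1 hc φ))
    obtain ⟨m, hm⟩ := h a
    exact ha (h1 ▸ hall m hm)
  obtain ⟨z, hz⟩ := mem_fixSeries_succ_iff_coact.1 hb2
  obtain ⟨y, hy⟩ : ∃ y : A, (fixSeries k A A 1).subtype.rTensor A z = (1 : A) ⊗ₜ[k] y := by
    clear hz
    induction z using TensorProduct.induction_on with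
    | zero => exact ⟨0, by simp⟩
    | tmul p r =>
      obtain ⟨c, hc⟩ := Submodule.mem_span_singleton.1 (h1.le p.2)
      refine ⟨c • r, ?_⟩
      rw [LinearMap.rTensor_tmul, Submodule.subtype_apply, ← hc, TensorProduct.smul_tmul]
    | add p r hp hr =>
      obtain ⟨y1, h1'⟩ := hp
      obtain ⟨y2, h2'⟩ := hr
      exact ⟨y1 + y2, by rw [map_add, h1', h2', TensorProduct.tmul_add]⟩
  rw [hy] at hz
  change (1 : A) ⊗ₜ[k] y = Coalgebra.comul (R := k) b - b ⊗ₜ[k] (1 : A) at hz
  set c := Coalgebra.counit (R := k) b with hc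
  have hy' : y = b - c • (1 : A) := by
    have := congrArg (fun t => TensorProduct.lid k A ((Coalgebra.counit (R := k) (A := A)).rTensor A t)) hz
    simpa [map_sub] using this
  refine ⟨b - c • (1 : A), fun h0 => hb1 ?_, ?_⟩
  · rw [h1, sub_eq_zero.1 h0]
    exact Submodule.smul_mem _ _ (Submodule.mem_span_singleton_self _)
  · rw [map_sub, map_smul, Bialgebra.comul_one, Algebra.TensorProduct.one_def,
      (sub_eq_iff_eq_add.1 hz.symm : Coalgebra.comul (R := k) b = _), hy', TensorProduct.sub_tmul,
      TensorProduct.tmul_sub, TensorProduct.tmul_smul, ← TensorProduct.smul_tmul']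
    abel

theorem counit_primitive {x : A}
    (hx : Coalgebra.comul (R := k) x = x ⊗ₜ[k] (1 : A) + (1 : A) ⊗ₜ[k] x) :
    Coalgebra.counit (R := k) x = 0 := by
  have := congrArg (fun t => TensorProduct.lid k A ((Coalgebra.counit (R := k) (A := A)).rTensor A t)) hx
  simp only [Coalgebra.rTensor_counit_comul, map_add, LinearMap.rTensor_tmul, TensorProduct.lid_tmul,
    Bialgebra.counit_one, one_smul] at this
  have h2 := congrArg (Coalgebra.counit (R := k)) (show Coalgebra.counit (R := k) x • (1 : A) = 0 by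
    simpa using this.symm)
  simpa using h2

end Bialg

section Hopf

variable {B : Type v} [CommRing B] [HopfAlgebra k B] {x : B}
  (hx : Coalgebra.comul (R := k) x = x ⊗ₜ[k] (1 : B) + (1 : B) ⊗ₜ[k] x)

include hx

theorem antipode_primitive : HopfAlgebra.antipode k x = -x := by
  have h := HopfAlgebra.mul_antipode_rTensor_comul_apply (R := k) x
  rw [hx] at h
  simp [counit_primitive hx] at h
  exact eq_neg_of_add_eq_zero_left h

theorem adjoin_comul {b : B} (hb : b ∈ Algebra.adjoin k {x}) :
    Coalgebra.comul (R := k) b ∈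
      (Algebra.TensorProduct.map (Algebra.adjoin k {x}).val (Algebra.adjoin k {x}).val).range := by
  refine (Algebra.adjoin_le ?_ : Algebra.adjoin k {x} ≤
    (Algebra.TensorProduct.map (Algebra.adjoin k {x}).val (Algebra.adjoin k {x}).val).range.comap
      (Bialgebra.comulAlgHom k B)) hb
  rintro y hy
  obtain rfl : x = y := (Set.mem_singleton_iff.1 hy).symm
  let x' : Algebra.adjoin k {x} := ⟨x, Algebra.subset_adjoin rfl⟩
  exact ⟨x' ⊗ₜ[k] 1 + 1 ⊗ₜ[k] x', by simp [hx, x']⟩

theorem adjoin_antipode {b : B} (hb : b ∈ Algebra.adjoin k {x}) :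
    HopfAlgebra.antipode k b ∈ Algebra.adjoin k {x} := by
  refine (Algebra.adjoin_le ?_ : Algebra.adjoin k {x} ≤
    (Algebra.adjoin k {x}).comap (HopfAlgebra.antipodeAlgHom k B)) hb
  rintro y hy
  obtain rfl : x = y := (Set.mem_singleton_iff.1 hy).symm
  change HopfAlgebra.antipode k x ∈ Algebra.adjoin k {x}
  rw [antipode_primitive hx]
  exact Subalgebra.neg_mem _ (Algebra.subset_adjoin (R := k) (Set.mem_singleton x))

theorem pow_mem_fixSeries : ∀ i : ℕ, x ^ i ∈ fixSeries k B B (i + 1) := by
  intro i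
  induction i using Nat.strong_induction_on with
  | _ i ih =>
    refine mem_fixSeries_succ.2 fun φ => ?_
    rw [op_apply]
    change slice (augL φ) (Bialgebra.comulAlgHom k B (x ^ i)) ∈ _
    rw [map_pow, Bialgebra.comulAlgHom_apply, hx, add_pow, map_sum]
    refine Submodule.sum_mem _ fun j hj => ?_
    rw [Algebra.TensorProduct.tmul_pow, Algebra.TensorProduct.tmul_pow, one_pow, one_pow,
      Algebra.TensorProduct.tmul_mul_tmul, one_mul, mul_one, ← Nat.cast_comm, ← nsmul_eq_mul, map_nsmul,
      slice_tmul]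
    refine nsmul_mem ?_ _
    have hj' : j ≤ i := Nat.lt_succ_iff.1 (Finset.mem_range.1 hj)
    rcases eq_or_lt_of_le hj' with rfl | hlt
    · simp [augL_one]
    · exact Submodule.smul_mem _ _ (fixSeries_mono (by omega) (ih j hlt))

theorem adjoin_exhaustive {b : B} (hb : b ∈ Algebra.adjoin k {x}) : ∃ n, b ∈ fixSeries k B B n := by
  rw [Algebra.adjoin_singleton_eq_range_aeval] at hb
  obtain ⟨p, rfl⟩ := hb
  refine ⟨p.natDegree + 1, ?_⟩
  change Polynomial.aeval x p ∈ _
  rw [Polynomial.aeval_eq_sum_range]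
  exact Submodule.sum_mem _ fun i hi => Submodule.smul_mem _ _
    (fixSeries_mono (by have := Finset.mem_range.1 hi; omega) (pow_mem_fixSeries hx i))

/-- invariants of the subgroup cut out by a primitive element are polynomials in it -/
theorem mem_adjoin_of_invariant {B' : Type w} [CommRing B'] [Bialgebra k B'] (q : B →ₐc[k] B')
    (hq : Function.Surjective q) (hker : ∀ b, q b = 0 → b ∈ Ideal.span {x}) {b : B}
    (hb : (q : B →ₗ[k] B').lTensor B (Coalgebra.comul (R := k) b) = b ⊗ₜ[k] (1 : B')) :
    b ∈ Algebra.adjoin k {x} := by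
  set D := Algebra.adjoin k {x}
  have hff : Module.FaithfullyFlat D B := Groth.Sga3.SubHopfFlat.faithfullyFlat D
    (fun c hc => by
      obtain ⟨t, ht⟩ := adjoin_comul hx hc
      exact ⟨t, ht⟩) fun c hc => adjoin_antipode hx hc
  let iL : B →ₐ[k] B ⊗[D] B := Algebra.TensorProduct.includeLeft
  let iR : B →ₐ[k] B ⊗[D] B :=
    (Algebra.TensorProduct.includeRight (R := D) (A := B) (B := B)).restrictScalars k
  let iS : B →ₐ[k] B ⊗[D] B := iL.comp (HopfAlgebra.antipodeAlgHom k B)
  let P : B →ₐ[k] B ⊗[D] B := (toConv iS * toConv iR).ofConv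
  let Ψ : B ⊗[k] B →ₐ[k] B ⊗[D] B := Algebra.TensorProduct.lift iL P fun _ _ => Commute.all _ _
  have hP : ∀ c : B, P c = Algebra.TensorProduct.lift iS iR
      (fun _ _ => Commute.all _ _) (Coalgebra.comul (R := k) c) :=
    fun c => AlgHom.convMul_apply (toConv iS) (toConv iR) c
  have hinv : toConv iL * toConv iS = 1 := by
    have h1 : toConv (AlgHom.id k B) * toConv (HopfAlgebra.antipodeAlgHom k B) = 1 :=
      mul_inv_cancel (toConv (AlgHom.id k B))
    have h2 := AlgHom.comp_convMul_distrib iL (toConv (AlgHom.id k B))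
      (toConv (HopfAlgebra.antipodeAlgHom k B))
    rw [h1] at h2
    apply WithConv.ofConv_injective
    refine h2.symm.trans (AlgHom.ext fun c => ?_)
    exact iL.commutes _
  have hΨ : ∀ c : B, Ψ (Coalgebra.comul (R := k) c) = iR c := by
    intro c
    refine (AlgHom.convMul_apply (toConv iL) (toConv P) c).symm.trans ?_
    have h3 : (toConv iL * toConv iS) * toConv iR = toConv iL * (toConv iS * toConv iR) :=
      mul_assoc (toConv iL) (toConv iS) (toConv iR)
    rw [hinv] at h3
    have h4 : (toConv iR : WithConv (B →ₐ[k] B ⊗[D] B)) = toConv iL * (toConv iS * toConv iR) :=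
      (one_mul (toConv iR)).symm.trans h3
    exact congrArg (fun t : WithConv (B →ₐ[k] B ⊗[D] B) => t.ofConv c) h4.symm
  have hPx : P x = 0 := by
    rw [hP, hx, map_add, Algebra.TensorProduct.lift_tmul, Algebra.TensorProduct.lift_tmul, map_one,
      map_one, mul_one, one_mul]
    change (HopfAlgebra.antipode k x) ⊗ₜ[D] (1 : B) + (1 : B) ⊗ₜ[D] x = 0
    rw [antipode_primitive hx, TensorProduct.neg_tmul]
    let x' : D := ⟨x, Algebra.subset_adjoin rfl⟩
    have e : x ⊗ₜ[D] (1 : B) = (1 : B) ⊗ₜ[D] x := by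
      have e1 : x' • (1 : B) = x := by simp [x', Subalgebra.smul_def]
      have e2 : (x' • (1 : B)) ⊗ₜ[D] (1 : B) = (1 : B) ⊗ₜ[D] (x' • (1 : B)) :=
        TensorProduct.smul_tmul x' (1 : B) (1 : B)
      rwa [e1] at e2
    rw [e, neg_add_cancel]
  have hmem : Coalgebra.comul (R := k) b - b ⊗ₜ[k] (1 : B) ∈
      RingHom.ker (Algebra.TensorProduct.map (AlgHom.id k B) (q : B →ₐ[k] B')) := by
    rw [RingHom.mem_ker, map_sub, Algebra.TensorProduct.map_tmul, sub_eq_zero]
    refine (Eq.trans ?_ hb).trans (by simp)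
    rfl
  rw [Algebra.TensorProduct.lTensor_ker (A := B) (g := (q : B →ₐ[k] B')) hq] at hmem
  have hle : Ideal.map (Algebra.TensorProduct.includeRight : B →ₐ[k] B ⊗[k] B)
      (RingHom.ker (q : B →ₐ[k] B')) ≤ RingHom.ker Ψ := by
    rw [Ideal.map_le_iff_le_comap]
    intro c hc
    obtain ⟨d, rfl⟩ := Ideal.mem_span_singleton'.1 (hker c hc)
    simp [Ψ, hPx]
  have h0 := hle hmem
  rw [RingHom.mem_ker, map_sub, hΨ, Algebra.TensorProduct.lift_tmul, map_one, mul_one, sub_eq_zero] at h0
  have hmem' := (Algebra.IsEffective.of_faithfullyFlat D B b).1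
    (show Algebra.TensorProduct.includeLeftSubRight D B b = 0 by
      rw [Algebra.TensorProduct.includeLeftSubRight_apply, sub_eq_zero]
      exact h0.symm)
  obtain ⟨d, rfl⟩ := hmem'
  exact d.2

/-- extension of a unipotent group by a subgroup of `Gₐ` -/
theorem isUnipotent_of_primitive {B' : Type v} [CommRing B'] [Bialgebra k B'] (q : B →ₐc[k] B')
    (hq : Function.Surjective q) (hker : ∀ b, q b = 0 → b ∈ Ideal.span {x})
    (hU : HopfRep.IsUnipotent k B') : HopfRep.IsUnipotent k B := by
  classical
  intro V _ _ c _ _ hbot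
  let c' : HopfRep.Comod k B' V := pushComod (q : B →ₗc[k] B') c
  obtain ⟨w, hw, hw0⟩ := (Submodule.ne_bot_iff _).1 (@hU V _ _ c' inferInstance inferInstance)
  replace hw : (q : B →ₗ[k] B').lTensor V (c.coact w) = w ⊗ₜ[k] (1 : B') := hw
  have hinv : ∀ α : V →ₗ[k] k, cf (A := B) α w ∈ Algebra.adjoin k {x} := by
    intro α
    refine mem_adjoin_of_invariant hx q hq hker ?_
    rw [comul_cf, ← LinearMap.comp_apply, LinearMap.lTensor_comp_rTensor,
      ← LinearMap.rTensor_comp_lTensor, LinearMap.comp_apply, hw, LinearMap.rTensor_tmul]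
  let Φ : (V →ₗ[k] k) →ₗ[k] B :=
    { toFun := fun α => cf (A := B) α w
      map_add' := fun α β => by
        simp only [cf_apply]
        induction HopfRep.Comod.coact (k := k) (A := B) w using TensorProduct.induction_on with
        | zero => simp
        | tmul p r => simp [add_smul]
        | add p r hp hr => simp only [map_add, hp, hr]; abel
      map_smul' := fun t α => by
        simp only [cf_apply, RingHom.id_apply]
        induction HopfRep.Comod.coact (k := k) (A := B) w using TensorProduct.induction_on with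
        | zero => simp
        | tmul p r => simp [mul_smul]
        | add p r hp hr => simp only [map_add, hp, hr, smul_add] }
  let P : ℕ → Prop := fun n => ∃ v : V, v ≠ 0 ∧ ∀ α : V →ₗ[k] k, cf (A := B) α v ∈ fixSeries k B B n
  have hex : ∃ n, P n := by
    let bs := Module.Free.chooseBasis k (V →ₗ[k] k)
    choose f hf using fun i => adjoin_exhaustive hx (hinv (bs i))
    refine ⟨Finset.univ.sup f, w, hw0, fun α => ?_⟩
    change Φ α ∈ _
    rw [← bs.sum_repr α, map_sum]
    exact Submodule.sum_mem _ fun i _ => by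
      rw [map_smul]
      exact Submodule.smul_mem _ _ (fixSeries_mono (Finset.le_sup (Finset.mem_univ i)) (hf i))
  obtain ⟨v, hv0, hv⟩ := Nat.find_spec hex
  rcases hn : Nat.find hex with _ | m
  · refine hv0 ((Module.forall_dual_apply_eq_zero_iff k v).1 fun α => ?_)
    have := hv α
    rw [hn] at this
    rw [← op_counit (k := k) (A := B) v, ← apply_cf, (Submodule.mem_bot k).1 this, map_zero]
  · have hfix : v ∈ HopfRep.fixedPts k B V := by
      rw [← fixSeries_one, mem_fixSeries_succ]
      intro φ
      rw [show fixSeries k B V 0 = ⊥ from rfl, Submodule.mem_bot]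
      by_contra hne
      refine Nat.find_min hex (show m < Nat.find hex by omega) ⟨_, hne, fun α => ?_⟩
      have := hv α
      rw [hn] at this
      rw [isComodHom_op (isComodHom_cf α)]
      exact mem_fixSeries_succ.1 this φ
    exact hv0 ((Submodule.mem_bot k).1 (hbot ▸ hfix))

end Hopf

end Groth.Misc1.Unip
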