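import Groth.Agent.Hopf.Coeff
import Groth.Agent.Misc12.AntipodeComul
import Groth.Agent.Sga3.SubHopfFlat
import Groth.Agent.Hopf.SmoothHopf
import Groth.Agent.Calg4.SmoothReduced
import Groth.Agent.Misc1.Unip.Transport
import Groth.Prelude.Def_SGA3

/-!
# Finitely generated Hopf subalgebras, reducedness in characteristic zero (any universes)
-/

set_option autoImplicit false

universe u v w

open TensorProduct

noncomputable section

namespace Groth.Misc1.Unip

variable {k : Type u} [Field k] {A : Type v} [CommRing A] [HopfAlgebra k A]

theorem antipode_antipode (a : A) : HopfAlgebra.antipode k (HopfAlgebra.antipode k a) = a :=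
  congrArg (fun f : WithConv (A →ₐ[k] A) => f.ofConv a) (inv_inv (WithConv.toConv (AlgHom.id k A)))

variable (k) in
/-- finite sets lie in finitely generated Hopf subalgebras -/
theorem exists_fg_hopfSubalgebra (s : Finset A) : ∃ B : Subalgebra k A, (s : Set A) ⊆ B ∧ B.FG ∧
    (∀ b ∈ B, CoalgebraStruct.comul (R := k) (A := A) b ∈
      LinearMap.range (TensorProduct.map B.val.toLinearMap B.val.toLinearMap)) ∧
    ∀ b ∈ B, HopfAlgebraStruct.antipode (R := k) (A := A) b ∈ B := by
  classical
  obtain ⟨D, hDfin, hxD, hD⟩ :=
    Groth.ComodLib.exists_finite_subcoalg (k := k) (A := A) (s.finite_toSet)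
  obtain ⟨t, ht⟩ := (Module.Finite.iff_fg (N := D)).1 hDfin
  let Sa := HopfAlgebra.antipodeAlgHom k A
  let B : Subalgebra k A := Algebra.adjoin k ((t : Set A) ∪ Sa '' t)
  have htB : (t : Set A) ⊆ B := fun a ha => Algebra.subset_adjoin (Or.inl ha)
  have hDB : D ≤ B.toSubmodule := by
    rw [← ht, Submodule.span_le]
    exact htB
  have hSD : ∀ d ∈ D, Sa d ∈ B := by
    have : D ≤ B.toSubmodule.comap Sa.toLinearMap := by
      rw [← ht, Submodule.span_le]
      exact fun a ha => Algebra.subset_adjoin (Or.inr ⟨a, ha, rfl⟩)
    exact fun d hd => this hd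
  refine ⟨B, fun x hx => hDB (hxD hx), Subalgebra.fg_def.2
    ⟨_, t.finite_toSet.union (t.finite_toSet.image _), rfl⟩, ?_, ?_⟩
  · have hle : B ≤ (Algebra.TensorProduct.map B.val B.val).range.comap (Bialgebra.comulAlgHom k A) := by
      refine Algebra.adjoin_le ?_
      rintro a (ha | ⟨a, ha, rfl⟩)
      · obtain ⟨z, hz⟩ := hD a (ht ▸ Submodule.subset_span ha)
        refine ⟨TensorProduct.map (Submodule.inclusion hDB) (Submodule.inclusion hDB) z, ?_⟩
        change _ = Coalgebra.comul (R := k) a
        rw [← hz]
        induction z using TensorProduct.induction_on with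
        | zero => simp
        | tmul p q => rfl
        | add p q hp hq =>
          have key : ∀ w : TensorProduct k D D, (Algebra.TensorProduct.map B.val B.val)
              (TensorProduct.map (Submodule.inclusion hDB) (Submodule.inclusion hDB) w) =
              TensorProduct.map D.subtype D.subtype w := by
            intro w
            induction w using TensorProduct.induction_on with
            | zero => simp
            | tmul p q => rfl
            | add p q hp hq => simp only [map_add] at hp hq ⊢; rw [hp, hq]
          exact key _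
      · obtain ⟨z, hz⟩ := hD a (ht ▸ Submodule.subset_span ha)
        change Coalgebra.comul (R := k) (Sa a) ∈ (Algebra.TensorProduct.map B.val B.val).range
        rw [show Coalgebra.comul (R := k) (Sa a) = TensorProduct.map Sa.toLinearMap Sa.toLinearMap
            (TensorProduct.comm k A A (Coalgebra.comul (R := k) a)) from Groth.Misc12.comul_antipode_eq a, ← hz]
        clear hz
        induction z using TensorProduct.induction_on with
        | zero => simp
        | tmul p q =>
          exact ⟨(⟨Sa q.1, hSD _ q.2⟩ : B) ⊗ₜ (⟨Sa p.1, hSD _ p.2⟩ : B), rfl⟩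
        | add p q hp hq => simp only [map_add]; exact add_mem hp hq
    intro b hb
    exact hle hb
  · have hle : B ≤ B.comap Sa := by
      refine Algebra.adjoin_le ?_
      rintro a (ha | ⟨a, ha, rfl⟩)
      · exact hSD a (ht ▸ Submodule.subset_span ha)
      · change Sa (Sa a) ∈ B
        rw [show Sa (Sa a) = a from antipode_antipode a]
        exact htB ha
    exact fun b hb => hle hb

/-- Nullstellensatz: a non-nilpotent element survives at a point in an algebraically closed field -/
theorem exists_point_ne_zero' {k : Type u} [Field k] {R : Type v} [CommRing R] [Algebra k R]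
    [Algebra.FiniteType k R] (Ω : Type w) [Field Ω] [IsAlgClosed Ω] [Algebra k Ω] {f : R}
    (hf : ¬ IsNilpotent f) : ∃ g : R →ₐ[k] Ω, g f ≠ 0 := by
  let L := Localization.Away f
  have hne : Nontrivial L := by
    rw [← not_subsingleton_iff_nontrivial]
    intro hs
    obtain ⟨n, hn⟩ := (IsLocalization.subsingleton_iff (M := Submonoid.powers f) (S := L)).1 hs
    exact hf ⟨n, hn⟩
  have : Algebra.FinitePresentation R L := IsLocalization.Away.finitePresentation f
  have hLft : Algebra.FiniteType R L := inferInstance
  have : Algebra.FiniteType k L := Algebra.FiniteType.trans ‹Algebra.FiniteType k R› hLft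
  obtain ⟨m, hm⟩ := Ideal.exists_maximal L
  let := Ideal.Quotient.field m
  have : Module.Finite k (L ⧸ m) := finite_of_finite_type_of_isJacobsonRing k (L ⧸ m)
  let e : L ⧸ m →ₐ[k] Ω := IsAlgClosed.lift
  refine ⟨(e.comp (Ideal.Quotient.mkₐ k m)).comp (IsScalarTower.toAlgHom k R L), IsUnit.ne_zero ?_⟩
  exact (IsLocalization.Away.algebraMap_isUnit f).map (e.comp (Ideal.Quotient.mkₐ k m))

variable (k A) in
/-- Cartier's theorem: in characteristic zero affine algebraic groups are reduced -/
theorem isReduced_charZero [CharZero k] [Algebra.FiniteType k A] : IsReduced A := by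
  obtain ⟨S, _, _, hS, ⟨e⟩⟩ := exists_small_model (k := k) (A := A)
  let hH : HopfAlgebra k S := hopfAlgebraOfEquiv e
  have : Algebra.Smooth k S := Groth.ComodLib.smooth_of_hopfAlgebra_charZero k S
  have := Groth.Calg4.isReduced_of_smooth_field k S
  exact isReduced_of_injective (e : A →ₐ[k] S) e.injective

end Groth.Misc1.Unip
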