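import Groth.Agent.Sga3.SubHopfMap
import Groth.Agent.Hopf.Unipotent

/-!
# Invariants of the kernel of a quotient map lie in the quotient's coordinate ring
-/

set_option autoImplicit false
set_option linter.unusedSectionVars false

universe u v w w'

open TensorProduct WithConv

noncomputable section

namespace Groth.Misc1.Unip

/-- invariants of the subgroup cut out by the augmentation ideal of `B` lie in the image of `B` -/
theorem mem_range_of_invariant {k : Type u} [Field k] {A : Type v} [CommRing A] [HopfAlgebra k A]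
    {B : Type w} [CommRing B] [HopfAlgebra k B] {A' : Type w'} [CommRing A'] [Bialgebra k A']
    (ψ : B →ₐc[k] A) (q : A →ₐc[k] A') (hq : Function.Surjective q)
    (hker : ∀ a, q a = 0 → a ∈ Ideal.map (ψ : B →+* A) (RingHom.ker (Bialgebra.counitAlgHom k B)))
    {a : A} (ha : (q : A →ₗ[k] A').lTensor A (Coalgebra.comul (R := k) a) = a ⊗ₜ[k] (1 : A')) :
    a ∈ (ψ : B →ₐ[k] A).range := by
  set D := (ψ : B →ₐ[k] A).range
  have hff : Module.FaithfullyFlat D A := Groth.Sga3.SubHopfFlat.faithfullyFlat_range ψ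
  let iL : A →ₐ[k] A ⊗[D] A := Algebra.TensorProduct.includeLeft
  let iR : A →ₐ[k] A ⊗[D] A :=
    (Algebra.TensorProduct.includeRight (R := D) (A := A) (B := A)).restrictScalars k
  let iS : A →ₐ[k] A ⊗[D] A := iL.comp (HopfAlgebra.antipodeAlgHom k A)
  let P : A →ₐ[k] A ⊗[D] A := (toConv iS * toConv iR).ofConv
  let Ψ : A ⊗[k] A →ₐ[k] A ⊗[D] A := Algebra.TensorProduct.lift iL P fun _ _ => Commute.all _ _
  have hinv : toConv iL * toConv iS = 1 := by
    have h1 : toConv (AlgHom.id k A) * toConv (HopfAlgebra.antipodeAlgHom k A) = 1 :=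
      mul_inv_cancel (toConv (AlgHom.id k A))
    have h2 := AlgHom.comp_convMul_distrib iL (toConv (AlgHom.id k A))
      (toConv (HopfAlgebra.antipodeAlgHom k A))
    rw [h1] at h2
    apply WithConv.ofConv_injective
    exact h2.symm.trans (AlgHom.ext fun c => iL.commutes _)
  have hΨ : ∀ c : A, Ψ (Coalgebra.comul (R := k) c) = iR c := by
    intro c
    refine (AlgHom.convMul_apply (toConv iL) (toConv P) c).symm.trans ?_
    have h4 : (toConv iR : WithConv (A →ₐ[k] A ⊗[D] A)) = toConv iL * toConv P := by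
      have h3 : (toConv iL * toConv iS) * toConv iR = toConv iL * (toConv iS * toConv iR) :=
        mul_assoc (toConv iL) (toConv iS) (toConv iR)
      rw [hinv] at h3
      exact (one_mul (toConv iR)).symm.trans h3
    exact congrArg (fun t : WithConv (A →ₐ[k] A ⊗[D] A) => t.ofConv c) h4.symm
  have hLR : iR.comp (ψ : B →ₐ[k] A) = iL.comp (ψ : B →ₐ[k] A) := by
    refine AlgHom.ext fun b => ?_
    let d : D := ⟨ψ b, b, rfl⟩
    have e1 : d • (1 : A) = ψ b := by simp [d, Subalgebra.smul_def]
    have e2 : (1 : A) ⊗ₜ[D] (d • (1 : A)) = (d • (1 : A)) ⊗ₜ[D] (1 : A) :=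
      (TensorProduct.smul_tmul d (1 : A) (1 : A)).symm
    rw [e1] at e2
    exact e2
  have hinv' : toConv iS * toConv iL = 1 := by
    have h1 : toConv (HopfAlgebra.antipodeAlgHom k A) * toConv (AlgHom.id k A) = 1 :=
      inv_mul_cancel (toConv (AlgHom.id k A))
    have h2 := AlgHom.comp_convMul_distrib iL (toConv (HopfAlgebra.antipodeAlgHom k A))
      (toConv (AlgHom.id k A))
    rw [h1] at h2
    apply WithConv.ofConv_injective
    exact h2.symm.trans (AlgHom.ext fun c => iL.commutes _)
  have hP : ∀ b : B, P (ψ b) = algebraMap k (A ⊗[D] A) (Coalgebra.counit (R := k) b) := by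
    intro b
    have h1 := AlgHom.convMul_comp_bialgHom_distrib (toConv iS) (toConv iR) ψ
    have h2 := AlgHom.convMul_comp_bialgHom_distrib (toConv iS) (toConv iL) ψ
    rw [hinv'] at h2
    simp only at h1 h2
    rw [hLR] at h1
    have h3 := DFunLike.congr_fun (h1.trans h2.symm) b
    refine h3.trans ?_
    change algebraMap k (A ⊗[D] A) (Coalgebra.counit (R := k) (ψ b)) = _
    rw [CoalgHomClass.counit_comp_apply ψ b]
  have hmem : Coalgebra.comul (R := k) a - a ⊗ₜ[k] (1 : A) ∈
      RingHom.ker (Algebra.TensorProduct.map (AlgHom.id k A) (q : A →ₐ[k] A')) := by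
    rw [RingHom.mem_ker, map_sub, Algebra.TensorProduct.map_tmul, sub_eq_zero]
    refine (Eq.trans ?_ ha).trans (by simp)
    rfl
  rw [Algebra.TensorProduct.lTensor_ker (A := A) (g := (q : A →ₐ[k] A')) hq] at hmem
  have hle : Ideal.map (Algebra.TensorProduct.includeRight : A →ₐ[k] A ⊗[k] A)
      (RingHom.ker (q : A →ₐ[k] A')) ≤ RingHom.ker Ψ := by
    refine (Ideal.map_mono fun c hc => hker c hc).trans ?_
    rw [Ideal.map_le_iff_le_comap, Ideal.map_le_iff_le_comap]
    intro b hb
    have hb' : Coalgebra.counit (R := k) b = 0 := hb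
    simp [Ψ, hP, hb']
  have h0 := hle hmem
  rw [RingHom.mem_ker, map_sub, hΨ, Algebra.TensorProduct.lift_tmul, map_one, mul_one, sub_eq_zero] at h0
  obtain ⟨d, rfl⟩ := (Algebra.IsEffective.of_faithfullyFlat D A a).1
    (show Algebra.TensorProduct.includeLeftSubRight D A a = 0 by
      rw [Algebra.TensorProduct.includeLeftSubRight_apply, sub_eq_zero]
      exact h0.symm)
  exact d.2

end Groth.Misc1.Unip
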