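import Groth.Agent.Misc1.Unip.Trig
import Groth.Agent.Misc1.Unip.MultType

/-!
# A criterion for trigonalizability: exhaustive character series
-/

set_option autoImplicit false
set_option linter.unusedSectionVars false

universe u v w w'

open TensorProduct WithConv Groth.ComodLib

noncomputable section

namespace Groth.Misc1.Unip

section

variable {k : Type u} [Field k] {A : Type v} [Ring A] [Bialgebra k A]
  {V : Type w} [AddCommGroup V] [Module k V] [HopfRep.Comod k A V]
  {W : Type w'} [AddCommGroup W] [Module k W] [HopfRep.Comod k A W]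

theorem groupLike_mem_charSeries {g : A} (hg : IsGroupLikeElem k g) : g ∈ charSeries k A A 1 := by
  refine Submodule.subset_span ⟨g, hg, fun φ => ?_⟩
  rw [op_apply, show HopfRep.Comod.coact (k := k) (A := A) g = g ⊗ₜ[k] g from hg.comul_eq_tmul_self,
    slice_tmul, sub_self]
  exact Submodule.zero_mem _

theorem map_mem_charSeries {f : V →ₗ[k] W} (hf : Hoch.IsComodHom A f) : ∀ (n : ℕ) (x : V),
    x ∈ charSeries k A V n → f x ∈ charSeries k A W n
  | 0, x, hx => by
    rw [show x = 0 from (Submodule.mem_bot k).1 hx, map_zero]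
    exact Submodule.zero_mem _
  | n + 1, x, hx => by
    induction hx using Submodule.span_induction with
    | mem y hy =>
      obtain ⟨g, hg, hgy⟩ := hy
      refine Submodule.subset_span ⟨g, hg, fun φ => ?_⟩
      have := map_mem_charSeries hf n _ (hgy φ)
      rwa [map_sub, map_smul, isComodHom_op hf] at this
    | zero => rw [map_zero]; exact Submodule.zero_mem _
    | add p q _ _ hp hq => rw [map_add]; exact Submodule.add_mem _ hp hq
    | smul c p _ hp => rw [map_smul]; exact Submodule.smul_mem _ c hp

theorem mem_charSeries_succ {n : ℕ} {x : W} (hx : x ∈ charSeries k A W (n + 1)) :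
    ∃ y : {a : A // IsGroupLikeElem k a} →₀ W,
      (∀ g, ∀ φ : A →ₗ[k] k, op φ (y g) - φ g.1 • y g ∈ charSeries k A W n) ∧
        x = y.sum fun _ z => z := by
  classical
  induction hx using Submodule.span_induction with
  | mem z hz =>
    obtain ⟨g, hg, hgz⟩ := hz
    refine ⟨Finsupp.single ⟨g, hg⟩ z, fun g' φ => ?_, by rw [Finsupp.sum_single_index rfl]⟩
    by_cases h : g' = ⟨g, hg⟩
    · subst h; simpa using hgz φ
    · simp [h]
  | zero => exact ⟨0, fun g φ => by simp, by simp⟩
  | add p q _ _ hp hq =>
    obtain ⟨y1, h1, e1⟩ := hp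
    obtain ⟨y2, h2, e2⟩ := hq
    refine ⟨y1 + y2, fun g φ => ?_, ?_⟩
    · simp only [Finsupp.add_apply, map_add, smul_add]
      rw [add_sub_add_comm]
      exact Submodule.add_mem _ (h1 g φ) (h2 g φ)
    · rw [Finsupp.sum_add_index' (fun _ => rfl) (fun _ _ _ => rfl), e1, e2]
  | smul c p _ hp =>
    obtain ⟨y1, h1, e1⟩ := hp
    refine ⟨c • y1, fun g φ => ?_, ?_⟩
    · simp only [Finsupp.smul_apply, map_smul]
      rw [smul_comm, ← smul_sub]
      exact Submodule.smul_mem _ c (h1 g φ)
    · rw [Finsupp.sum_smul_index' fun _ => rfl, e1, Finsupp.smul_sum]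

end

section Field

variable {k : Type u} [Field k] {A : Type v} [CommRing A] [Bialgebra k A]
  {W : Type w'} [AddCommGroup W] [Module k W] [HopfRep.Comod k A W]

/-- a subcomodule meeting some stage of the character series contains an eigenvector -/
theorem exists_eigen_of_charSeries {U : Submodule k W} (hU : HopfRep.IsSubcomod (k := k) (A := A) U)
    {x : W} (hxU : x ∈ U) (hx0 : x ≠ 0) {N : ℕ} (hx : x ∈ charSeries k A W N) :
    ∃ u ∈ U, u ≠ 0 ∧ ∃ g : A, IsGroupLikeElem k g ∧
      ∀ φ : A →ₗ[k] k, op φ u = φ g • u := by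
  classical
  have hex : ∃ n, ∃ z ∈ U, z ≠ 0 ∧ z ∈ charSeries k A W n := ⟨N, x, hxU, hx0, hx⟩
  obtain ⟨z, hzU, hz0, hz⟩ := Nat.find_spec hex
  rcases hn : Nat.find hex with _ | m
  · rw [hn] at hz
    exact absurd ((Submodule.mem_bot k).1 hz) hz0
  · rw [hn] at hz
    have hmin : ∀ t ∈ U, t ∈ charSeries k A W m → t = 0 := by
      intro t htU ht
      by_contra h
      exact Nat.find_min hex (show m < Nat.find hex by omega) ⟨t, htU, h, ht⟩
    obtain ⟨y, hy, hsum⟩ := mem_charSeries_succ hz
    obtain ⟨g, hgS, hg⟩ : ∃ g ∈ y.support, y g ∉ charSeries k A W m := by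
      by_contra h
      push Not at h
      exact hz0 (hmin z hzU (hsum ▸ Submodule.sum_mem _ h))
    have hli : LinearIndependent k (Subtype.val : {a : A // IsGroupLikeElem k a} → A) :=
      linearIndepOn_isGroupLikeElem (R := k) (A := A)
    obtain ⟨φ, hφ⟩ := LinearMap.exists_extend ((Finsupp.lapply g).comp hli.repr)
    have hφg : ∀ g' : {a : A // IsGroupLikeElem k a}, φ g'.1 = if g' = g then 1 else 0 := by
      intro g'
      have := LinearMap.congr_fun hφ ⟨g'.1, Submodule.subset_span ⟨g', rfl⟩⟩
      simp only [LinearMap.comp_apply, Submodule.subtype_apply] at this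
      rw [this, hli.repr_eq_single g' ⟨g'.1, _⟩ rfl, Finsupp.lapply_apply, Finsupp.single_apply]
    have hdiff : op φ z - y g ∈ charSeries k A W m := by
      have e : ∑ g' ∈ y.support, (op φ (y g') - φ g'.1 • y g') = op φ z - y g := by
        rw [Finset.sum_sub_distrib, ← map_sum, hsum]
        congr 1
        simp only [hφg, ite_smul, one_smul, zero_smul]
        rw [Finset.sum_ite_eq' y.support g, if_pos hgS]
      rw [← e]
      exact Submodule.sum_mem _ fun g' _ => hy g' φ
    have huU : op φ z ∈ U := (isSubcomod_iff U).1 hU φ z hzU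
    refine ⟨op φ z, huU, fun h0 => hg ?_, g.1, g.2, fun ψ => ?_⟩
    · rw [h0, zero_sub] at hdiff
      exact (Submodule.neg_mem_iff _).1 hdiff
    · refine sub_eq_zero.1 (hmin _ (Submodule.sub_mem _ ((isSubcomod_iff U).1 hU ψ _ huU)
        (Submodule.smul_mem _ _ huU)) ?_)
      have e : op ψ (op φ z) - ψ g.1 • op φ z = (op ψ (y g) - ψ g.1 • y g) +
          (op ψ (op φ z - y g) - ψ g.1 • (op φ z - y g)) := by
        rw [map_sub, smul_sub]; abel
      rw [e]
      exact Submodule.add_mem _ (hy g ψ) (Submodule.sub_mem _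
        ((isSubcomod_iff _).1 (isSubcomod_charSeries m) ψ _ hdiff) (Submodule.smul_mem _ _ hdiff))

variable {V : Type w} [AddCommGroup V] [Module k V] [HopfRep.Comod k A V]

/-- a simple comodule with a coefficient in the character series is a line -/
theorem finrank_eq_one_of_cf_mem (hV : HopfRep.IsSimpleComod k A V) {α : V →ₗ[k] k} {w : V}
    (hw : cf (A := A) α w ≠ 0) {N : ℕ} (hN : cf (A := A) α w ∈ charSeries k A A N) :
    Module.finrank k V = 1 := by
  have hf := isComodHom_cf (A := A) α
  have hinj : Function.Injective (cf (A := A) α) := by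
    rcases hV.2 (LinearMap.ker (cf (A := A) α)) ((isSubcomod_iff _).2 fun φ x hx => by
      rw [LinearMap.mem_ker, isComodHom_op hf, LinearMap.mem_ker.1 hx, map_zero]) with h | h
    · exact LinearMap.ker_eq_bot.1 h
    · exact absurd (LinearMap.mem_ker.1 (h ▸ Submodule.mem_top : w ∈ LinearMap.ker (cf (A := A) α))) hw
  obtain ⟨u, ⟨v, rfl⟩, hu0, g, -, hgu⟩ := exists_eigen_of_charSeries (isSubcomod_range hf) ⟨w, rfl⟩ hw hN
  have hv : ∀ φ : A →ₗ[k] k, op φ v = φ g • v := fun φ => hinj (by
    rw [isComodHom_op hf, map_smul, hgu])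
  have hv0 : v ≠ 0 := fun h => hu0 (by rw [h, map_zero])
  rcases hV.2 (Submodule.span k {v}) ((isSubcomod_iff _).2 fun φ x hx => by
    obtain ⟨c, rfl⟩ := Submodule.mem_span_singleton.1 hx
    rw [map_smul, hv, smul_smul]
    exact Submodule.smul_mem _ _ (Submodule.mem_span_singleton_self v)) with h | h
  · exact absurd (Submodule.span_singleton_eq_bot.1 h) hv0
  · rw [← finrank_top k V, ← h, finrank_span_singleton hv0]

/-- exhaustive character series of the regular comodule gives trigonalizability -/
theorem isTrigonalizable_of_exhaustive (h : ∀ a : A, ∃ m, a ∈ charSeries k A A m) :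
    HopfRep.IsTrigonalizable k A := by
  intro V _ _ _ _ hV
  have := hV.1
  obtain ⟨w, hw⟩ := exists_ne (0 : V)
  obtain ⟨α, hα⟩ : ∃ α : V →ₗ[k] k, α w ≠ 0 := by
    by_contra hne
    push Not at hne
    exact hw ((Module.forall_dual_apply_eq_zero_iff k w).1 hne)
  have hne : cf (A := A) α w ≠ 0 := fun h0 => hα (by
    rw [← op_counit (k := k) (A := A) w, ← apply_cf, h0, map_zero])
  obtain ⟨N, hN⟩ := h (cf (A := A) α w)
  exact finrank_eq_one_of_cf_mem hV hne hN

/-- the regular comodule of a trigonalizable bialgebra has exhaustive character series -/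
theorem exists_mem_charSeries (hT : HopfRep.IsTrigonalizable k A) (a : A) :
    ∃ m, a ∈ charSeries k A A m := by
  let c : HopfRep.Comod k A A := HopfRep.Comod.regular k A
  obtain ⟨U, h1, h2, h3⟩ := exists_finite_subcomod_span (k := k) (A := A) (V := A)
    (Set.finite_singleton a)
  letI cU := ComodSub.Comod.restr c U h3
  obtain ⟨m, hm⟩ := exists_charSeries_eq_top hT U
  exact ⟨m, map_mem_charSeries (ComodSub.isComodHom_subtype c U h3) m ⟨a, h2 rfl⟩ (hm ▸ Submodule.mem_top)⟩

end Field

section BaseChange

variable {k : Type u} [Field k] {A : Type v} [CommRing A] [Bialgebra k A]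

theorem mem_charSeries_baseChange (K : Type w) [Field K] [Algebra k K] : ∀ (m : ℕ) (a : A),
    a ∈ charSeries k A A m → incl K a ∈ charSeries K (K ⊗[k] A) (K ⊗[k] A) m
  | 0, a, ha => by
    rw [show a = 0 from (Submodule.mem_bot k).1 ha, map_zero]
    exact Submodule.zero_mem _
  | m + 1, a, ha => by
    induction ha using Submodule.span_induction with
    | mem y hy =>
      obtain ⟨g, hg, hgy⟩ := hy
      refine Submodule.subset_span ⟨incl K g, ⟨?_, ?_⟩, fun φ => ?_⟩
      · rw [counit_incl, hg.counit_eq_one, map_one]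
      · rw [comul_incl, hg.comul_eq_tmul_self, nat_tmul]
      · have hmem : Coalgebra.comul (R := k) y - y ⊗ₜ[k] g ∈
            LinearMap.range ((charSeries k A A m).subtype.rTensor A) := by
          refine (mem_range_rTensor_iff _ _).2 fun ψ => ?_
          rw [map_sub, slice_tmul]
          exact hgy ψ
        obtain ⟨z, hz⟩ := hmem
        have h2 : slice φ (nat k K A ((charSeries k A A m).subtype.rTensor A z)) ∈
            charSeries K (K ⊗[k] A) (K ⊗[k] A) m := by
          clear hz
          induction z using TensorProduct.induction_on with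
          | zero => simp
          | add p q hp hq => simp only [map_add]; exact Submodule.add_mem _ hp hq
          | tmul p q =>
            rw [LinearMap.rTensor_tmul, nat_tmul, slice_tmul]
            exact Submodule.smul_mem _ _ (mem_charSeries_baseChange K m p p.2)
        rw [hz, map_sub, ← comul_incl, nat_tmul, map_sub, slice_tmul] at h2
        exact h2
    | zero => rw [map_zero]; exact Submodule.zero_mem _
    | add p q _ _ hp hq => rw [map_add]; exact Submodule.add_mem _ hp hq
    | smul c p _ hp =>
      rw [map_smul, ← algebraMap_smul K c (incl K p)]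
      exact Submodule.smul_mem _ _ hp

theorem exhaustive_charSeries_baseChange (K : Type w) [Field K] [Algebra k K]
    (hex : ∀ a : A, ∃ m, a ∈ charSeries k A A m) (z : K ⊗[k] A) :
    ∃ m, z ∈ charSeries K (K ⊗[k] A) (K ⊗[k] A) m := by
  induction z using TensorProduct.induction_on with
  | zero => exact ⟨0, Submodule.zero_mem _⟩
  | tmul r a =>
    obtain ⟨m, hm⟩ := hex a
    refine ⟨m, ?_⟩
    rw [show r ⊗ₜ[k] a = r • incl K a from smul_incl r a]
    exact Submodule.smul_mem _ _ (mem_charSeries_baseChange K m a hm)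
  | add p q hp hq =>
    obtain ⟨m, hm⟩ := hp
    obtain ⟨n, hn⟩ := hq
    exact ⟨max m n, add_mem (charSeries_mono (le_max_left m n) hm) (charSeries_mono (le_max_right m n) hn)⟩

end BaseChange

end Groth.Misc1.Unip
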