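import Groth.Agent.Misc1.Unip.Trig
import Groth.Agent.S7988
import Mathlib.LinearAlgebra.JordanChevalley
import Mathlib.LinearAlgebra.TensorProduct.Tower
import Mathlib.RingTheory.Finiteness.Basic

/-!
# The Jordan decomposition of a point of an affine group over a perfect field
-/

set_option autoImplicit false
set_option linter.unusedSectionVars false

universe u v w

open TensorProduct WithConv Groth.ComodLib

noncomputable section

namespace Groth.Misc1.Unip.Jordan

variable {k : Type u} [Field k] [PerfectField k] {V W : Type v} [AddCommGroup V] [Module k V]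
  [FiniteDimensional k V] [AddCommGroup W] [Module k W] [FiniteDimensional k W]

/-- `s` is the semisimple part of `f` -/
def IsSSPart (f s : Module.End k V) : Prop := s.IsSemisimple ∧ Commute s f ∧ IsNilpotent (f - s)

theorem exists_ssPart (f : Module.End k V) : ∃ s, IsSSPart f s := by
  obtain ⟨n, hn, s, hs, hnil, hss, he⟩ := Module.End.exists_isNilpotent_isSemisimple (f := f)
  exact ⟨s, hss, (Algebra.commute_of_mem_adjoin_singleton_of_commute hs (Commute.refl f)).symm,
    by rwa [eq_sub_of_add_eq he.symm] at hnil⟩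

theorem IsSSPart.unique {f s t : Module.End k V} (hs : IsSSPart f s) (ht : IsSSPart f t) : s = t :=
  (Module.End.isNilpotent_isSemisimple_unique hs.2.2 hs.1 ht.2.2 ht.1
    ((hs.2.1.sub_right (Commute.refl s)).symm) ((ht.2.1.sub_right (Commute.refl t)).symm)
    (by rw [sub_add_cancel, sub_add_cancel])).2

theorem IsSSPart.isUnit {f s : Module.End k V} (hs : IsSSPart f s) (hf : IsUnit f) : IsUnit s := by
  have h : IsUnit (f + -(f - s)) :=
    hs.2.2.neg.isUnit_add_left_of_commute hf ((Commute.refl f).sub_right hs.2.1.symm).neg_right.symm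
  rwa [neg_sub, add_sub_cancel] at h

theorem IsSSPart.exists_unipotent {f s : Module.End k V} (hs : IsSSPart f s) (hf : IsUnit f) :
    ∃ u, IsNilpotent (u - 1) ∧ Commute s u ∧ s * u = f := by
  obtain ⟨e, he⟩ := hs.isUnit hf
  have hc : Commute (↑e⁻¹ : Module.End k V) (f - s) :=
    Commute.units_inv_left (he ▸ hs.2.1.sub_right (Commute.refl s))
  refine ⟨(↑e⁻¹ : Module.End k V) * f, ?_, ?_, ?_⟩
  · rw [show (↑e⁻¹ : Module.End k V) * f - 1 = ↑e⁻¹ * (f - s) by rw [mul_sub, ← he, Units.inv_mul]]
    exact hc.isNilpotent_mul_left hs.2.2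
  · exact (he ▸ (Commute.refl (e : Module.End k V)).units_inv_right : Commute s ↑e⁻¹).mul_right hs.2.1
  · rw [← mul_assoc, ← he, Units.mul_inv, one_mul]

theorem IsSSPart.natural {f s : Module.End k V} {f' s' : Module.End k W} (hs : IsSSPart f s)
    (hs' : IsSSPart f' s') (hf : IsUnit f) (hf' : IsUnit f') (φ : V →ₗ[k] W) (h : φ ∘ₗ f = f' ∘ₗ φ) :
    φ ∘ₗ s = s' ∘ₗ φ := by
  obtain ⟨u, hu, hc, he⟩ := hs.exists_unipotent hf
  obtain ⟨u', hu', hc', he'⟩ := hs'.exists_unipotent hf'
  exact (Groth.Agent.S7988.result k V W f s u f' s' u' hf hf' hs.1 hu hc he hs'.1 hu' hc' he' φ h).1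

theorem isSemisimple_of_algHom {R : Type w} [Ring R] [Algebra k R] (F : Module.End k V →ₐ[k] R)
    (G : R →ₐ[k] Module.End k W) {s : Module.End k V} (hs : s.IsSemisimple) :
    (G (F s)).IsSemisimple :=
  Module.End.isSemisimple_of_squarefree_aeval_eq_zero hs.minpoly_squarefree (by
    rw [Polynomial.aeval_algHom_apply, Polynomial.aeval_algHom_apply, minpoly.aeval, map_zero, map_zero])

theorem IsSSPart.tensor {f s : Module.End k V} {f' s' : Module.End k W} (hs : IsSSPart f s)
    (hs' : IsSSPart f' s') : IsSSPart (TensorProduct.map f f') (TensorProduct.map s s') := by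
  have h1 : Module.End.IsSemisimple (R := k) (TensorProduct.map s (1 : Module.End k W)) :=
    isSemisimple_of_algHom (Module.End.rTensorAlgHom k V W) (AlgHom.id k _) hs.1
  have h2 : Module.End.IsSemisimple (R := k) (TensorProduct.map (1 : Module.End k V) s') :=
    isSemisimple_of_algHom (Module.End.lTensorAlgHom k W V) (AlgHom.id k _) hs'.1
  have hcomm : Commute (TensorProduct.map s (1 : Module.End k W)) (TensorProduct.map (1 : Module.End k V) s') := by
    change _ = _
    rw [← TensorProduct.map_mul, ← TensorProduct.map_mul, one_mul, mul_one, one_mul, mul_one]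
  refine ⟨?_, ?_, ?_⟩
  · rw [show TensorProduct.map s s' = TensorProduct.map s (1 : Module.End k W) * TensorProduct.map (1 : Module.End k V) s'
      by rw [← TensorProduct.map_mul, mul_one, one_mul]]
    exact h1.mul_of_commute hcomm h2
  · change _ = _
    rw [← TensorProduct.map_mul, ← TensorProduct.map_mul, hs.2.1, hs'.2.1]
  · rw [show TensorProduct.map f f' - TensorProduct.map s s' =
        TensorProduct.map (f - s) f' + TensorProduct.map s (f' - s') from
      TensorProduct.ext' fun x y => by simp [TensorProduct.sub_tmul, TensorProduct.tmul_sub]]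
    have c1 : Commute (f - s) s := (hs.2.1.sub_right (Commute.refl s)).symm
    have c2 : Commute f' (f' - s') := (Commute.refl f').sub_right hs'.2.1.symm
    have hpow : ∀ (a : Module.End k V) (b : Module.End k W) (n : ℕ),
        (TensorProduct.map a b : Module.End k (V ⊗[k] W)) ^ n = TensorProduct.map (a ^ n) (b ^ n) := by
      intro a b n
      induction n with
      | zero => simp
      | succ n ih => rw [pow_succ, pow_succ, pow_succ, ih, ← TensorProduct.map_mul]
    refine Commute.isNilpotent_add ?_ ?_ ?_
    · change _ = _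
      rw [← TensorProduct.map_mul, ← TensorProduct.map_mul, c1.eq, c2.eq]
    · obtain ⟨n, hn⟩ := hs.2.2
      exact ⟨n, by rw [hpow, hn, TensorProduct.map_zero_left]⟩
    · obtain ⟨n, hn⟩ := hs'.2.2
      exact ⟨n, by rw [hpow, hn, TensorProduct.map_zero_right]⟩

section Point

variable {A : Type v} [CommRing A] [HopfAlgebra k A]

attribute [local instance] HopfRep.Comod.regular

/-- the translation by a point, restricted to a stable subspace -/
def T (g : WithConv (A →ₐ[k] k)) {U : Submodule k A} (hU : HopfRep.IsSubcomod (k := k) (A := A) U) :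
    Module.End k U :=
  (pointAct k A A g).restrict fun x hx => (isSubcomod_iff _).1 hU g.ofConv.toLinearMap x hx

theorem T_apply (g : WithConv (A →ₐ[k] k)) {U : Submodule k A} (hU : HopfRep.IsSubcomod (k := k) (A := A) U)
    (x : U) : ((T g hU x : U) : A) = pointAct k A A g (x : A) := rfl

theorem isUnit_pointAct {V : Type v} [AddCommGroup V] [Module k V] [HopfRep.Comod k A V]
    (g : WithConv (A →ₐ[k] k)) : IsUnit (pointAct k A V g) := (Group.isUnit g).map _

theorem isUnit_T (g : WithConv (A →ₐ[k] k)) {U : Submodule k A} (hU : HopfRep.IsSubcomod (k := k) (A := A) U) :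
    IsUnit (T g hU) := by
  have h : ∀ a b : WithConv (A →ₐ[k] k), a * b = 1 → T a hU * T b hU = 1 := fun a b hab =>
    LinearMap.ext fun x => Subtype.ext (by
      change pointAct k A A a (pointAct k A A b (x : A)) = (x : A)
      rw [← Module.End.mul_apply, ← map_mul, hab, map_one, Module.End.one_apply])
  exact ⟨⟨T g hU, T g⁻¹ hU, h _ _ (mul_inv_cancel g), h _ _ (inv_mul_cancel g)⟩, rfl⟩

theorem isComodHom_point {V : Type v} [AddCommGroup V] [Module k V] [HopfRep.Comod k A V]
    (g : WithConv (A →ₐ[k] k)) (ψ : V →ₗ[k] k) (x : V) :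
    cf (A := A) ψ (pointAct k A V g x) = pointAct k A A g (cf (A := A) ψ x) :=
  isComodHom_op (isComodHom_cf (A := A) ψ) _ x

theorem exists_semisimple_point (g : WithConv (A →ₐ[k] k)) :
    ∃ gs : WithConv (A →ₐ[k] k), ∀ (V : Type v) [AddCommGroup V] [Module k V] [HopfRep.Comod k A V]
      [FiniteDimensional k V], IsSSPart (pointAct k A V g) (pointAct k A V gs) := by
  classical
  have hex : ∀ a : A, ∃ U : Submodule k A, Module.Finite k U ∧ a ∈ U ∧
      HopfRep.IsSubcomod (k := k) (A := A) U := fun a => by
    obtain ⟨U, h1, h2, h3⟩ := exists_finite_subcomod_span (k := k) (A := A) (V := A) (Set.finite_singleton a)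
    exact ⟨U, h1, h2 rfl, h3⟩
  choose Ua hfin hmem hsub using hex
  choose sp hsp using fun a => @exists_ssPart k _ _ (Ua a) _ _ (hfin a) (T g (hsub a))
  let S : A → A := fun a => (sp a ⟨a, hmem a⟩ : Ua a)
  have hcompat : ∀ (U : Submodule k A) [Module.Finite k U] (hU : HopfRep.IsSubcomod (k := k) (A := A) U)
      (s : Module.End k U), IsSSPart (T g hU) s → ∀ x : U, ((s x : U) : A) = S x := by
    intro U _ hU s hs x
    haveI := hfin (x : A)
    let U' := U ⊔ Ua x
    have hU' : HopfRep.IsSubcomod (k := k) (A := A) U' := (isSubcomod_iff _).2 fun φ y hy => by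
      obtain ⟨p, hp, q, hq, rfl⟩ := Submodule.mem_sup.1 hy
      rw [map_add]
      exact Submodule.add_mem_sup ((isSubcomod_iff _).1 hU φ p hp) ((isSubcomod_iff _).1 (hsub x) φ q hq)
    obtain ⟨t, ht⟩ := exists_ssPart (T g hU')
    have e1 := LinearMap.congr_fun (hs.natural ht (isUnit_T g hU) (isUnit_T g hU')
      (Submodule.inclusion le_sup_left) rfl) x
    have e2 := LinearMap.congr_fun ((hsp x).natural ht (isUnit_T g (hsub x)) (isUnit_T g hU')
      (Submodule.inclusion le_sup_right) rfl) ⟨x, hmem x⟩
    have h1 := congrArg (Subtype.val : U' → A) e1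
    have h2 := congrArg (Subtype.val : U' → A) e2
    simp only [LinearMap.comp_apply, Submodule.coe_inclusion] at h1 h2
    exact h1.trans h2.symm
  have hadd : ∀ a b, S (a + b) = S a + S b := fun a b => by
    haveI := hfin a
    haveI := hfin b
    let U' := Ua a ⊔ Ua b
    have hU' : HopfRep.IsSubcomod (k := k) (A := A) U' := (isSubcomod_iff _).2 fun φ y hy => by
      obtain ⟨p, hp, q, hq, rfl⟩ := Submodule.mem_sup.1 hy
      rw [map_add]
      exact Submodule.add_mem_sup ((isSubcomod_iff _).1 (hsub a) φ p hp) ((isSubcomod_iff _).1 (hsub b) φ q hq)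
    obtain ⟨t, ht⟩ := exists_ssPart (T g hU')
    let xa : U' := ⟨a, Submodule.mem_sup_left (hmem a)⟩
    let xb : U' := ⟨b, Submodule.mem_sup_right (hmem b)⟩
    rw [← hcompat U' hU' t ht xa, ← hcompat U' hU' t ht xb]
    have := hcompat U' hU' t ht (xa + xb)
    rw [map_add] at this
    exact this.symm
  have hsmul : ∀ (c : k) a, S (c • a) = c • S a := fun c a => by
    haveI := hfin a
    have := hcompat (Ua a) (hsub a) (sp a) (hsp a) (c • ⟨a, hmem a⟩)
    rw [map_smul] at this
    exact this.symm
  have hone : S 1 = 1 := by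
    let U : Submodule k A := Submodule.span k {1}
    have hfix : pointAct k A A g 1 = 1 := by
      change slice g.ofConv.toLinearMap (Coalgebra.comul (R := k) (1 : A)) = 1
      rw [Bialgebra.comul_one, Algebra.TensorProduct.one_def, slice_tmul]
      simp
    have hU : HopfRep.IsSubcomod (k := k) (A := A) U := (isSubcomod_iff _).2 fun φ y hy => by
      obtain ⟨c, rfl⟩ := Submodule.mem_span_singleton.1 hy
      rw [map_smul]
      refine Submodule.smul_mem _ c ?_
      change slice φ (Coalgebra.comul (R := k) (1 : A)) ∈ U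
      rw [Bialgebra.comul_one, Algebra.TensorProduct.one_def, slice_tmul]
      exact Submodule.smul_mem _ _ (Submodule.mem_span_singleton_self 1)
    have hT : T g hU = 1 := LinearMap.ext fun x => Subtype.ext (by
      obtain ⟨c, hc⟩ := Submodule.mem_span_singleton.1 x.2
      rw [T_apply, ← hc, map_smul, hfix, hc]
      rfl)
    exact (hcompat U hU 1 ⟨Module.End.isSemisimple_id, Commute.one_left _, by rw [hT]; exact ⟨1, (pow_one _).trans (LinearMap.ext fun x => sub_self x)⟩⟩
      ⟨1, Submodule.mem_span_singleton_self 1⟩).symm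
  have hTmul : ∀ a b : A, pointAct k A A g (a * b) = pointAct k A A g a * pointAct k A A g b := fun a b => by
    change slice g.ofConv.toLinearMap (Coalgebra.comul (R := k) (a * b)) =
      slice g.ofConv.toLinearMap (Coalgebra.comul (R := k) a) * slice g.ofConv.toLinearMap (Coalgebra.comul (R := k) b)
    rw [Bialgebra.comul_mul]
    generalize Coalgebra.comul (R := k) a = x
    generalize Coalgebra.comul (R := k) b = y
    induction x using TensorProduct.induction_on with
    | zero => simp
    | add p q hp hq => simp only [add_mul, map_add, hp, hq]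
    | tmul p q =>
      induction y using TensorProduct.induction_on with
      | zero => simp
      | add r t hr ht => simp only [mul_add, map_add, hr, ht]
      | tmul r t => simp [smul_smul, mul_comm]
  have hmul : ∀ a b, S (a * b) = S a * S b := fun a b => by
    haveI := hfin a
    haveI := hfin b
    obtain ⟨U, hUfin, hUsub, hU⟩ := exists_finite_subcomod_span (k := k) (A := A) (V := A)
      (Set.finite_range fun i => LinearMap.mul' k A (TensorProduct.map (Ua a).subtype (Ua b).subtype
          (Module.finBasis k (Ua a ⊗[k] Ua b) i)))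
    let μ : Ua a ⊗[k] Ua b →ₗ[k] A := LinearMap.mul' k A ∘ₗ TensorProduct.map (Ua a).subtype (Ua b).subtype
    have hμ : ∀ z, μ z ∈ U := by
      have : LinearMap.range μ ≤ U := by
        rw [LinearMap.range_eq_map, ← (Module.finBasis k (Ua a ⊗[k] Ua b)).span_eq, Submodule.map_span,
          Submodule.span_le, ← Set.range_comp]
        exact hUsub
      exact fun z => this ⟨z, rfl⟩
    obtain ⟨t, ht⟩ := exists_ssPart (T g hU)
    have hnat := LinearMap.congr_fun (((hsp a).tensor (hsp b)).natural ht
      (((isUnit_T g (hsub a)).map (Module.End.rTensorAlgHom k (Ua a) (Ua b))).mul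
        ((isUnit_T g (hsub b)).map (Module.End.lTensorAlgHom k (Ua b) (Ua a))) |> fun h => by
          convert h using 1
          exact TensorProduct.ext' fun x y => rfl)
      (isUnit_T g hU) (μ.codRestrict U hμ) (TensorProduct.ext' fun x y => Subtype.ext (by
        change ((T g (hsub a) x : Ua a) : A) * ((T g (hsub b) y : Ua b) : A) = pointAct k A A g ((x : A) * (y : A))
        rw [hTmul]
        rfl))) ((⟨a, hmem a⟩ : Ua a) ⊗ₜ[k] (⟨b, hmem b⟩ : Ua b))
    have h1 := congrArg (Subtype.val : U → A) hnat
    refine Eq.trans ?_ h1.symm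
    exact (hcompat U hU t ht ⟨a * b, hμ ((⟨a, hmem a⟩ : Ua a) ⊗ₜ[k] (⟨b, hmem b⟩ : Ua b))⟩).symm
  let SL : A →ₗ[k] A := { toFun := S, map_add' := hadd, map_smul' := hsmul }
  let gs : A →ₐ[k] k := (Bialgebra.counitAlgHom k A).comp (AlgHom.ofLinearMap SL hone hmul)
  refine ⟨toConv gs, fun V _ _ _ _ => ?_⟩
  obtain ⟨s, hs⟩ := exists_ssPart (pointAct k A V g)
  convert hs
  refine LinearMap.ext fun x => ?_
  rw [← sub_eq_zero, ← Module.forall_dual_apply_eq_zero_iff k]
  intro ψ
  rw [map_sub, sub_eq_zero]
  obtain ⟨U, hUfin, hUsub, hU⟩ := exists_finite_subcomod_span (k := k) (A := A) (V := A)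
    (Set.finite_range fun i => cf (A := A) ψ (Module.finBasis k V i))
  haveI := hUfin
  obtain ⟨t, ht⟩ := exists_ssPart (T g hU)
  have hcf : ∀ y, cf (A := A) ψ y ∈ U := by
    have : LinearMap.range (cf (A := A) ψ) ≤ U := by
      rw [LinearMap.range_eq_map, ← (Module.finBasis k V).span_eq, Submodule.map_span, Submodule.span_le,
        ← Set.range_comp]
      exact hUsub
    exact fun y => this ⟨y, rfl⟩
  have hnat := LinearMap.congr_fun (hs.natural ht (isUnit_pointAct g) (isUnit_T g hU)
    ((cf (A := A) ψ).codRestrict U hcf) (LinearMap.ext fun y => Subtype.ext (isComodHom_point g ψ y))) x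
  have h1 := congrArg (Subtype.val : U → A) hnat
  have h2 := hcompat U hU t ht ⟨cf (A := A) ψ x, hcf x⟩
  have hε : ∀ y : V, Coalgebra.counit (R := k) (cf (A := A) ψ y) = ψ y := fun y => by
    rw [apply_cf, op_counit]
  rw [pointAct_apply, ← apply_cf, ← hε (s x)]
  exact congrArg (Coalgebra.counit (R := k) (A := A)) (h1.trans h2).symm

theorem point_ext {g h : WithConv (A →ₐ[k] k)}
    (hgh : ∀ (U : Submodule k A) (hU : HopfRep.IsSubcomod (k := k) (A := A) U), Module.Finite k U →
      ∀ x : U, pointAct k A A g (x : A) = pointAct k A A h (x : A)) : g = h := by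
  refine WithConv.ofConv_injective (AlgHom.ext fun a => ?_)
  obtain ⟨U, h1, h2, h3⟩ := exists_finite_subcomod_span (k := k) (A := A) (V := A) (Set.finite_singleton a)
  have h4 := congrArg (Coalgebra.counit (R := k) (A := A)) (hgh U h3 h1 ⟨a, h2 rfl⟩)
  have e : ∀ f : WithConv (A →ₐ[k] k), Coalgebra.counit (R := k) (pointAct k A A f a) = f.ofConv a := by
    intro f
    rw [pointAct_apply, ← apply_cf (A := A) f.ofConv.toLinearMap (Coalgebra.counit (R := k) (A := A)) a]
    refine congrArg f.ofConv ?_
    rw [cf_apply]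
    change lslice (Coalgebra.counit (R := k) (A := A)) (Coalgebra.comul (R := k) a) = a
    change TensorProduct.lid k A ((Coalgebra.counit (R := k) (A := A)).rTensor A (Coalgebra.comul (R := k) a)) = a
    rw [Coalgebra.rTensor_counit_comul, TensorProduct.lid_tmul, one_smul]
  rwa [e, e] at h4

end Point

end Groth.Misc1.Unip.Jordan
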