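import Groth.Agent.Misc1.Unip.LieP
import Groth.Agent.Misc1.Unip.Jordan
import Groth.Agent.Misc1.Unip.NoSubtorus
import Groth.Agent.AlgGrp1.TorusSplit
import Groth.Agent.S5423
import Mathlib.LinearAlgebra.Eigenspace.Semisimple
import Mathlib.LinearAlgebra.Eigenspace.Triangularizable
import Mathlib.RingTheory.SimpleModule.Basic
import Mathlib.RingTheory.Bialgebra.MonoidAlgebra

/-!
# Subgroups `μ_ℓ` from semisimple points and from tori
-/

set_option autoImplicit false
set_option linter.unusedSectionVars false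

universe u v

open TensorProduct WithConv Groth.ComodLib
open CategoryTheory MonoidalCategory CartesianMonoidalCategory MonObj AlgebraicGeometry

noncomputable section

namespace Groth.Misc1.Unip

theorem exists_prime_character {G : Type v} [AddCommGroup G] [Module.Finite ℤ G] [Nontrivial G] :
    ∃ ℓ : ℕ, ℓ.Prime ∧ ∃ π : G →+ ZMod ℓ, ∃ x, π x ≠ 0 := by
  obtain ⟨M, hM, -⟩ := (⊤ : Submodule ℤ G) |> fun _ =>
    (eq_top_or_exists_le_coatom (⊥ : Submodule ℤ G)).resolve_left bot_ne_top
  haveI : IsSimpleModule ℤ (G ⧸ M) := isSimpleModule_iff_isCoatom.2 hM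
  obtain ⟨I, hI, ⟨e⟩⟩ := (isSimpleModule_iff_quot_maximal (R := ℤ) (M := G ⧸ M)).1 inferInstance
  have hspan : Ideal.span {((Submodule.IsPrincipal.generator I).natAbs : ℤ)} = I := by
    rw [Int.span_natAbs, Ideal.span_singleton_generator]
  set ℓ := (Submodule.IsPrincipal.generator I).natAbs with hℓ
  have hprime : ℓ.Prime := by
    have hne : (ℓ : ℤ) ≠ 0 := by
      intro h
      have : I = ⊥ := by rw [← hspan, h, Ideal.span_singleton_eq_bot.2 rfl]
      exact Int.not_isField (Ring.isField_iff_maximal_bot.2 (this ▸ hI))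
    have := (Ideal.span_singleton_prime hne).1 (hspan.symm ▸ hI.isPrime)
    exact Nat.prime_iff_prime_int.2 this
  let f : G →+ ZMod ℓ := ((Ideal.quotEquivOfEq hspan.symm).trans
      (Int.quotientSpanNatEquivZMod ℓ)).toAddMonoidHom.comp (e.toLinearMap.toAddMonoidHom.comp M.mkQ.toAddMonoidHom)
  refine ⟨ℓ, hprime, f, ?_⟩
  have hs : Function.Surjective f :=
    ((Ideal.quotEquivOfEq hspan.symm).trans (Int.quotientSpanNatEquivZMod ℓ)).surjective.comp
      (e.surjective.comp M.mkQ_surjective)
  haveI : Fact (1 < ℓ) := ⟨hprime.one_lt⟩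
  obtain ⟨x, hx⟩ := hs 1
  exact ⟨x, hx.trans_ne one_ne_zero⟩

variable {k : Type u} [Field k] [IsAlgClosed k] {A : Type u} [CommRing A] [HopfAlgebra k A]

theorem mem_of_iSup_eq_top {J : Type v} {M : Type u} [AddCommGroup M] [Module k M] {E G : J → Submodule k M}
    (hle : ∀ i, G i ≤ E i) (hind : iSupIndep E) (htop : (⨆ i, G i) = ⊤) (i : J) : G i = E i := by
  refine le_antisymm (hle i) fun a ha => ?_
  have hmem : a ∈ G i ⊔ ⨆ j, ⨆ (_ : j ≠ i), G j := by
    rw [← iSup_split_single G i, htop]
    exact Submodule.mem_top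
  obtain ⟨g, hg, h, hh, rfl⟩ := Submodule.mem_sup.1 hmem
  have h1 : h ∈ E i := by simpa using (E i).sub_mem ha (hle i hg)
  have h2 : h ∈ ⨆ j, ⨆ (_ : j ≠ i), E j :=
    (iSup₂_le fun j hj => (hle j).trans (le_iSup₂ (f := fun j (_ : j ≠ i) => E j) j hj)) hh
  rw [Submodule.disjoint_def.1 (hind i) h h1 h2, add_zero]
  exact hg

/-- a nontrivial semisimple point of an affine group yields a subgroup isomorphic to some `μ_ℓ` -/
theorem exists_mu_of_semisimple_point [Algebra.FiniteType k A] (s : WithConv (A →ₐ[k] k))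
    (hss : ∀ (V : Type u) [AddCommGroup V] [Module k V] [HopfRep.Comod k A V] [FiniteDimensional k V],
      (pointAct k A V s).IsSemisimple)
    (hs : s ≠ 1) :
    ∃ ℓ : ℕ, ℓ.Prime ∧ ∃ φ : A →ₐc[k] MonoidAlgebra k (Multiplicative (ZMod ℓ)), Function.Surjective φ := by
  classical
  let S : Module.End k A := pointAct k A A s
  let E : k → Submodule k A := fun c => S.eigenspace c
  have hind : iSupIndep E := Module.End.eigenspaces_iSupIndep S
  have hone : (1 : A) ∈ E 1 := by
    rw [Module.End.mem_eigenspace_iff, one_smul]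
    change slice s.ofConv.toLinearMap (Coalgebra.comul (R := k) (1 : A)) = 1
    rw [Bialgebra.comul_one, Algebra.TensorProduct.one_def, slice_tmul]
    simp
  have hSmul : ∀ a b : A, S (a * b) = S a * S b := fun a b => by
    change slice s.ofConv.toLinearMap (Coalgebra.comul (R := k) (a * b)) =
      slice s.ofConv.toLinearMap (Coalgebra.comul (R := k) a) * slice s.ofConv.toLinearMap (Coalgebra.comul (R := k) b)
    rw [Bialgebra.comul_mul]
    generalize Coalgebra.comul (R := k) a = x
    generalize Coalgebra.comul (R := k) b = y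
    induction x using TensorProduct.induction_on with
    | zero => simp
    | add p q hp hq => simp only [add_mul, map_add, hp, hq]
    | tmul p q =>
      induction y using TensorProduct.induction_on with
      | zero => simp
      | add r t hr ht => simp only [mul_add, map_add, hr, ht]
      | tmul r t => simp [smul_smul, mul_comm]
  have hEmul : ∀ {c d : k} {a b : A}, a ∈ E c → b ∈ E d → a * b ∈ E (c * d) := by
    intro c d a b ha hb
    simp only [E, Module.End.mem_eigenspace_iff] at ha hb ⊢
    rw [hSmul, ha, hb, smul_mul_smul_comm]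
  have hεS : ∀ a : A, Coalgebra.counit (R := k) (S a) = s.ofConv a := fun a =>
    Groth.Agent.S2968.counit_op s.ofConv.toLinearMap a
  -- a finite stable space of generators
  obtain ⟨t, ht⟩ := (inferInstance : Algebra.FiniteType k A).out
  obtain ⟨U, hUfin, htU, hU⟩ := exists_finite_subcomod_span (k := k) (A := A) t.finite_toSet
  letI cU : HopfRep.Comod k A U := ComodSub.Comod.restr inferInstance U hU
  have hUsub := ComodSub.isComodHom_subtype (inferInstance : HopfRep.Comod k A A) U hU
  let SU : Module.End k U := pointAct k A U s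
  have hSU : ∀ x : U, ((SU x : U) : A) = S x := fun x => isComodHom_op hUsub s.ofConv.toLinearMap x
  have hUtop : (⨆ c, SU.eigenspace c) = ⊤ := by
    have h1 := Module.End.iSup_maxGenEigenspace_eq_top SU
    simp only [SU] at h1 ⊢
    rw [← h1]
    exact iSup_congr fun c => ((hss U).isFinitelySemisimple.maxGenEigenspace_eq_eigenspace c).symm
  let Λ : Set k := {c | ∃ x : U, x ∈ SU.eigenspace c ∧ Coalgebra.counit (R := k) (x : A) ≠ 0}
  have hΛfin : Λ.Finite := by
    refine (Module.End.finite_hasEigenvalue SU).subset fun c ⟨x, hx, hx0⟩ => ?_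
    refine Module.End.hasEigenvalue_of_hasEigenvector ⟨hx, fun h => hx0 ?_⟩
    rw [h, Submodule.coe_zero, map_zero]
  let M : Submonoid k := Submonoid.closure Λ
  let G : k → Submodule k A := fun c =>
    if c ∈ M then E c else E c ⊓ LinearMap.ker (Coalgebra.counit (R := k) (A := A))
  have hGmem : ∀ {c : k} {a : A}, a ∈ E c → (c ∈ M ∨ Coalgebra.counit (R := k) a = 0) → a ∈ G c := by
    intro c a ha h
    by_cases hc : c ∈ M
    · simpa [G, hc] using ha
    · simpa [G, hc] using And.intro ha (h.resolve_left hc)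
  have hGle : ∀ c, G c ≤ E c := fun c => by
    by_cases hc : c ∈ M
    · simp [G, hc]
    · simp [G, hc]
  have hGor : ∀ {c : k} {a : A}, a ∈ G c → c ∈ M ∨ Coalgebra.counit (R := k) a = 0 := by
    intro c a ha
    by_cases hc : c ∈ M
    · exact Or.inl hc
    · simp [G, hc] at ha
      exact Or.inr ha.2
  have hGtop : (⨆ c, G c) = ⊤ := by
    refine top_le_iff.1 fun a _ => ?_
    have ha : a ∈ Algebra.adjoin k (t : Set A) := ht ▸ Algebra.mem_top
    induction ha using Algebra.adjoin_induction with
    | mem x hx =>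
      have hle : (⊤ : Submodule k U) ≤ (⨆ c, G c).comap U.subtype := by
        rw [← hUtop]
        refine iSup_le fun c y hy => Submodule.mem_iSup_of_mem c (hGmem ?_ ?_)
        · rw [Module.End.mem_eigenspace_iff, Submodule.subtype_apply, ← hSU, Module.End.mem_eigenspace_iff.1 hy]
          rfl
        · exact or_iff_not_imp_right.2 fun h => Submonoid.subset_closure ⟨y, hy, h⟩
      exact hle (Submodule.mem_top (x := (⟨x, htU hx⟩ : U)))
    | algebraMap r =>
      rw [Algebra.algebraMap_eq_smul_one]
      exact Submodule.smul_mem _ _ (Submodule.mem_iSup_of_mem 1 (hGmem hone (Or.inl M.one_mem)))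
    | add x y _ _ hx hy => exact add_mem (hx trivial) (hy trivial)
    | mul x y _ _ hx hy =>
      replace hx := hx trivial
      replace hy := hy trivial
      refine Submodule.iSup_induction G (motive := fun x => x * y ∈ ⨆ c, G c) hx (fun c u hu => ?_) (by simp)
        fun u v hu hv => by rw [add_mul]; exact add_mem hu hv
      refine Submodule.iSup_induction G (motive := fun y => u * y ∈ ⨆ c, G c) hy (fun d v hv => ?_) (by simp)
        fun v w hv hw => by rw [mul_add]; exact add_mem hv hw
      refine Submodule.mem_iSup_of_mem (c * d) (hGmem (hEmul (hGle c hu) (hGle d hv)) ?_)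
      rcases hGor hu with h1 | h1
      · rcases hGor hv with h2 | h2
        · exact Or.inl (M.mul_mem h1 h2)
        · exact Or.inr (by rw [Bialgebra.counit_mul, h2, mul_zero])
      · exact Or.inr (by rw [Bialgebra.counit_mul, h1, zero_mul])
  have hEor : ∀ {c : k} {a : A}, a ∈ E c → c ∈ M ∨ Coalgebra.counit (R := k) a = 0 := fun {c a} ha =>
    hGor ((mem_of_iSup_eq_top hGle hind hGtop c).symm ▸ ha)
  have hEtop : (⨆ c, E c) = ⊤ := top_le_iff.1 (hGtop ▸ iSup_mono hGle)
  have hinj : Function.Injective S := fun a b h => by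
    have := congrArg (pointAct k A A s⁻¹) h
    rwa [← Module.End.mul_apply, ← map_mul, ← Module.End.mul_apply (pointAct k A A s⁻¹), ← map_mul,
      inv_mul_cancel, map_one] at this
  have hΛ0 : ∀ c ∈ Λ, c ≠ 0 := by
    rintro c ⟨x, hx, hx0⟩ rfl
    refine hx0 ?_
    have h0 : S (x : A) = 0 := by
      rw [← hSU, Module.End.mem_eigenspace_iff.1 hx, zero_smul, Submodule.coe_zero]
    rw [hinj (h0.trans (map_zero S).symm), map_zero]
  let Γ : Subgroup kˣ := Subgroup.closure {u : kˣ | (u : k) ∈ Λ}
  have hM : ∀ c ∈ M, ∃ u ∈ Γ, (u : k) = c := fun c hc => by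
    induction hc using Submonoid.closure_induction with
    | mem x hx => exact ⟨Units.mk0 x (hΛ0 x hx), Subgroup.subset_closure hx, rfl⟩
    | one => exact ⟨1, Γ.one_mem, rfl⟩
    | mul x y _ _ hx hy =>
      obtain ⟨u, hu, rfl⟩ := hx
      obtain ⟨v, hv, rfl⟩ := hy
      exact ⟨u * v, Γ.mul_mem hu hv, rfl⟩
  haveI : Nontrivial (Additive Γ) := by
    by_contra hn
    rw [not_nontrivial_iff_subsingleton] at hn
    refine hs (WithConv.ofConv_injective (AlgHom.ext fun a => ?_))
    have ha : a ∈ ⨆ c, E c := hEtop ▸ Submodule.mem_top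
    refine Submodule.iSup_induction E (motive := fun a => s.ofConv a = (1 : WithConv (A →ₐ[k] k)).ofConv a) ha
      (fun c x hx => ?_) (by simp) fun x y hx hy => by rw [map_add, map_add, hx, hy]
    rw [← hεS, Module.End.mem_eigenspace_iff.1 hx, map_smul, AlgHom.convOne_apply, smul_eq_mul]
    rcases hEor hx with h | h
    · obtain ⟨u, hu, rfl⟩ := hM c h
      have : (⟨u, hu⟩ : Γ) = 1 := Additive.ofMul.injective (Subsingleton.elim _ _)
      rw [show u = 1 from congrArg Subtype.val this, Units.val_one, _root_.one_mul]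
      rfl
    · rw [h, mul_zero]
      simp [h]
  haveI : Module.Finite ℤ (Additive Γ) := by
    haveI : Group.FG Γ := (Group.fg_iff_subgroup_fg Γ).2
      ⟨((hΛfin.preimage (Units.val_injective.injOn)) : Set.Finite {u : kˣ | (u : k) ∈ Λ}).toFinset, by
        rw [Set.Finite.coe_toFinset]; rfl⟩
    exact Module.Finite.iff_addGroup_fg.2 inferInstance
  obtain ⟨ℓ, hℓ, π, x₀, hx₀⟩ := exists_prime_character (G := Additive Γ)
  refine ⟨ℓ, hℓ, ?_⟩
  haveI : Fact ℓ.Prime := ⟨hℓ⟩
  let τ : k → Multiplicative (ZMod ℓ) := fun c =>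
    if h : ∃ u ∈ Γ, (u : k) = c then Multiplicative.ofAdd (π (Additive.ofMul ⟨h.choose, h.choose_spec.1⟩)) else 1
  have hτ : ∀ (u : kˣ) (hu : u ∈ Γ), τ u = Multiplicative.ofAdd (π (Additive.ofMul ⟨u, hu⟩)) := by
    intro u hu
    have h : ∃ v ∈ Γ, (v : k) = u := ⟨u, hu, rfl⟩
    simp only [τ, dif_pos h]
    congr 4
    exact Units.val_injective h.choose_spec.2
  have hτ1 : τ 1 = 1 := by
    rw [← Units.val_one, hτ 1 Γ.one_mem]
    simp [show (⟨1, Γ.one_mem⟩ : Γ) = 1 from rfl]
  have hτmul : ∀ {c d}, c ∈ M → d ∈ M → τ (c * d) = τ c * τ d := fun {c d} hc hd => by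
    obtain ⟨u, hu, rfl⟩ := hM c hc
    obtain ⟨v, hv, rfl⟩ := hM d hd
    rw [← Units.val_mul, hτ _ (Γ.mul_mem hu hv), hτ u hu, hτ v hv, ← ofAdd_add, ← map_add]
    rfl
  let L : (c : k) → E c →ₗ[k] MonoidAlgebra k (Multiplicative (ZMod ℓ)) := fun c =>
    MonoidAlgebra.lsingle (τ c) ∘ₗ Coalgebra.counit (R := k) ∘ₗ (E c).subtype
  have hint : DirectSum.IsInternal E := DirectSum.isInternal_submodule_of_iSupIndep_of_iSup_eq_top hind hEtop
  let χ : A →ₗ[k] MonoidAlgebra k (Multiplicative (ZMod ℓ)) :=
    DirectSum.toModule k k _ L ∘ₗ (LinearEquiv.ofBijective (DirectSum.coeLinearMap E) hint).symm.toLinearMap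
  have hχ : ∀ (c : k) (a : A), a ∈ E c → χ a = MonoidAlgebra.single (τ c) (Coalgebra.counit (R := k) a) := by
    intro c a ha
    have h1 : (LinearEquiv.ofBijective (DirectSum.coeLinearMap E) hint).symm a =
        DirectSum.lof k k (fun c => E c) c ⟨a, ha⟩ := by
      rw [LinearEquiv.symm_apply_eq, LinearEquiv.ofBijective_apply, DirectSum.lof_eq_of, DirectSum.coeLinearMap_of]
    simp only [χ, LinearMap.comp_apply, LinearEquiv.coe_coe, h1, DirectSum.toModule_lof]
    simp [L]
  have hall : ∀ (P : A → Prop), P 0 → (∀ a b, P a → P b → P (a + b)) → (∀ c, ∀ a ∈ E c, P a) → ∀ a, P a :=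
    fun P h0 hadd h a => Submodule.iSup_induction E (motive := P) (hEtop ▸ Submodule.mem_top) h h0 hadd
  have hχ1 : χ 1 = 1 := by rw [hχ 1 1 hone, hτ1, Bialgebra.counit_one, MonoidAlgebra.one_def]
  have hχmul : ∀ a b, χ (a * b) = χ a * χ b := fun a b => by
    refine hall (fun a => χ (a * b) = χ a * χ b) (by simp)
      (fun x y hx hy => by rw [add_mul, map_add, map_add, hx, hy, add_mul]) (fun c x hx => ?_) a
    refine hall (fun b => χ (x * b) = χ x * χ b) (by simp)
      (fun u v hu hv => by rw [mul_add, map_add, map_add, hu, hv, mul_add]) (fun d y hy => ?_) b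
    rw [hχ c x hx, hχ d y hy, hχ _ _ (hEmul hx hy), MonoidAlgebra.single_mul_single, Bialgebra.counit_mul]
    rcases hEor hx with h1 | h1
    · rcases hEor hy with h2 | h2
      · rw [hτmul h1 h2]
      · simp [h2]
    · simp [h1]
  let F : A →ₐ[k] MonoidAlgebra k (Multiplicative (ZMod ℓ)) := AlgHom.ofLinearMap χ hχ1 hχmul
  let Φ : A →ₐc[k] MonoidAlgebra k (Multiplicative (ZMod ℓ)) := BialgHom.ofAlgHom F
    (AlgHom.ext fun a => by
      change Coalgebra.counit (R := k) (χ a) = Coalgebra.counit (R := k) a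
      refine hall (fun a => Coalgebra.counit (R := k) (χ a) = Coalgebra.counit (R := k) a) (by simp)
        (fun x y hx hy => by rw [map_add, map_add, map_add, hx, hy]) (fun c x hx => ?_) a
      rw [hχ c x hx]; simp)
    (AlgHom.ext fun a => by
      change TensorProduct.map χ χ (Coalgebra.comul (R := k) a) = Coalgebra.comul (R := k) (χ a)
      refine hall (fun a => TensorProduct.map χ χ (Coalgebra.comul (R := k) a) = Coalgebra.comul (R := k) (χ a))
        (by simp) (fun x y hx hy => by rw [map_add, map_add, map_add, map_add, hx, hy]) (fun c x hx => ?_) a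
      have hmem : Coalgebra.comul (R := k) x ∈ LinearMap.range ((E c).subtype.lTensor A) := by
        refine (mem_range_lTensor_iff _ _).2 fun ψ => ?_
        rw [Module.End.mem_eigenspace_iff]
        have e : lslice ψ (Coalgebra.comul (R := k) x) = cf (A := A) ψ x := (cf_apply ψ x).symm
        rw [e, ← map_smul, ← Module.End.mem_eigenspace_iff.1 hx]
        exact (isComodHom_op (isComodHom_cf ψ) _ x).symm
      obtain ⟨z, hz⟩ := hmem
      have h1 : TensorProduct.map χ χ ((E c).subtype.lTensor A z) =
          χ (TensorProduct.rid k A ((Coalgebra.counit (R := k) (A := A)).lTensor A ((E c).subtype.lTensor A z))) ⊗ₜ[k]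
            MonoidAlgebra.single (τ c) (1 : k) := by
        clear hz
        induction z using TensorProduct.induction_on with
        | zero => simp
        | add p q hp hq => simp only [map_add, TensorProduct.add_tmul, hp, hq]
        | tmul p q =>
          simp only [LinearMap.lTensor_tmul, TensorProduct.map_tmul, TensorProduct.rid_tmul, map_smul,
            Submodule.subtype_apply, hχ c q q.2]
          rw [TensorProduct.smul_tmul, MonoidAlgebra.smul_single, smul_eq_mul, _root_.mul_one]
      rw [← hz, h1, hz, Coalgebra.lTensor_counit_comul, TensorProduct.rid_tmul, one_smul, hχ c x hx,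
        MonoidAlgebra.comul_single]
      change MonoidAlgebra.single (τ c) _ ⊗ₜ[k] MonoidAlgebra.single (τ c) (1 : k) = _
      rw [CommSemiring.comul_apply, TensorProduct.map_tmul, MonoidAlgebra.lsingle_apply, MonoidAlgebra.lsingle_apply,
        show MonoidAlgebra.single (τ c) (Coalgebra.counit (R := k) x) =
          Coalgebra.counit (R := k) x • MonoidAlgebra.single (τ c) (1 : k) by
            rw [MonoidAlgebra.smul_single, smul_eq_mul, _root_.mul_one], TensorProduct.smul_tmul])
  refine ⟨Φ, ?_⟩
  obtain ⟨i, hi, himem⟩ : ∃ i : Multiplicative (ZMod ℓ), i ≠ 1 ∧ MonoidAlgebra.single i (1 : k) ∈ F.range := by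
    by_contra hcon
    push Not at hcon
    refine hx₀ ?_
    have hx₀' : (Additive.toMul x₀ : Γ).1 ∈ Γ := (Additive.toMul x₀).2
    suffices h : ∀ (u : kˣ) (hu : u ∈ Γ), π (Additive.ofMul ⟨u, hu⟩) = 0 from h _ hx₀'
    intro u hu
    induction hu using Subgroup.closure_induction with
    | mem v hv =>
      obtain ⟨y, hy, hy0⟩ := hv
      have hyE : (y : A) ∈ E v := by
        rw [Module.End.mem_eigenspace_iff, ← hSU, Module.End.mem_eigenspace_iff.1 hy]; rfl
      by_contra hne
      refine hcon (τ v) ?_ ⟨(Coalgebra.counit (R := k) (y : A))⁻¹ • (y : A), ?_⟩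
      · rw [hτ v (Subgroup.subset_closure ⟨y, hy, hy0⟩)]
        exact fun h => hne (Multiplicative.ofAdd.injective (h.trans ofAdd_zero.symm))
      · change χ _ = _
        rw [map_smul, hχ _ _ hyE, MonoidAlgebra.smul_single, smul_eq_mul, inv_mul_cancel₀ hy0]
    | one => exact map_zero π
    | mul v w hv hw h1 h2 =>
      have : Additive.ofMul (⟨v * w, Γ.mul_mem hv hw⟩ : Γ) = Additive.ofMul ⟨v, hv⟩ + Additive.ofMul ⟨w, hw⟩ := rfl
      rw [this, map_add, h1, h2, add_zero]
    | inv v hv h1 =>
      have : Additive.ofMul (⟨v⁻¹, Γ.inv_mem hv⟩ : Γ) = -Additive.ofMul ⟨v, hv⟩ := rfl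
      rw [this, map_neg, h1, neg_zero]
  intro z
  induction z using MonoidAlgebra.induction_linear with
  | zero => exact ⟨0, map_zero _⟩
  | add a b ha hb =>
    obtain ⟨a', rfl⟩ := ha
    obtain ⟨b', rfl⟩ := hb
    exact ⟨a' + b', map_add _ _ _⟩
  | single a r =>
    obtain ⟨n, rfl⟩ : ∃ n : ℕ, i ^ n = a := by
      refine ⟨(Multiplicative.toAdd a * (Multiplicative.toAdd i)⁻¹).val, ?_⟩
      refine Multiplicative.toAdd.injective ?_
      rw [toAdd_pow, nsmul_eq_mul, ZMod.natCast_zmod_val,
        inv_mul_cancel_right₀ (fun h => hi (Multiplicative.toAdd.injective h))]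
    obtain ⟨a', ha'⟩ := pow_mem himem n
    rw [MonoidAlgebra.single_pow, one_pow] at ha'
    refine ⟨r • a', ?_⟩
    rw [map_smul, show Φ a' = MonoidAlgebra.single (i ^ n) 1 from ha', MonoidAlgebra.smul_single, smul_eq_mul,
      _root_.mul_one]

/-- no subgroups `μ_ℓ` ⇒ every point acts unipotently -/
theorem points_unipotent_of_no_mu [Algebra.FiniteType k A]
    (h : ∀ ℓ : ℕ, ℓ.Prime → ¬ ∃ φ : A →ₐc[k] MonoidAlgebra k (Multiplicative (ZMod ℓ)), Function.Surjective φ)
    (g : A →ₐ[k] k) (V : Type u) [AddCommGroup V] [Module k V] [HopfRep.Comod k A V] [Module.Finite k V] :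
    IsNilpotent (pointAct k A V (toConv g) - 1) := by
  obtain ⟨gs, hgs⟩ := Jordan.exists_semisimple_point (toConv g)
  have h1 : gs = 1 := by
    by_contra hne
    obtain ⟨ℓ, hℓ, hφ⟩ := exists_mu_of_semisimple_point gs (fun W _ _ _ _ => (hgs W).1) hne
    exact h ℓ hℓ hφ
  have := (hgs V).2.2
  rwa [h1, map_one] at this

/-- a nontrivial torus contains `μ_p` -/
theorem hasNoSubtorus_of_no_mu (p : ℕ) [hp : Fact p.Prime] [CharP k p] [Algebra.FiniteType k A]
    (h : ¬ ∃ φ : A →ₐc[k] MonoidAlgebra k (Multiplicative (ZMod p)), Function.Surjective φ) :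
    Red.HasNoSubtorus k (CoactBr.sp k A) := by
  intro T _ j _ _ hT
  obtain ⟨r, e, he⟩ := Groth.AlgGrp1.exists_diag_iso_of_isTorus hT
  let N := MonoidAlgebra k (Multiplicative (Fin r → ℤ))
  haveI := he
  obtain ⟨φ, hφ⟩ := Groth.AlgGrp1.exists_bialgHom_of_isMonHom (e.hom ≫ j)
  rcases r with _ | r
  · have he' : IsIso e.hom.left := inferInstanceAs (IsIso ((Over.forget _).map e.hom))
    have hN : IsIso (CoactBr.sp k N).hom := by
      let eN : k ≃ₐ[k] N := AlgEquiv.ofBijective (Algebra.ofId k N)
        ⟨(algebraMap k N).injective, fun x => ⟨Coalgebra.counit (R := k) x, by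
          induction x using MonoidAlgebra.induction_linear with
          | zero => simp
          | add a b ha hb => rw [map_add, map_add, ha, hb]
          | single a c =>
            rw [Subsingleton.elim a 1]
            rw [Algebra.ofId_apply, Algebra.algebraMap_eq_smul_one, MonoidAlgebra.one_def, MonoidAlgebra.smul_single,
              smul_eq_mul, _root_.mul_one]
            congr 1
            exact MonoidAlgebra.counit_single (R := k) (A := k) (1 : Multiplicative (Fin 0 → ℤ)) c⟩⟩
      change IsIso (Spec.map (CommRingCat.ofHom (algebraMap k N)))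
      rw [show CommRingCat.ofHom (algebraMap k N) = eN.toRingEquiv.toCommRingCatIso.hom from rfl]
      infer_instance
    change IsIso T.hom
    have : IsIso (e.hom.left ≫ T.hom) := by rw [Over.w e.hom]; exact hN
    exact IsIso.of_isIso_comp_left e.hom.left T.hom
  exfalso
  let π : Multiplicative (Fin (r + 1) → ℤ) →* Multiplicative (ZMod p) :=
    AddMonoidHom.toMultiplicative ((Int.castAddHom (ZMod p)).comp (Pi.evalAddMonoidHom (fun _ => ℤ) 0))
  let ψ : N →ₐc[k] MonoidAlgebra k (Multiplicative (ZMod p)) := MonoidAlgebra.mapDomainBialgHom k π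
  let ρ : A →ₐc[k] MonoidAlgebra k (Multiplicative (ZMod p)) := ψ.comp φ
  let D : WithConv (A →ₗ[k] k) := toConv (mom k p 1 ∘ₗ (ρ : A →ₗ[k] MonoidAlgebra k (Multiplicative (ZMod p))))
  have hmom0 : ∀ x : MonoidAlgebra k (Multiplicative (ZMod p)), mom k p 0 x = Coalgebra.counit (R := k) x := by
    intro x
    induction x using MonoidAlgebra.induction_linear with
    | zero => simp
    | add a b ha hb => rw [map_add, map_add, ha, hb]
    | single a c => simp [mom_single]
  have hDn : ∀ (n : ℕ) (a : A), mom k p n (ρ a) = (D ^ n) a := by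
    intro n
    induction n with
    | zero =>
      intro a
      rw [hmom0, CoalgHomClass.counit_comp_apply]
      simp [LinearMap.convOne_def]
    | succ n ih =>
      intro a
      rw [← mom_comul, pow_succ, LinearMap.convMul_apply, ← CoalgHomClass.map_comp_comul_apply ρ a,
        ← LinearMap.comp_apply (TensorProduct.map _ _), ← TensorProduct.map_comp]
      congr 3
      exact LinearMap.ext fun b => ih b
  have hDder : D ∈ derS k A := fun a b => by
    change mom k p 1 (ρ (a * b)) = mom k p 1 (ρ a) * _ + _ * mom k p 1 (ρ b)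
    rw [map_mul, mom_mul, Finset.sum_range_succ, Finset.sum_range_succ, Finset.sum_range_zero, zero_add,
      Nat.sub_self, Nat.sub_zero, hmom0, hmom0, CoalgHomClass.counit_comp_apply, CoalgHomClass.counit_comp_apply,
      Nat.choose_zero_right, Nat.choose_self, Nat.cast_one, _root_.mul_one, _root_.mul_one]
    ring
  have hDp : D ^ p = D := by
    refine WithConv.ofConv_injective (LinearMap.ext fun a => ?_)
    change (D ^ p) a = D a
    rw [← pow_one D, ← pow_mul, _root_.one_mul, ← hDn, ← hDn]
    generalize ρ a = x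
    induction x using MonoidAlgebra.induction_linear with
    | zero => simp
    | add a b ha hb => rw [map_add, map_add, ha, hb]
    | single a c =>
      rw [mom_single, mom_single, pow_one, cst, ← map_pow, ZMod.pow_card]
  have hD0 : D ≠ 0 := by
    intro h0
    have hρ : (ρ : A →ₐ[k] MonoidAlgebra k (Multiplicative (ZMod p))) =
        (Algebra.ofId k _).comp (Bialgebra.counitAlgHom k A) := by
      refine AlgHom.ext fun a => mom_ext fun n => (hDn n a).trans ?_
      rw [h0, AlgHom.comp_apply, Algebra.ofId_apply, Algebra.algebraMap_eq_smul_one, map_smul,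
        MonoidAlgebra.one_def, mom_single, _root_.one_mul, toAdd_one, cst, map_zero, Bialgebra.counitAlgHom_apply,
        smul_eq_mul]
      rcases n with _ | n
      · simp [LinearMap.convOne_def]
      · rw [pow_succ, mul_zero, zero_pow (Nat.succ_ne_zero n), mul_zero]
        rfl
    have hψ : (ψ : N →ₐ[k] MonoidAlgebra k (Multiplicative (ZMod p))) =
        (Algebra.ofId k _).comp (Bialgebra.counitAlgHom k N) := by
      refine CoactBr.pt_injective ((cancel_mono (e.hom ≫ j)).1 ?_)
      rw [← hφ, ← CoactBr.pt_comp, ← CoactBr.pt_comp]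
      refine congrArg CoactBr.pt ?_
      change (ρ : A →ₐ[k] MonoidAlgebra k (Multiplicative (ZMod p))) = _
      rw [hρ]
      refine AlgHom.ext fun a => ?_
      simp [CoalgHomClass.counit_comp_apply]
    have := AlgHom.congr_fun hψ (MonoidAlgebra.single (Multiplicative.ofAdd (Pi.single (0 : Fin (r + 1)) (1 : ℤ))) 1)
    simp only [AlgHom.comp_apply, Bialgebra.counitAlgHom_apply, MonoidAlgebra.counit_single] at this
    change MonoidAlgebra.mapDomainBialgHom k π _ = _ at this
    simp [π, MonoidAlgebra.one_def, MonoidAlgebra.counit_single] at this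
    erw [MonoidAlgebra.counit_single] at this
    simp only [CommSemiring.counit_apply] at this
    have h1 := MonoidAlgebra.single_left_injective (R := k) one_ne_zero this
    exact one_ne_zero (Multiplicative.ofAdd.injective (h1.trans ofAdd_zero.symm))
  exact h (exists_mu_of_pow_eq_self hDder hD0 hDp)

end Groth.Misc1.Unip
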