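import Groth.Agent.Misc1.Unip.FrobDescent
import Groth.Agent.Misc1.Unip.MuPoint
import Groth.Agent.Misc1.Unip.FG
import Groth.Agent.Misc1.Unip.LieKolchin
import Groth.Agent.Misc1.Unip.DimOne.GeomConn
import Groth.Agent.S11926
import Mathlib.RingTheory.HopfAlgebra.TensorProduct

/-!
# Unipotence criteria by subgroups `μ_ℓ` and by the `p`-Lie algebra
-/

set_option autoImplicit false
set_option linter.unusedSectionVars false

universe u

open TensorProduct WithConv Groth.ComodLib

noncomputable section

namespace Groth.Misc1.Unip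

section Closed

variable {k : Type u} [Field k] [IsAlgClosed k] {A : Type u} [CommRing A] [HopfAlgebra k A]
  [Algebra.FiniteType k A]

theorem act_eq_pointAct (g : A →ₐ[k] k) (V : Type u) [AddCommGroup V] [Module k V] [HopfRep.Comod k A V] :
    HopfRep.Comod.act k A V g = pointAct k A V (toConv g) := rfl

theorem isUnipotent_reduced_of_no_mu [IsReduced A]
    (h : ∀ ℓ : ℕ, ℓ.Prime → ¬ ∃ φ : A →ₐc[k] MonoidAlgebra k (Multiplicative (ZMod ℓ)), Function.Surjective φ) :
    HopfRep.IsUnipotent k A :=
  (Groth.Agent.S5423.result k A).2 fun g V _ _ _ _ => by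
    rw [act_eq_pointAct]
    exact points_unipotent_of_no_mu h g V

/-- characteristic `p`: nilpotent `p`-Lie algebra and unipotent reduction give unipotence -/
theorem isUnipotent_of_red (p : ℕ) [Fact p.Prime] [CharP k p]
    (hnil : ∀ f ∈ derS k A, ∃ n : ℕ, f ^ p ^ n = 0)
    (hred : ∀ [(nilradical A).IsHopfIdeal k], HopfRep.IsUnipotent k (A ⧸ nilradical A)) :
    HopfRep.IsUnipotent k A := by
  haveI := Groth.Agent.S11926.result k A
  let q : A →ₐc[k] A ⧸ nilradical A := Bialgebra.Quotient.mkBialgHom (R := k) (nilradical A)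
  obtain ⟨r, hr⟩ := exists_pow_exhaustive p q Ideal.Quotient.mk_surjective
    (fun a ha => mem_nilradical.1 (Ideal.Quotient.eq_zero_iff_mem.1 ha)) fun b => exists_mem_fixSeries hred b
  exact isUnipotent_of_frobenius (p := p) r A hnil hr

theorem no_mu_quot (I : Ideal A) [I.IsHopfIdeal k] {n : ℕ}
    (h : ¬ ∃ φ : A →ₐc[k] MonoidAlgebra k (Multiplicative (ZMod n)), Function.Surjective φ) :
    ¬ ∃ φ : (A ⧸ I) →ₐc[k] MonoidAlgebra k (Multiplicative (ZMod n)), Function.Surjective φ :=
  fun ⟨φ, hφ⟩ => h ⟨φ.comp (Bialgebra.Quotient.mkBialgHom (R := k) I), hφ.comp Ideal.Quotient.mk_surjective⟩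

/-- a group without subgroups `μ_ℓ` is unipotent -/
theorem isUnipotent_of_no_mu
    (h : ∀ ℓ : ℕ, ℓ.Prime → ¬ ∃ φ : A →ₐc[k] MonoidAlgebra k (Multiplicative (ZMod ℓ)), Function.Surjective φ) :
    HopfRep.IsUnipotent k A := by
  rcases CharP.exists' k with h0 | ⟨p, hp, hk⟩
  · haveI := h0
    haveI : IsReduced A := isReduced_charZero k A
    exact isUnipotent_reduced_of_no_mu h
  · refine isUnipotent_of_red p (nilpotent_of_no_mu (h p hp.out)) ?_
    intro _
    haveI : IsReduced (A ⧸ nilradical A) :=
      (Ideal.isRadical_iff_quotient_reduced _).1 (Ideal.radical_isRadical (⊥ : Ideal A))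
    exact isUnipotent_reduced_of_no_mu fun ℓ hℓ => no_mu_quot _ (h ℓ hℓ)

theorem eq_zero_or_one_of_idem_quot (hconn : ∀ e : A, IsIdempotentElem e → e = 0 ∨ e = 1) :
    ∀ e : A ⧸ nilradical A, IsIdempotentElem e → e = 0 ∨ e = 1 := by
  intro e he
  have hnil : ∀ x ∈ RingHom.ker (Ideal.Quotient.mk (nilradical A)), IsNilpotent x := fun x hx =>
    mem_nilradical.1 (Ideal.Quotient.eq_zero_iff_mem.1 (RingHom.mem_ker.1 hx))
  obtain ⟨e', he', rfl⟩ := exists_isIdempotentElem_eq_of_ker_isNilpotent (Ideal.Quotient.mk (nilradical A))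
    hnil e (RingHom.mem_range.2 (Ideal.Quotient.mk_surjective e)) he
  exact (hconn e' he').imp (fun h => by rw [h, map_zero]) (fun h => by rw [h, map_one])

/-- a connected group in characteristic `p` without subgroups `μ_p` is unipotent -/
theorem isUnipotent_of_connected_no_mu (p : ℕ) [Fact p.Prime] [CharP k p]
    (hconn : ∀ e : A, IsIdempotentElem e → e = 0 ∨ e = 1)
    (h : ¬ ∃ φ : A →ₐc[k] MonoidAlgebra k (Multiplicative (ZMod p)), Function.Surjective φ) :
    HopfRep.IsUnipotent k A := by
  refine isUnipotent_of_red p (nilpotent_of_no_mu h) ?_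
  intro _
  haveI : IsReduced (A ⧸ nilradical A) :=
    (Ideal.isRadical_iff_quotient_reduced _).1 (Ideal.radical_isRadical (⊥ : Ideal A))
  haveI : IsDomain (A ⧸ nilradical A) := Groth.HopfDim.isDomain_of_connected k _ (eq_zero_or_one_of_idem_quot hconn)
  exact isUnipotent_of_hasNoSubtorus (hasNoSubtorus_of_no_mu p (no_mu_quot _ h))

end Closed

section Field

variable {k : Type u} [Field k] {A : Type u} [CommRing A] [HopfAlgebra k A] (K : Type u) [Field K] [Algebra k K]

theorem op_incl (f : K ⊗[k] A →ₗ[K] K) (a : A) (c : K →ₗ[k] k) :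
    lslice c (op f (incl K a)) =
      op (c ∘ₗ f.restrictScalars k ∘ₗ (incl (k := k) (A := A) K).toLinearMap) a := by
  rw [op_apply, op_apply]
  change lslice c (slice f (Coalgebra.comul (R := K) (incl K a))) =
    slice (c ∘ₗ f.restrictScalars k ∘ₗ (incl (k := k) (A := A) K).toLinearMap) (Coalgebra.comul (R := k) a)
  rw [comul_incl]
  generalize Coalgebra.comul (R := k) a = z
  induction z using TensorProduct.induction_on with
  | zero => simp
  | add x y hx hy => simp only [map_add, hx, hy]
  | tmul x y =>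
    rw [nat_tmul, slice_tmul, slice_tmul, incl_apply (k := k) (R := K) x, TensorProduct.smul_tmul', smul_eq_mul, mul_one, lslice_tmul]
    rfl

theorem comp_incl_mem_derS {f : WithConv (K ⊗[k] A →ₗ[K] K)} (hf : f ∈ derS K (K ⊗[k] A)) (c : K →ₗ[k] k) :
    toConv (c ∘ₗ f.ofConv.restrictScalars k ∘ₗ (incl (k := k) (A := A) K).toLinearMap) ∈ derS k A := fun a b => by
  change c (f (incl K (a * b))) = c (f (incl K a)) * _ + _ * c (f (incl K b))
  rw [map_mul, hf, counit_incl, counit_incl, mul_comm (f (incl K a)), ← Algebra.smul_def, ← Algebra.smul_def,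
    map_add, map_smul, map_smul, smul_eq_mul, smul_eq_mul]
  ring

theorem isUnipotent_descent (h : HopfRep.IsUnipotent K (K ⊗[k] A)) : HopfRep.IsUnipotent k A := by
  have key : ∀ (n : ℕ) (a : A), incl K a ∈ fixSeries K (K ⊗[k] A) (K ⊗[k] A) n → a ∈ fixSeries k A A n := by
    intro n
    induction n with
    | zero =>
      intro a ha
      refine (Submodule.mem_bot k).2 ?_
      have : incl (k := k) K a = incl (k := k) K (0 : A) := by rw [(Submodule.mem_bot K).1 ha, map_zero]
      exact (Algebra.TensorProduct.includeRight_injective (algebraMap k K).injective :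
        Function.Injective (Algebra.TensorProduct.includeRight : A →ₐ[k] K ⊗[k] A)) this
    | succ n ih =>
      intro a ha
      refine mem_fixSeries_succ.2 fun φ => ih _ ?_
      let ψ : K ⊗[k] A →ₗ[K] K :=
        (TensorProduct.AlgebraTensorModule.rid k K K).toLinearMap ∘ₗ φ.baseChange K
      have hψ : ∀ (x : K) (y : A), ψ (x ⊗ₜ y) = φ y • x := fun x y => by simp [ψ]
      have e : op (augL ψ) (incl (k := k) K a) = incl (k := k) K (op (augL φ) a) := by
        rw [op_apply, op_apply]
        change slice (augL ψ) (Coalgebra.comul (R := K) (incl (k := k) K a)) =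
          incl (k := k) K (slice (augL φ) (Coalgebra.comul (R := k) a))
        rw [comul_incl]
        generalize Coalgebra.comul (R := k) a = z
        induction z using TensorProduct.induction_on with
        | zero => simp
        | add x y hx hy => simp only [map_add, hx, hy]
        | tmul x y =>
          rw [nat_tmul, slice_tmul, slice_tmul]
          have : augL ψ (incl (k := k) K y) = algebraMap k K (augL φ y) := by
            have h1 : ψ (1 : K ⊗[k] A) = φ 1 • (1 : K) := by rw [Algebra.TensorProduct.one_def, hψ]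
            have h2 : ψ (incl (k := k) K y) = φ y • (1 : K) := hψ 1 y
            rw [augL, augL, LinearMap.sub_apply, LinearMap.smul_apply, LinearMap.sub_apply, LinearMap.smul_apply,
              h1, h2, counit_incl, smul_eq_mul, smul_eq_mul, map_sub, map_mul, Algebra.smul_def, Algebra.smul_def]
            ring
          rw [this, map_smul, algebraMap_smul]
      rw [← e]
      exact mem_fixSeries_succ.1 ha ψ
  refine isUnipotent_of_exhaustive fun a => ?_
  obtain ⟨m, hm⟩ := exists_mem_fixSeries h (incl (k := k) K a)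
  exact ⟨m, key m a hm⟩

theorem nilpotent_baseChange (p : ℕ) [hp : Fact p.Prime] [CharP k p] [CharP K p] [Algebra.FiniteType k A]
    (hnil : ∀ f ∈ derS k A, ∃ n : ℕ, f ^ p ^ n = 0) : ∀ f ∈ derS K (K ⊗[k] A), ∃ n : ℕ, f ^ p ^ n = 0 := by
  classical
  obtain ⟨s, hs⟩ := (inferInstance : Algebra.FiniteType k A).out
  obtain ⟨U, hUfin, hsU, hU⟩ := exists_finite_subcomod_span (k := k) (A := A) s.finite_toSet
  letI cU : HopfRep.Comod k A U := ComodSub.Comod.restr inferInstance U hU
  have hUsub := ComodSub.isComodHom_subtype (inferInstance : HopfRep.Comod k A A) U hU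
  letI : LieRing (Module.End k U) := LieRing.ofAssociativeRing
  let g : LieSubalgebra k (Module.End k U) :=
    { (derS k A).map (rho k A U).toLinearMap with
      lie_mem' := by
        rintro _ _ ⟨x, hx, rfl⟩ ⟨y, hy, rfl⟩
        refine ⟨x * y - y * x, commutator_mem_derS hx hy, ?_⟩
        change rho k A U (x * y - y * x) = _
        rw [map_sub, map_mul, map_mul, LieRing.of_associative_ring_bracket]
        rfl }
  have : LieModule.IsNilpotent g U := by
    refine (LieModule.isNilpotent_iff_forall (R := k)).2 fun x => ?_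
    obtain ⟨f, hf, hfx⟩ := x.2
    obtain ⟨n, hn⟩ := hnil f hf
    refine ⟨p ^ n, ?_⟩
    have : LieModule.toEnd k g U x = rho k A U f := LinearMap.ext fun v =>
      (LinearMap.congr_fun hfx v).symm
    rw [this, ← map_pow, hn, map_zero]
  obtain ⟨m, hm⟩ := (LieModule.isNilpotent_iff k g U).1 inferInstance
  let W : ℕ → Submodule k A := fun i => (LieModule.lowerCentralSeries k g U i).toSubmodule.map U.subtype
  have hW : ∀ i (f : WithConv (A →ₗ[k] k)), f ∈ derS k A → ∀ a ∈ W i, op f.ofConv a ∈ W (i + 1) := by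
    rintro i f hf _ ⟨v, hv, rfl⟩
    refine ⟨op f.ofConv v, ?_, isComodHom_op hUsub f.ofConv v⟩
    rw [LieModule.lowerCentralSeries_succ]
    exact LieSubmodule.lie_mem_lie (I := ⊤) (x := ⟨rho k A U f, f, hf, rfl⟩) (LieSubmodule.mem_top _) hv
  intro f hf
  refine ⟨m, derS_ext (s := (incl (k := k) (A := A) K) '' (s : Set A)) ?_ (pow_mem_derS p hf m) ?_⟩
  · exact Algebra.TensorProduct.adjoin_one_tmul_image_eq_top _ hs
  rintro _ ⟨a, ha, rfl⟩
  let M : ℕ → Submodule K (K ⊗[k] A) := fun i => Submodule.span K ((incl (k := k) (A := A) K) '' (W i : Set A))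
  have hM : ∀ i, ∀ z ∈ M i, op f.ofConv z ∈ M (i + 1) := by
    intro i z hz
    induction hz using Submodule.span_induction with
    | zero => rw [map_zero]; exact zero_mem _
    | add x y _ _ hx hy => rw [map_add]; exact add_mem hx hy
    | smul r x _ hx => rw [map_smul]; exact Submodule.smul_mem _ _ hx
    | mem x hx =>
      obtain ⟨b, hb, rfl⟩ := hx
      obtain ⟨y, hy⟩ := (mem_range_lTensor_iff (W (i + 1)) (op f.ofConv (incl K b))).2 fun c => by
        rw [op_incl]
        exact hW i (toConv _) (comp_incl_mem_derS K hf c) b hb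
      rw [← hy]
      clear hy
      induction y using TensorProduct.induction_on with
      | zero => rw [map_zero]; exact zero_mem _
      | add x y hx hy => rw [map_add]; exact add_mem hx hy
      | tmul r w =>
        rw [LinearMap.lTensor_tmul, smul_incl]
        exact Submodule.smul_mem _ _ (Submodule.subset_span ⟨w, w.2, rfl⟩)
  have hiter : ∀ j, ((rho K (K ⊗[k] A) (K ⊗[k] A) f) ^ j) (incl K a) ∈ M j := by
    intro j
    induction j with
    | zero =>
      refine Submodule.subset_span ⟨a, ⟨⟨a, hsU ha⟩, ?_, rfl⟩, rfl⟩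
      simp
    | succ j ih =>
      rw [pow_succ', Module.End.mul_apply]
      exact hM j _ ih
  have hMbot : M m = ⊥ := by
    have : W m = ⊥ := by simp [W, hm]
    simp [M, this]
  have hpm : m ≤ p ^ m := (Nat.lt_pow_self hp.out.one_lt).le
  have h0 : ((rho K (K ⊗[k] A) (K ⊗[k] A) f) ^ p ^ m) (incl K a) = 0 := by
    have h1 := hiter m
    rw [hMbot, Submodule.mem_bot] at h1
    rw [← Nat.sub_add_cancel hpm, pow_add, Module.End.mul_apply, h1, map_zero]
  rw [← map_pow, rho_apply] at h0
  have h2 := congrArg (Coalgebra.counit (R := K)) h0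
  rwa [map_zero, Groth.Agent.S2968.counit_op] at h2

theorem idem_baseChange [Algebra.IsAlgebraic k K] (hconn : ∀ e : A, IsIdempotentElem e → e = 0 ∨ e = 1) :
    ∀ e : K ⊗[k] A, IsIdempotentElem e → e = 0 ∨ e = 1 := by
  intro e he
  let c := Algebra.TensorProduct.comm k K A
  refine (DimOne.idemTrivial_tensor_algebraic (fun x hx => hconn x hx) (Bialgebra.counitAlgHom k A) K (c e)
    (he.map c)).imp (fun h => c.injective (h.trans (map_zero c).symm))
    (fun h => c.injective (h.trans (map_one c).symm))

end Field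

end Groth.Misc1.Unip

namespace Groth.Misc1.Unip

/-- the derivation attached to a subgroup `μ_p` -/
theorem mom_one_props {k : Type u} [Field k] {A : Type u} [CommRing A] [HopfAlgebra k A] {p : ℕ} [Fact p.Prime]
    [CharP k p] (φ : A →ₐc[k] MonoidAlgebra k (Multiplicative (ZMod p))) (hφ : Function.Surjective φ) :
    toConv (mom k p 1 ∘ₗ (φ : A →ₗ[k] MonoidAlgebra k (Multiplicative (ZMod p)))) ∈ derS k A ∧
      toConv (mom k p 1 ∘ₗ (φ : A →ₗ[k] MonoidAlgebra k (Multiplicative (ZMod p)))) ^ p =
        toConv (mom k p 1 ∘ₗ (φ : A →ₗ[k] MonoidAlgebra k (Multiplicative (ZMod p)))) ∧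
      toConv (mom k p 1 ∘ₗ (φ : A →ₗ[k] MonoidAlgebra k (Multiplicative (ZMod p)))) ≠ 0 := by
  set D := toConv (mom k p 1 ∘ₗ (φ : A →ₗ[k] MonoidAlgebra k (Multiplicative (ZMod p)))) with hD
  have hmom0 : ∀ x : MonoidAlgebra k (Multiplicative (ZMod p)), mom k p 0 x = Coalgebra.counit (R := k) x := by
    intro x
    induction x using MonoidAlgebra.induction_linear with
    | zero => simp
    | add a b ha hb => rw [map_add, map_add, ha, hb]
    | single a c => simp [mom_single]
  have hDn : ∀ (n : ℕ) (a : A), mom k p n (φ a) = (D ^ n) a := by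
    intro n
    induction n with
    | zero =>
      intro a
      rw [hmom0, CoalgHomClass.counit_comp_apply]
      simp [LinearMap.convOne_def]
    | succ n ih =>
      intro a
      rw [← mom_comul, pow_succ, LinearMap.convMul_apply, ← CoalgHomClass.map_comp_comul_apply φ a,
        ← LinearMap.comp_apply (TensorProduct.map _ _), ← TensorProduct.map_comp]
      congr 3
      exact LinearMap.ext fun b => ih b
  refine ⟨fun a b => ?_, WithConv.ofConv_injective (LinearMap.ext fun a => ?_), fun h0 => ?_⟩
  · change mom k p 1 (φ (a * b)) = mom k p 1 (φ a) * _ + _ * mom k p 1 (φ b)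
    rw [map_mul, mom_mul, Finset.sum_range_succ, Finset.sum_range_succ, Finset.sum_range_zero, zero_add,
      Nat.sub_self, Nat.sub_zero, hmom0, hmom0, CoalgHomClass.counit_comp_apply, CoalgHomClass.counit_comp_apply,
      Nat.choose_zero_right, Nat.choose_self, Nat.cast_one, mul_one, mul_one]
    ring
  · change (D ^ p) a = D a
    rw [← pow_one D, ← pow_mul, one_mul, ← hDn, ← hDn]
    generalize φ a = x
    induction x using MonoidAlgebra.induction_linear with
    | zero => simp
    | add a b ha hb => rw [map_add, map_add, ha, hb]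
    | single a c => rw [mom_single, mom_single, pow_one, cst, ← map_pow, ZMod.pow_card]
  · obtain ⟨a, ha⟩ := hφ (MonoidAlgebra.single (Multiplicative.ofAdd (1 : ZMod p)) 1)
    have := hDn 1 a
    rw [pow_one, h0, ha, mom_single, pow_one, toAdd_ofAdd, cst, map_one, one_mul] at this
    exact one_ne_zero (α := k) this

end Groth.Misc1.Unip
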