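import Groth.Agent.Misc1.Unip.MultType
import Groth.Agent.Misc1.Unip.Transport
import Groth.Agent.Hopf.Semisimple
import Groth.Agent.Sga3.UnipotentDiag

/-!
# Diagonalizable groups: eigen decomposition, criterion by additive characters
-/

set_option autoImplicit false
set_option linter.unusedSectionVars false

universe u v w

open TensorProduct WithConv Groth.ComodLib

noncomputable section

namespace Groth.Misc1.Unip

variable {k : Type u} [Field k]

section Eigen

variable {A : Type v} [CommRing A] [HopfAlgebra k A] {V : Type w} [AddCommGroup V] [Module k V]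
  [HopfRep.Comod k A V]

theorem exists_eigen_decomp (h : HopfRep.IsDiagonalizable k A) :
    (⊤ : Submodule k V) = ⨆ g : {a : A | IsGroupLikeElem k a}, HopfRep.eigenspace k A V (g : A) := by
  classical
  set G := {a : A | IsGroupLikeElem k a}
  have hb : LinearIndependent k (Subtype.val : G → A) := linearIndepOn_isGroupLikeElem (R := k) (A := A)
  let b := Module.Basis.mk hb (by rw [Subtype.range_coe]; exact h.ge)
  have hb' : ∀ g : G, b g = (g : A) := fun g => Module.Basis.mk_apply hb _ g
  refine le_antisymm (fun v _ => ?_) le_top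
  -- components
  have hmem : ∀ g : G, op (b.coord g) v ∈ HopfRep.eigenspace k A V (g : A) := by
    intro g
    refine ext_slice fun φ => ?_
    rw [slice_tmul, ← op_apply]
    have h1 := op_mul (V := V) (toConv φ) (toConv (b.coord g)) v
    simp only [ofConv_toConv] at h1
    rw [← h1]
    have h2 : (toConv φ * toConv (b.coord g) : WithConv (A →ₗ[k] k)).ofConv = φ (g : A) • b.coord g := by
      refine b.ext fun j => ?_
      change LinearMap.mul' k k (TensorProduct.map φ (b.coord g) (Coalgebra.comul (R := k) (b j))) = _
      rw [hb', j.2.comul_eq_tmul_self, TensorProduct.map_tmul, LinearMap.mul'_apply, LinearMap.smul_apply,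
        smul_eq_mul, ← hb' j]
      by_cases hj : j = g
      · subst hj
        simp [hb']
      · simp [Finsupp.single_eq_of_ne (Ne.symm hj)]
    rw [h2, op_smul]
  obtain ⟨z, hz⟩ : ∃ z : G →₀ V, (HopfRep.Comod.coact (k := k) (A := A) v) = z.sum fun g x => x ⊗ₜ[k] (g : A) := by
    induction HopfRep.Comod.coact (k := k) (A := A) v using TensorProduct.induction_on with
    | zero => exact ⟨0, by simp⟩
    | add p q hp hq =>
      obtain ⟨z1, rfl⟩ := hp
      obtain ⟨z2, rfl⟩ := hq
      exact ⟨z1 + z2, (Finsupp.sum_add_index' (h := fun (g : G) (x : V) => x ⊗ₜ[k] (g : A))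
        (fun g => TensorProduct.zero_tmul V _) (fun g x y => TensorProduct.add_tmul _ _ _)).symm⟩
    | tmul x a =>
      refine ⟨(b.repr a).mapRange (fun c => c • x) (zero_smul k x), ?_⟩
      rw [Finsupp.sum_mapRange_index (h := fun (g : G) (x : V) => x ⊗ₜ[k] (g : A)) (fun g => TensorProduct.zero_tmul V _)]
      simp only [TensorProduct.smul_tmul, ← hb']
      rw [Finsupp.sum, ← TensorProduct.tmul_sum]
      exact congrArg (x ⊗ₜ[k] ·) (b.linearCombination_repr a).symm
  have hv : v = z.sum fun g x => x := by
    have h1 := op_counit (k := k) (A := A) v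
    rw [op_apply, hz, Finsupp.sum, map_sum] at h1
    rw [← h1]
    exact Finset.sum_congr rfl fun g _ => by rw [slice_tmul, g.2.counit_eq_one, one_smul]
  rw [hv]
  refine Submodule.sum_mem _ fun g hg => Submodule.mem_iSup_of_mem g ?_
  have : z g = op (b.coord g) v := by
    rw [op_apply, hz, Finsupp.sum, map_sum, Finset.sum_eq_single g]
    · simp [← hb']
    · intro j _ hj
      simp [← hb', Finsupp.single_eq_of_ne (Ne.symm hj)]
    · intro hne
      rw [Finsupp.notMem_support_iff.1 hne]
      simp
  exact this ▸ hmem g

/-- comodules of a diagonalizable group are semisimple -/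
theorem isSemisimpleComod_of_diag (h : HopfRep.IsDiagonalizable k A) : HopfRep.IsSemisimpleComod k A V := by
  let ι := {x : V // x ≠ 0 ∧ ∃ g : A, IsGroupLikeElem k g ∧ x ∈ HopfRep.eigenspace k A V g}
  refine isSemisimpleComod_of_sum_simple (fun i : ι => Submodule.span k {(i : V)}) (fun i => ?_) (fun i => ?_) ?_
  · obtain ⟨-, g, -, hg⟩ := i.2
    intro w hw
    obtain ⟨c, rfl⟩ := Submodule.mem_span_singleton.1 hw
    rw [map_smul]
    refine Submodule.smul_mem _ c ⟨⟨(i : V), Submodule.mem_span_singleton_self _⟩ ⊗ₜ[k] g, ?_⟩
    rw [LinearMap.rTensor_tmul]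
    exact hg.symm
  · refine ⟨fun hb => i.2.1 ?_, fun U _ hle => ?_⟩
    · exact (Submodule.mem_bot k).1 (hb ▸ Submodule.mem_span_singleton_self _)
    · rcases eq_or_ne U ⊥ with hU | hU
      · exact Or.inl hU
      · obtain ⟨x, hx, hx0⟩ := (Submodule.ne_bot_iff _).1 hU
        obtain ⟨c, rfl⟩ := Submodule.mem_span_singleton.1 (hle hx)
        refine Or.inr (le_antisymm hle ((Submodule.span_singleton_le_iff_mem _ _).2 ?_))
        rcases eq_or_ne c 0 with rfl | hc
        · exact absurd (zero_smul k _) hx0
        · exact (Submodule.smul_mem_iff _ hc).1 hx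
  · refine top_le_iff.1 ((exists_eigen_decomp h).le.trans (iSup_le fun g x hx => ?_))
    rcases eq_or_ne x 0 with rfl | hx0
    · exact Submodule.zero_mem _
    · exact Submodule.mem_iSup_of_mem (⟨x, hx0, g, g.2, hx⟩ : ι) (Submodule.mem_span_singleton_self x)

/-- diagonalizable groups are linearly reductive -/
theorem isLinearlyReductive_of_diag (h : HopfRep.IsDiagonalizable k A) : HopfRep.IsLinearlyReductive k A :=
  fun _ _ _ _ _ => isSemisimpleComod_of_diag h

/-- points of a diagonalizable group act semisimply -/
theorem act_isSemisimple_of_diag [Module.Finite k V] (h : HopfRep.IsDiagonalizable k A) (p : A →ₐ[k] k) :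
    Module.End.IsSemisimple (HopfRep.Comod.act k A V p) := by
  classical
  set f := HopfRep.Comod.act k A V p
  have hev : ∀ (g : A), ∀ x ∈ HopfRep.eigenspace k A V g, f x = p g • x := by
    intro g x hx
    change slice p.toLinearMap (HopfRep.Comod.coact (k := k) (A := A) x) = _
    rw [show HopfRep.Comod.coact (k := k) (A := A) x = x ⊗ₜ[k] g from hx, slice_tmul]
    rfl
  let S : Finset k := (Module.End.finite_hasEigenvalue f).toFinset
  refine Module.End.isSemisimple_of_squarefree_aeval_eq_zero
    (p := ∏ c ∈ S, (Polynomial.X - Polynomial.C c)) ?_ ?_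
  · exact (Polynomial.separable_prod_X_sub_C_iff'.2 fun _ _ _ _ e => e).squarefree
  · refine LinearMap.ext fun x => ?_
    have hx : x ∈ ⨆ g : {a : A | IsGroupLikeElem k a}, HopfRep.eigenspace k A V (g : A) :=
      (exists_eigen_decomp (V := V) h) ▸ Submodule.mem_top
    induction hx using Submodule.iSup_induction' with
    | mem g y hy =>
      rcases eq_or_ne y 0 with rfl | hy0
      · simp
      · have he : Module.End.HasEigenvector f (p g) y :=
          ⟨Module.End.mem_eigenspace_iff.2 (hev _ y hy), hy0⟩
        rw [Module.End.aeval_apply_of_hasEigenvector he, Polynomial.eval_prod,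
          Finset.prod_eq_zero (i := p g) ?_ (by simp)]
        · simp
        · exact (Set.Finite.mem_toFinset _).2 (Module.End.hasEigenvalue_of_hasEigenvector he)
    | zero => simp
    | add a b _ _ ha hb => simp only [map_add, LinearMap.zero_apply] at ha hb ⊢; rw [ha, hb, add_zero]

end Eigen

section Primitive

variable {A : Type v} [CommRing A] [HopfAlgebra k A]

theorem primDefect_eq_zero_iff (a : A) : primDefect k A a = 0 ↔
    Coalgebra.comul (R := k) a = a ⊗ₜ[k] 1 + 1 ⊗ₜ[k] a := by
  rw [primDefect_apply, sub_sub, sub_eq_zero]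

/-- the span of `1` and a primitive element is a subcomodule -/
theorem isSubcomod_span_primitive {x : A}
    (hx : Coalgebra.comul (R := k) x = x ⊗ₜ[k] (1 : A) + (1 : A) ⊗ₜ[k] x) :
    HopfRep.IsSubcomod (k := k) (A := A) (Submodule.span k {(1 : A), x}) := by
  intro w hw
  set U := Submodule.span k {(1 : A), x}
  have h1 : (1 : A) ∈ U := Submodule.subset_span (by simp)
  have h2 : x ∈ U := Submodule.subset_span (by simp)
  induction hw using Submodule.span_induction with
  | mem y hy =>
    rcases hy with rfl | rfl
    · exact ⟨⟨1, h1⟩ ⊗ₜ[k] 1, by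
        change _ = Coalgebra.comul (R := k) (1 : A)
        rw [Bialgebra.comul_one, LinearMap.rTensor_tmul]; rfl⟩
    · exact ⟨⟨_, h2⟩ ⊗ₜ[k] 1 + ⟨1, h1⟩ ⊗ₜ[k] y, by
        change _ = Coalgebra.comul (R := k) y
        rw [hx, map_add, LinearMap.rTensor_tmul, LinearMap.rTensor_tmul]; rfl⟩
  | zero => rw [map_zero]; exact Submodule.zero_mem _
  | add p q _ _ hp hq => rw [map_add]; exact Submodule.add_mem _ hp hq
  | smul c p _ hp => rw [map_smul]; exact Submodule.smul_mem _ c hp

/-- linearly reductive groups have no additive characters -/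
theorem primitive_eq_zero_of_linearlyReductive (h : HopfRep.IsLinearlyReductive k A) {x : A}
    (hx : Coalgebra.comul (R := k) x = x ⊗ₜ[k] (1 : A) + (1 : A) ⊗ₜ[k] x) : x = 0 := by
  classical
  let c : HopfRep.Comod k A A := HopfRep.Comod.regular k A
  set U := Submodule.span k {(1 : A), x}
  have hU := isSubcomod_span_primitive hx
  let cU := ComodSub.Comod.restr c U hU
  have : Module.Finite k U := Module.Finite.span_of_finite k (by simp)
  have h1 : (1 : A) ∈ U := Submodule.subset_span (by simp)
  have h2 : x ∈ U := Submodule.subset_span (by simp)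
  let W : Submodule k U := Submodule.span k {(⟨1, h1⟩ : U)}
  have hcoact : ∀ w : U, U.subtype.rTensor A (cU.coact w) = Coalgebra.comul (R := k) (w : A) := fun w =>
    (LinearMap.congr_fun (ComodSub.isComodHom_subtype c U hU) w).symm
  have hinj : Function.Injective (U.subtype.rTensor A) :=
    Module.Flat.rTensor_preserves_injective_linearMap _ Subtype.val_injective
  have hW : @HopfRep.IsSubcomod k A _ _ _ _ U _ _ cU W := by
    intro w hw
    obtain ⟨d, rfl⟩ := Submodule.mem_span_singleton.1 hw
    rw [map_smul]
    refine Submodule.smul_mem _ d ⟨⟨_, Submodule.mem_span_singleton_self _⟩ ⊗ₜ[k] 1, hinj ?_⟩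
    rw [hcoact]
    change (1 : A) ⊗ₜ[k] (1 : A) = Coalgebra.comul (R := k) (1 : A)
    rw [Bialgebra.comul_one, Algebra.TensorProduct.one_def]
  obtain ⟨W', hW', hc⟩ := @h U _ _ cU this W hW
  obtain ⟨p, hp, q, hq, hpq⟩ : ∃ p ∈ W, ∃ q ∈ W', p + q = (⟨x, h2⟩ : U) :=
    Submodule.mem_sup.1 (hc.sup_eq_top ▸ Submodule.mem_top)
  obtain ⟨d, rfl⟩ := Submodule.mem_span_singleton.1 hp
  have hqx : (q : A) = x - d • 1 := by
    have := congrArg Subtype.val hpq
    simp only [Submodule.coe_add, Submodule.coe_smul] at this
    rw [← this]; abel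
  -- the component of `1` in the complement vanishes
  by_contra hx0
  obtain ⟨φ, hφ⟩ : ∃ φ : A →ₗ[k] k, φ x ≠ 0 := by
    by_contra hne
    push Not at hne
    exact hx0 ((Module.forall_dual_apply_eq_zero_iff k x).1 hne)
  let ψ : A →ₗ[k] k := φ - φ 1 • Coalgebra.counit
  have hψ1 : ψ 1 = 0 := by simp [ψ]
  have hψx : ψ x = φ x := by simp [ψ, counit_primitive hx]
  have hop : @op k _ A _ _ _ U _ _ cU ψ q = ψ x • (⟨1, h1⟩ : U) := by
    refine Subtype.ext ?_
    have h3 := slice_rTensor ψ U.subtype (cU.coact q)
    rw [hcoact, hqx, map_sub, map_smul, hx, Bialgebra.comul_one, Algebra.TensorProduct.one_def, map_sub,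
      map_add, map_smul, slice_tmul, slice_tmul, slice_tmul, hψ1] at h3
    simp only [zero_smul, zero_add, smul_zero, sub_zero, Submodule.subtype_apply] at h3
    exact h3.symm
  have hmem : ψ x • (⟨1, h1⟩ : U) ∈ W' := hop ▸ (@isSubcomod_iff k _ A _ _ _ U _ _ cU _ W').1 hW' ψ q hq
  have h4 := Submodule.disjoint_def.1 hc.disjoint _ (Submodule.smul_mem W _ (Submodule.mem_span_singleton_self _)) hmem
  have h5 : ψ x • (1 : A) = 0 := congrArg Subtype.val h4
  have h6 := congrArg (Coalgebra.counit (R := k)) h5
  rw [map_smul, Bialgebra.counit_one, map_zero, smul_eq_mul, mul_one, hψx] at h6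
  exact hφ h6

theorem primDefect_injective_iff : Function.Injective (primDefect k A) ↔
    ∀ f : A, Coalgebra.comul (R := k) f = f ⊗ₜ[k] (1 : A) + (1 : A) ⊗ₜ[k] f → f = 0 := by
  rw [injective_iff_map_eq_zero]
  simp only [primDefect_eq_zero_iff]

end Primitive

section AlgClosed

theorem isDiagonalizable_small {K : Type u} [Field K] [IsAlgClosed K] {A : Type u} [CommRing A]
    [HopfAlgebra K A] [Coalgebra.IsCocomm K A] (h : Function.Injective (primDefect K A)) :
    HopfRep.IsDiagonalizable K A := by
  open Groth.Sga3.UnipotentPart in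
  have h1 : ∀ n, U K A n ≤ Submodule.span K {(1 : A)} := by
    intro n
    induction n with
    | zero => exact bot_le
    | succ n ih =>
      intro a ha
      have h2 : ∀ φ : A →ₗ[K] K, slice φ (Coalgebra.comul (R := K) a) - φ 1 • a ∈
          Submodule.span K {(1 : A)} := fun φ => ih (mem_U_succ.1 ha φ)
      set c := Coalgebra.counit (R := K) a
      have hy : primDefect K A (a - c • (1 : A)) = 0 := by
        refine eq_zero_of_slice fun φ => ?_
        obtain ⟨d, hd⟩ := Submodule.mem_span_singleton.1 (h2 φ)
        have he := congrArg (Coalgebra.counit (R := K)) hd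
        have e3 : ∀ z : A ⊗[K] A, Coalgebra.counit (R := K) (slice φ z) =
            φ (TensorProduct.lid K A ((Coalgebra.counit (R := K) (A := A)).rTensor A z)) := by
          intro z
          induction z using TensorProduct.induction_on with
          | zero => simp
          | tmul p r => simp [mul_comm]
          | add p r hp hr => simp only [map_add, hp, hr]
        rw [map_sub, map_smul, map_smul, e3, Coalgebra.rTensor_counit_comul, TensorProduct.lid_tmul, one_smul,
          Bialgebra.counit_one, smul_eq_mul, smul_eq_mul, mul_one] at he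
        rw [primDefect_apply, map_sub (slice φ), map_sub (slice φ), slice_tmul, slice_tmul, map_sub, map_smul,
          Bialgebra.comul_one, Algebra.TensorProduct.one_def, map_sub (slice φ), map_smul (slice φ), slice_tmul,
          map_sub φ, map_smul φ, smul_eq_mul, ← sub_add_cancel (slice φ (Coalgebra.comul (R := K) a)) (φ 1 • a), ← hd, he]
        simp only [smul_sub, sub_smul, smul_smul, mul_comm c]
        abel
      rw [injective_iff_map_eq_zero] at h
      rw [sub_eq_zero.1 (h _ hy)]
      exact Submodule.smul_mem _ _ (Submodule.mem_span_singleton_self _)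
  have htop := Groth.Sga3.UnipotentPart.mulSpan_eq_top (K := K) (A := A)
  refine top_le_iff.1 (htop ▸ Submodule.span_le.2 ?_)
  rintro _ ⟨b, hb, g, hg, rfl⟩
  obtain ⟨n, hn⟩ := Groth.Sga3.UnipotentPart.mem_unip.1 hb
  obtain ⟨c, rfl⟩ := Submodule.mem_span_singleton.1 (h1 n hn)
  rw [smul_mul_assoc, one_mul]
  exact Submodule.smul_mem _ c (Submodule.subset_span hg)

/-- over an algebraically closed field: no additive characters implies diagonalizable -/
theorem isDiagonalizable_of_primDefect [IsAlgClosed k] {A : Type v} [CommRing A] [HopfAlgebra k A]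
    [Algebra.FiniteType k A] [Coalgebra.IsCocomm k A] (h : Function.Injective (primDefect k A)) :
    HopfRep.IsDiagonalizable k A := by
  obtain ⟨S, _, iS, -, ⟨e⟩⟩ := exists_small_model (k := k) (A := A)
  let hH : HopfAlgebra k S := hopfAlgebraOfEquiv e
  have hcomul : ∀ a, Coalgebra.comul (R := k) (e a) =
      TensorProduct.map e.toLinearMap e.toLinearMap (Coalgebra.comul (R := k) a) :=
    bialgebraOfEquiv_comul e
  have hco : Coalgebra.IsCocomm k S := by
    constructor
    refine LinearMap.ext fun s => ?_
    obtain ⟨a, rfl⟩ := e.surjective s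
    rw [LinearMap.comp_apply, hcomul]
    change TensorProduct.comm k S S (TensorProduct.map e.toLinearMap e.toLinearMap _) = _
    rw [← TensorProduct.map_comm, Coalgebra.comm_comul]
  have hinj : Function.Injective (TensorProduct.map e.toLinearMap e.toLinearMap) :=
    (TensorProduct.congr e.toLinearEquiv e.toLinearEquiv).injective
  have hS : HopfRep.IsDiagonalizable k S := by
    refine isDiagonalizable_small ?_
    rw [injective_iff_map_eq_zero]
    intro s hs
    obtain ⟨a, rfl⟩ := e.surjective s
    have : a = 0 := (injective_iff_map_eq_zero _).1 h a (hinj (by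
      rw [map_zero, ← hs, primDefect_apply, primDefect_apply, map_sub, map_sub, hcomul]
      simp))
    rw [this, map_zero]
  refine top_le_iff.1 fun a _ => ?_
  have hle : Submodule.span k {s : S | IsGroupLikeElem k s} ≤
      (Submodule.span k {b : A | IsGroupLikeElem k b}).comap e.symm.toLinearMap := by
    refine Submodule.span_le.2 fun s hs => Submodule.subset_span ?_
    obtain ⟨b, rfl⟩ := e.surjective s
    rw [show e.symm.toLinearMap (e b) = b from e.symm_apply_apply b]
    refine ⟨?_, hinj ?_⟩
    · have := hs.counit_eq_one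
      change Coalgebra.counit (R := k) (e.symm (e b)) = 1 at this
      rwa [e.symm_apply_apply] at this
    · rw [← hcomul, hs.comul_eq_tmul_self, TensorProduct.map_tmul]
      rfl
  have := hle (show e a ∈ _ from (show Submodule.span k {s : S | IsGroupLikeElem k s} = ⊤ from hS) ▸ Submodule.mem_top)
  rwa [Submodule.mem_comap, show e.symm.toLinearMap (e a) = a from e.symm_apply_apply a] at this

/-- cocommutativity descends along a field extension -/
theorem isCocomm_of_baseChange {A : Type v} [CommRing A] [HopfAlgebra k A] (K : Type w) [Field K] [Algebra k K]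
    (h : HopfRep.IsDiagonalizable K (K ⊗[k] A)) : Coalgebra.IsCocomm k A := by
  have hK : ∀ z : K ⊗[k] A, TensorProduct.comm K (K ⊗[k] A) (K ⊗[k] A) (Coalgebra.comul (R := K) z) =
      Coalgebra.comul (R := K) z := by
    intro z
    have hz : z ∈ Submodule.span K {a : K ⊗[k] A | IsGroupLikeElem K a} :=
      (show Submodule.span K {a : K ⊗[k] A | IsGroupLikeElem K a} = ⊤ from h) ▸ Submodule.mem_top
    induction hz using Submodule.span_induction with
    | mem g hg => rw [(hg : IsGroupLikeElem K g).comul_eq_tmul_self, TensorProduct.comm_tmul]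
    | zero => simp
    | add p q _ _ hp hq => simp only [map_add, hp, hq]
    | smul c p _ hp => simp only [map_smul, hp]
  constructor
  refine LinearMap.ext fun a => ?_
  have hinj : Function.Injective (nat k K A) := by
    have e : ∀ t : A ⊗[k] A, nat k K A t =
        TensorProduct.AlgebraTensorModule.distribBaseChange k K A A ((1 : K) ⊗ₜ[k] t) := by
      intro t
      induction t using TensorProduct.induction_on with
      | zero => simp
      | tmul p q => simp [nat_tmul, incl_apply]
      | add p q hp hq => rw [map_add, TensorProduct.tmul_add, map_add, hp, hq]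
    intro p q hpq
    rw [e, e] at hpq
    exact (Algebra.TensorProduct.includeRight_injective (algebraMap k K).injective :
      Function.Injective (Algebra.TensorProduct.includeRight : A ⊗[k] A →ₐ[k] K ⊗[k] (A ⊗[k] A)))
      ((TensorProduct.AlgebraTensorModule.distribBaseChange k K A A).injective hpq)
  refine hinj ?_
  have h2 : ∀ t : A ⊗[k] A, nat k K A (TensorProduct.comm k A A t) =
      TensorProduct.comm K _ _ (nat k K A t) := by
    intro t
    induction t using TensorProduct.induction_on with
    | zero => simp
    | tmul p q => simp [nat_tmul]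
    | add p q hp hq => simp only [map_add, hp, hq]
  change nat k K A (TensorProduct.comm k A A (Coalgebra.comul (R := k) a)) = _
  rw [h2, ← comul_incl, hK]

end AlgClosed

end Groth.Misc1.Unip
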