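import Groth.Agent.Misc1.Unip.Quotient
import Groth.Agent.Misc1.Unip.Points
import Groth.Agent.Misc1.Unip.Primitive
import Groth.Agent.Misc1.DualSplit.Basic
import Mathlib.RingTheory.KrullDimension.NonZeroDivisors
import Mathlib.RingTheory.KrullDimension.Zero

/-!
# A connected commutative unipotent group of dimension `n` in characteristic `p` is killed by `p ^ n`
-/

set_option autoImplicit false
set_option linter.unusedSectionVars false

universe u

open TensorProduct WithConv Groth.ComodLib

noncomputable section

namespace Groth.Misc1.Unip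

variable {k : Type u} [Field k] {A : Type u} [CommRing A] [HopfAlgebra k A]

/-- over a field the kernel of any map of Hopf algebras is a Hopf ideal -/
theorem isHopfIdeal_ker_field {B : Type u} [CommRing B] [HopfAlgebra k B] (f : A →ₐc[k] B) :
    (RingHom.ker (f : A →ₐ[k] B)).IsHopfIdeal k := by
  set J : Ideal A := RingHom.ker (f : A →ₐ[k] B)
  let e : (A ⧸ J) →ₐ[k] B := Ideal.kerLiftAlg (f : A →ₐ[k] B)
  have he : Function.Injective e.toLinearMap := Ideal.kerLiftAlg_injective (f : A →ₐ[k] B)
  have hee : Function.Injective (Algebra.TensorProduct.map e e) := by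
    have h : Function.Injective (TensorProduct.map e.toLinearMap e.toLinearMap) := by
      rw [← LinearMap.rTensor_comp_lTensor, LinearMap.coe_comp]
      exact (Module.Flat.rTensor_preserves_injective_linearMap _ he).comp
        (Module.Flat.lTensor_preserves_injective_linearMap _ he)
    exact h
  refine { counit_eq_zero := fun a ha => ?_, map_mkQ_comul_eq_zero := fun a ha => ?_,
           antipode_mem := fun a ha => ?_ }
  · rw [← CoalgHomClass.counit_comp_apply f a, show f a = 0 from ha, map_zero]
  · refine (map_mkQ_eq _).2 (hee ?_)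
    rw [map_zero]
    have : ∀ z : A ⊗[k] A, Algebra.TensorProduct.map e e
        (Algebra.TensorProduct.map (Ideal.Quotient.mkₐ k J) (Ideal.Quotient.mkₐ k J) z) =
        TensorProduct.map (f : A →ₗ[k] B) (f : A →ₗ[k] B) z := by
      intro z
      induction z using TensorProduct.induction_on with
      | zero => simp
      | tmul p r => rfl
      | add p r hp hr => simp only [map_add, hp, hr]
    rw [this, CoalgHomClass.map_comp_comul_apply f a, show f a = 0 from ha, map_zero]
  · change f (HopfAlgebra.antipode k a) = 0
    rw [Groth.Sga3.SubHopfFlat.map_antipode f a, show f a = 0 from ha, map_zero]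

variable (k A) in
/-- the identity point -/
abbrev idPt : WithConv (A →ₐ[k] A) := toConv (AlgHom.id k A)

theorem comp_pow' {C D : Type u} [CommRing C] [Algebra k C] [CommRing D] [Algebra k D] (h : C →ₐ[k] D)
    (f : WithConv (A →ₐ[k] C)) : ∀ e : ℕ, toConv (h.comp (f ^ e).ofConv) = toConv (h.comp f.ofConv) ^ e
  | 0 => WithConv.ofConv_injective (AlgHom.ext fun a => by simp)
  | e + 1 => by
    rw [pow_succ, pow_succ, ← comp_pow' h f e]
    exact WithConv.ofConv_injective (AlgHom.comp_convMul_distrib h (f ^ e) f)

theorem exists_powBialgHom [Coalgebra.IsCocomm k A] (n : ℕ) :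
    ∃ F : A →ₐc[k] A, (F : A →ₐ[k] A) = (idPt k A ^ n).ofConv := by
  refine ⟨BialgHom.ofAlgHom (idPt k A ^ n).ofConv ?_ ?_, rfl⟩
  · have h := comp_pow' (Bialgebra.counitAlgHom k A) (idPt k A) n
    have h1 : toConv ((Bialgebra.counitAlgHom k A).comp (idPt k A).ofConv) = 1 :=
      WithConv.ofConv_injective (AlgHom.ext fun a => by simp)
    rw [h1, one_pow] at h
    refine (congrArg WithConv.ofConv h).trans ?_
    exact AlgHom.ext fun a => by simp
  · let L : WithConv (A →ₐ[k] A ⊗[k] A) := toConv Algebra.TensorProduct.includeLeft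
    let R : WithConv (A →ₐ[k] A ⊗[k] A) := toConv Algebra.TensorProduct.includeRight
    have hLR : toConv (Bialgebra.comulAlgHom k A) = L * R := WithConv.ofConv_injective (AlgHom.ext fun a => by
      rw [AlgHom.convMul_apply]
      change Coalgebra.comul (R := k) a = _
      generalize Coalgebra.comul (R := k) a = z
      induction z using TensorProduct.induction_on with
      | zero => simp
      | tmul p q => simp [L, R]
      | add p q hp hq => simp only [map_add, ← hp, ← hq])
    set g := (idPt k A ^ n).ofConv with hg
    have hL : toConv ((Algebra.TensorProduct.map g g).comp L.ofConv) = L ^ n := by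
      rw [show (Algebra.TensorProduct.map g g).comp L.ofConv = L.ofConv.comp g from
        AlgHom.ext fun a => by simp [L], hg, comp_pow' L.ofConv (idPt k A) n]
      rfl
    have hR : toConv ((Algebra.TensorProduct.map g g).comp R.ofConv) = R ^ n := by
      rw [show (Algebra.TensorProduct.map g g).comp R.ofConv = R.ofConv.comp g from
        AlgHom.ext fun a => by simp [R], hg, comp_pow' R.ofConv (idPt k A) n]
      rfl
    have h1 : toConv ((Algebra.TensorProduct.map g g).comp (Bialgebra.comulAlgHom k A)) =
        toConv ((Bialgebra.comulAlgHom k A).comp g) := by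
      rw [hg, comp_pow' (Bialgebra.comulAlgHom k A) (idPt k A) n, ← hg]
      rw [show (Bialgebra.comulAlgHom k A).comp (idPt k A).ofConv = Bialgebra.comulAlgHom k A from AlgHom.comp_id _,
        hLR, mul_pow, ← hL, ← hR, show Bialgebra.comulAlgHom k A = (L * R).ofConv from congrArg WithConv.ofConv hLR]
      exact WithConv.ofConv_injective (AlgHom.comp_convMul_distrib _ L R)
    exact congrArg WithConv.ofConv h1

theorem idPt_eq_one_of_algebraMap_surjective (h : Function.Surjective (algebraMap k A)) : idPt k A = 1 := by
  refine WithConv.ofConv_injective (AlgHom.ext fun a => ?_)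
  obtain ⟨c, rfl⟩ := h a
  simp

/-- a connected commutative unipotent group of dimension `≤ n` in characteristic `p` is killed by `p ^ n` -/
theorem pow_p_pow_dim_eq_one (p : ℕ) [hp : Fact p.Prime] [CharP k p] : ∀ (n : ℕ) (A : Type u) [CommRing A]
    [HopfAlgebra k A] [Algebra.FiniteType k A] [IsDomain A] [Coalgebra.IsCocomm k A],
    (∀ a : A, ∃ m, a ∈ fixSeries k A A m) → ringKrullDim A ≤ n → idPt k A ^ (p ^ n) = 1
  | 0, A, _, _, _, _, _, _, hdim => by
    haveI : Ring.KrullDimLE 0 A := Ring.krullDimLE_iff.2 hdim
    letI := (Ring.KrullDimLE.isField_of_isDomain (R := A)).toField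
    rw [pow_zero, pow_one]
    refine idPt_eq_one_of_algebraMap_surjective fun a => ⟨Bialgebra.counitAlgHom k A a, ?_⟩
    exact (Bialgebra.counitAlgHom k A).toRingHom.injective (by simp)
  | n + 1, A, _, _, _, _, _, hex, hdim => by
    haveI : CharP A p := charP_of_injective_algebraMap (algebraMap k A).injective p
    obtain ⟨F, hF⟩ := exists_powBialgHom (k := k) (A := A) p
    set J := RingHom.ker (F : A →ₐ[k] A) with hJ
    haveI := isHopfIdeal_ker_field F
    by_cases hbot : J = ⊥
    · -- `p` is then injective, so the group is trivial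
      have hinj : ∀ i, Function.Injective (idPt k A ^ (p ^ i)).ofConv := by
        intro i
        induction i with
        | zero => rw [pow_zero, pow_one]; exact Function.injective_id
        | succ i ih =>
          have h := comp_pow' (F : A →ₐ[k] A) (idPt k A) (p ^ i)
          rw [show (F : A →ₐ[k] A).comp (idPt k A).ofConv = (idPt k A ^ p).ofConv from
            (AlgHom.comp_id _).trans hF, WithConv.toConv_ofConv, ← pow_mul, ← pow_succ'] at h
          rw [← h]
          exact ((RingHom.injective_iff_ker_eq_bot _).2 hbot).comp ih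
      obtain ⟨N, hN⟩ := exists_pow_eq_one (C := A) hex p
      have h1 := hinj N
      rw [hN] at h1
      rw [idPt_eq_one_of_algebraMap_surjective (k := k) (A := A) fun a => ⟨Coalgebra.counit (R := k) a, h1 (by simp)⟩,
        one_pow]
    · obtain ⟨r, hr, hr0⟩ := Submodule.exists_mem_ne_zero_of_ne_bot hbot
      haveI : J.IsPrime := RingHom.ker_isPrime _
      let π : A →ₐc[k] A ⧸ J := Bialgebra.Quotient.mkBialgHom (R := k) J
      have hπ : Function.Surjective π := Ideal.Quotient.mk_surjective
      haveI : Algebra.FiniteType k (A ⧸ J) := Algebra.FiniteType.of_surjective (Ideal.Quotient.mkₐ k J) hπ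
      haveI : Coalgebra.IsCocomm k (A ⧸ J) := Groth.Misc1.DualSplit.isCocomm_of_surjective π hπ
      have hdim' : ringKrullDim (A ⧸ J) ≤ n := by
        have h1 := ringKrullDim_succ_le_of_surjective (Ideal.Quotient.mk J) hπ
          (r := r) (mem_nonZeroDivisors_of_ne_zero hr0) (Ideal.Quotient.eq_zero_iff_mem.2 hr)
        have h2 := h1.trans hdim
        revert h2
        induction ringKrullDim (A ⧸ J) with
        | bot => exact fun _ => bot_le
        | coe a =>
          intro h2
          change ((a + 1 : ℕ∞) : WithBot ℕ∞) ≤ (((n + 1 : ℕ) : ℕ∞) : WithBot ℕ∞) at h2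
          rw [WithBot.coe_le_coe, Nat.cast_add, Nat.cast_one] at h2
          exact WithBot.coe_le_coe.2 ((ENat.add_le_add_iff_right ENat.one_ne_top).1 h2)
      have ih := pow_p_pow_dim_eq_one p n (A ⧸ J) (fun b => by
        obtain ⟨a, rfl⟩ := hπ b
        obtain ⟨m, hm⟩ := hex a
        exact ⟨m, map_mem_fixSeries π m a hm⟩) hdim'
      let e : (A ⧸ J) →ₐ[k] A := Ideal.kerLiftAlg (F : A →ₐ[k] A)
      have hFe : (idPt k A ^ p).ofConv = e.comp (π : A →ₐ[k] A ⧸ J) := by
        rw [← hF]; exact AlgHom.ext fun a => rfl
      have hπn : ∀ m : ℕ, toConv (π : A →ₐ[k] A ⧸ J) ^ m =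
          toConv ((idPt k (A ⧸ J) ^ m).ofConv.comp (π : A →ₐ[k] A ⧸ J)) := by
        intro m
        induction m with
        | zero => exact WithConv.ofConv_injective (AlgHom.ext fun a => by simp [CoalgHomClass.counit_comp_apply])
        | succ m ih =>
          rw [pow_succ, pow_succ, ih]
          exact WithConv.ofConv_injective
            (AlgHom.convMul_comp_bialgHom_distrib (idPt k (A ⧸ J) ^ m) (idPt k (A ⧸ J)) π).symm
      rw [pow_succ', pow_mul, show idPt k A ^ p = toConv (e.comp (toConv (π : A →ₐ[k] A ⧸ J)).ofConv) from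
        WithConv.ofConv_injective hFe, ← comp_pow', hπn, ih]
      exact WithConv.ofConv_injective (AlgHom.ext fun a => by simp [CoalgHomClass.counit_comp_apply])

end Groth.Misc1.Unip
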