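import Groth.Agent.Misc1.Unip.LieKolchin
import Groth.Agent.Misc1.Unip.Jordan
import Mathlib.LinearAlgebra.Eigenspace.Pi
import Mathlib.LinearAlgebra.Eigenspace.Semisimple

/-!
# Connected groups all of whose points are semisimple
-/

set_option autoImplicit false
set_option linter.unusedSectionVars false

universe u v w

open TensorProduct WithConv Groth.ComodLib
open scoped commutatorElement

noncomputable section

namespace Groth.Misc1.Unip

attribute [local instance 100] convGrpC

variable {k : Type u} [Field k] [IsAlgClosed k]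

/-- commuting semisimple operators have a spanning family of common eigenvectors -/
theorem iSup_common_eigen {V : Type w} [AddCommGroup V] [Module k V] [Module.Finite k V] {ι : Type*}
    (f : ι → Module.End k V) (hc : ∀ i j, Commute (f i) (f j)) (hs : ∀ i, (f i).IsSemisimple) :
    ⨆ χ : ι → k, ⨅ i, (f i).eigenspace (χ i) = ⊤ := by
  rw [← Module.End.iSup_iInf_maxGenEigenspace_eq_top_of_iSup_maxGenEigenspace_eq_top_of_commute f
    (fun i j _ => hc i j) fun i => Module.End.iSup_maxGenEigenspace_eq_top _]
  exact iSup_congr fun χ => iInf_congr fun i =>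
    ((hs i).isFinitelySemisimple.maxGenEigenspace_eq_eigenspace _).symm

variable {A : Type v} [CommRing A] [HopfAlgebra k A] [Algebra.FiniteType k A]

section Comodule

variable {V : Type w} [AddCommGroup V] [Module k V] [HopfRep.Comod k A V] [Module.Finite k V]

/-- a point whose conjugates under a connected group form part of a commuting semisimple family
commutes with that group -/
theorem commute_act_of_conj {H : Subgroup (WithConv (A →ₐ[k] k))} (hH : IsConnSub H)
    (S : Set (WithConv (A →ₐ[k] k)))
    (hS : ∀ a ∈ S, ∀ b ∈ S, Commute (pointAct k A V a) (pointAct k A V b))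
    (hss : ∀ a ∈ S, (pointAct k A V a).IsSemisimple)
    {κ : WithConv (A →ₐ[k] k)} (hκ : ∀ g ∈ H, g⁻¹ * κ * g ∈ S)
    {h : WithConv (A →ₐ[k] k)} (hh : h ∈ H) :
    Commute (pointAct k A V κ) (pointAct k A V h) := by
  classical
  refine LinearMap.ext fun x => ?_
  have hx := (iSup_common_eigen (V := V) (fun a : S => pointAct k A V a.1) (fun a b => hS _ a.2 _ b.2)
    (fun a => hss _ a.2)).symm ▸ Submodule.mem_top (x := x)
  induction hx using Submodule.iSup_induction' with
  | zero => simp
  | add a b _ _ ha hb => simp only [map_add, ha, hb]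
  | mem χ y hy =>
    rcases eq_or_ne y 0 with rfl | hy0
    · simp
    simp only [Submodule.mem_iInf, Module.End.mem_eigenspace_iff] at hy
    let χ' : WithConv (A →ₐ[k] k) → k := fun g => if hg : g ∈ S then χ ⟨g, hg⟩ else 0
    have hv : ∀ g ∈ H, pointAct k A V (g⁻¹ * κ * g) y = χ' (g⁻¹ * κ * g) • y := fun g hg => by
      simp only [χ', dif_pos (hκ g hg)]
      exact hy ⟨_, hκ g hg⟩
    have hone : pointAct k A V κ y = χ' κ • y := by simpa using hv 1 (one_mem H)
    have e := conj_char_eq hH hy0 hv hh
    rw [Module.End.mul_apply, Module.End.mul_apply, hone, map_smul, ← e, ← map_smul,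
      ← hv h hh, ← Module.End.mul_apply, ← Module.End.mul_apply, ← map_mul, ← map_mul]
    congr 2
    group

end Comodule

attribute [local instance] HopfRep.Comod.regular

variable (k A) in
/-- every point acts semisimply on every finite dimensional piece of the regular representation -/
def AllSS : Prop :=
  ∀ (g : WithConv (A →ₐ[k] k)) (U : Submodule k A) (hU : HopfRep.IsSubcomod (k := k) (A := A) U),
    Module.Finite k U → (Jordan.T g hU).IsSemisimple

theorem pointAct_restr (g : WithConv (A →ₐ[k] k)) {U : Submodule k A}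
    (hU : HopfRep.IsSubcomod (k := k) (A := A) U) :
    letI := ComodSub.Comod.restr (k := k) (A := A) (V := A) inferInstance U hU
    pointAct k A U g = Jordan.T g hU := by
  let cU := ComodSub.Comod.restr (k := k) (A := A) (V := A) inferInstance U hU
  refine LinearMap.ext fun x => Subtype.ext ?_
  exact (isComodHom_op (A := A) (f := U.subtype) (ComodSub.isComodHom_subtype _ U hU) g.ofConv.toLinearMap x)

/-- as `commute_act_of_conj`, for the regular representation -/
theorem commute_of_conj (hss : AllSS k A) {H : Subgroup (WithConv (A →ₐ[k] k))} (hH : IsConnSub H)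
    (S : Set (WithConv (A →ₐ[k] k))) (hS : ∀ a ∈ S, ∀ b ∈ S, Commute a b)
    {κ : WithConv (A →ₐ[k] k)} (hκ : ∀ g ∈ H, g⁻¹ * κ * g ∈ S)
    {h : WithConv (A →ₐ[k] k)} (hh : h ∈ H) : Commute κ h := by
  refine Jordan.point_ext (k := k) fun U hU hfin x => ?_
  let cU := ComodSub.Comod.restr (k := k) (A := A) (V := A) inferInstance U hU
  have := commute_act_of_conj (V := U) hH S (fun a ha b hb => (hS a ha b hb).map _)
    (fun a _ => by rw [pointAct_restr a hU]; exact hss a U hU hfin) hκ hh
  have e : pointAct k A U (κ * h) x = pointAct k A U (h * κ) x := by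
    rw [map_mul, map_mul, this.eq]
  rw [pointAct_restr, pointAct_restr] at e
  exact congrArg Subtype.val e

/-- a connected solvable group all of whose points are semisimple is commutative -/
theorem commutator_eq_bot (hss : AllSS k A) [IsDomain A] (D : ℕ → Subgroup (WithConv (A →ₐ[k] k)))
    (h0 : IsConnSub (D 0)) (hsucc : ∀ i, D (i + 1) = ⁅D i, D i⁆) {n : ℕ} (hn : D n = ⊥) : D 1 = ⊥ := by
  have hconn : ∀ i, IsConnSub (D i) := fun i => by
    induction i with
    | zero => exact h0
    | succ i ih => rw [hsucc]; exact isConnSub_commutator ih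
  have step : ∀ m, D (m + 2) = ⊥ → D (m + 1) = ⊥ := by
    intro m hm
    have hle : D (m + 1) ≤ D m := by
      rw [hsucc, Subgroup.commutator_le]
      intro a ha b hb
      rw [commutatorElement_def]
      exact mul_mem (mul_mem (mul_mem ha hb) (inv_mem ha)) (inv_mem hb)
    have hcm : ∀ a ∈ D m, ∀ b ∈ D m, ⁅a, b⁆ ∈ D (m + 1) := fun a ha b hb => by
      rw [hsucc]; exact Subgroup.commutator_mem_commutator ha hb
    have hK : ∀ a ∈ D (m + 1), ∀ b ∈ D (m + 1), Commute a b := fun a ha b hb => by
      have : ⁅a, b⁆ ∈ D (m + 2) := by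
        rw [hsucc]; exact Subgroup.commutator_mem_commutator ha hb
      rw [hm, Subgroup.mem_bot] at this
      exact commutatorElement_eq_one_iff_mul_comm.1 this
    have hconj : ∀ g ∈ D m, ∀ b ∈ D m, g⁻¹ * b * g = ⁅g⁻¹, b⁆ * b := fun g _ b _ => by
      rw [commutatorElement_def]; group
    have hKL : ∀ c ∈ D (m + 1), ∀ h ∈ D m, Commute c h := fun c hc h hh => by
      refine commute_of_conj hss (hconn m) (D (m + 1) : Set _) hK (fun g hg => ?_) hh
      rw [hconj g hg c (hle hc)]
      exact mul_mem (hcm _ (inv_mem hg) _ (hle hc)) hc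
    have hL : ∀ b ∈ D m, ∀ h ∈ D m, Commute b h := fun b hb h hh => by
      refine commute_of_conj hss (hconn m) {s | ∃ c ∈ D (m + 1), s = c * b} ?_ (fun g hg => ?_) hh
      · rintro _ ⟨c, hc, rfl⟩ _ ⟨d, hd, rfl⟩
        refine ((hK c hc d hd).mul_left (hKL d hd b hb).symm).mul_right ?_
        exact (hKL c hc b hb).mul_left (Commute.refl b)
      · exact ⟨_, hcm _ (inv_mem hg) _ hb, hconj g hg b hb⟩
    rw [hsucc, Subgroup.commutator_eq_bot_iff_le_centralizer]
    exact fun a ha => Subgroup.mem_centralizer_iff.2 fun b hb => (hL b hb a ha).eq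
  clear h0 hconn
  induction n with
  | zero => rw [hsucc, hn, Subgroup.commutator_bot_left]
  | succ n ih =>
    rcases n with _ | n
    · exact hn
    · exact ih (step n hn)

/-- commuting semisimple points: the coordinate ring is spanned by characters -/
theorem isDiagonalizable_of_commute [IsReduced A] (hss : AllSS k A)
    (hc : ∀ a b : WithConv (A →ₐ[k] k), Commute a b) : HopfRep.IsDiagonalizable k A := by
  refine top_le_iff.1 fun a _ => ?_
  obtain ⟨U, hfin, haU, hU⟩ := exists_finite_subcomod_span (k := k) (A := A) (V := A) (Set.finite_singleton a)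
  have ha : (⟨a, haU rfl⟩ : U) ∈ ⨆ χ : WithConv (A →ₐ[k] k) → k, ⨅ g, (Jordan.T g hU).eigenspace (χ g) := by
    rw [iSup_common_eigen _ (fun g h => ?_) fun g => hss g U hU hfin]
    · exact Submodule.mem_top
    · refine LinearMap.ext fun x => Subtype.ext ?_
      change pointAct k A A g (pointAct k A A h (x : A)) = pointAct k A A h (pointAct k A A g (x : A))
      rw [← Module.End.mul_apply, ← map_mul, (hc g h).eq, map_mul, Module.End.mul_apply]
  suffices H : ∀ y : U, y ∈ (⨆ χ : WithConv (A →ₐ[k] k) → k, ⨅ g, (Jordan.T g hU).eigenspace (χ g)) →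
      (y : A) ∈ Submodule.span k {b : A | IsGroupLikeElem k b} from H _ ha
  intro y hy
  induction hy using Submodule.iSup_induction' with
  | zero => simp
  | add p q _ _ hp hq => rw [Submodule.coe_add]; exact Submodule.add_mem _ hp hq
  | mem χ z hz =>
    simp only [Submodule.mem_iInf, Module.End.mem_eigenspace_iff] at hz
    obtain ⟨x, hx⟩ := z
    rcases eq_or_ne x 0 with rfl | hx0
    · exact Submodule.zero_mem _
    have hy' : ∀ g : WithConv (A →ₐ[k] k), op g.ofConv.toLinearMap x = χ g • x := fun g =>
      congrArg Subtype.val (hz g)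
    have hline : HopfRep.Comod.coact (k := k) (A := A) x ∈
        LinearMap.range ((Submodule.span k {x}).subtype.rTensor A) := by
      suffices HopfRep.IsSubcomod (k := k) (A := A) (Submodule.span k {x}) from
        this x (Submodule.mem_span_singleton_self x)
      refine (isSubcomod_iff _).2 fun φ w hw => ?_
      obtain ⟨c, rfl⟩ := Submodule.mem_span_singleton.1 hw
      rw [map_smul]
      refine Submodule.smul_mem _ _ ?_
      rw [← Submodule.Quotient.mk_eq_zero]
      refine (Module.forall_dual_apply_eq_zero_iff k _).1 fun ψ => ?_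
      let α : A →ₗ[k] k := ψ ∘ₗ (Submodule.span k {x}).mkQ
      have hα : cf (A := A) α x = 0 := DimOne.eq_zero_of_points (k := k) fun g => by
        change g.toLinearMap (cf (A := A) α x) = 0
        rw [apply_cf, show op g.toLinearMap x = χ (toConv g) • x from hy' (toConv g), map_smul]
        change χ (toConv g) • ψ ((Submodule.span k {x}).mkQ x) = 0
        rw [Submodule.mkQ_apply, (Submodule.Quotient.mk_eq_zero _).2 (Submodule.mem_span_singleton_self x),
          map_zero, smul_zero]
      change α (op φ x) = 0
      rw [← apply_cf, hα, map_zero]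
    obtain ⟨g, hg, hgx⟩ := exists_groupLike_of_line hx0 hline
    have h1 := Coalgebra.rTensor_counit_comul (R := k) x
    rw [show Coalgebra.comul (R := k) x = x ⊗ₜ[k] g from hgx, LinearMap.rTensor_tmul] at h1
    have h2 := congrArg (TensorProduct.lid k A) h1
    rw [TensorProduct.lid_tmul, TensorProduct.lid_tmul, one_smul] at h2
    rw [show ((⟨x, hx⟩ : U) : A) = Coalgebra.counit (R := k) x • g from h2.symm]
    exact Submodule.smul_mem _ _ (Submodule.subset_span hg)

end Groth.Misc1.Unip
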