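import Groth.Agent.Hopf.CharFun
import Groth.Agent.Hopf.Burnside
import Groth.Agent.Hopf.Semisimple
import Groth.Agent.Hopf.Regular
import Mathlib.RingTheory.SimpleModule.IsAlgClosed
import Mathlib.RingTheory.Artinian.Module
import Mathlib.RingTheory.Jacobson.Radical
import Mathlib.LinearAlgebra.Trace

/-!
# Symmetric functions on a linearly reductive group are combinations of characters
-/

set_option autoImplicit false
set_option linter.unusedSectionVars false

universe u v w

open TensorProduct WithConv

noncomputable section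

namespace Groth.Misc1.Unip.ClassFun

open Groth.ComodLib

variable {k : Type u} [Field k] {A : Type v} [CommRing A] [Bialgebra k A]

/-- a tracial functional on a matrix algebra is a multiple of the trace -/
theorem exists_eq_mul_trace {n : Type*} [Fintype n] [DecidableEq n] (L : Matrix n n k →ₗ[k] k)
    (hL : ∀ X Y, L (X * Y) = L (Y * X)) : ∃ c : k, ∀ X, L X = c * X.trace := by
  rcases isEmpty_or_nonempty n with hn | ⟨⟨o⟩⟩
  · exact ⟨0, fun X => by rw [Subsingleton.elim X 0, map_zero, zero_mul]⟩
  have hoff : ∀ i j : n, i ≠ j → L (Matrix.single i j 1) = 0 := fun i j h => by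
    have e := hL (Matrix.single i j (1 : k)) (Matrix.single j j 1)
    rwa [Matrix.single_mul_single_same, mul_one, Matrix.single_mul_single_of_ne _ _ _ _ h.symm, map_zero] at e
  have hdiag : ∀ i : n, L (Matrix.single i i 1) = L (Matrix.single o o 1) := fun i => by
    have e := hL (Matrix.single i o (1 : k)) (Matrix.single o i 1)
    rwa [Matrix.single_mul_single_same, Matrix.single_mul_single_same, mul_one] at e
  refine ⟨L (Matrix.single o o 1), fun X => ?_⟩
  have e1 : ∀ i j, L (Matrix.single i j (X i j)) = X i j * L (Matrix.single i j 1) := fun i j => by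
    rw [← smul_eq_mul, ← map_smul, Matrix.smul_single, smul_eq_mul, mul_one]
  conv_lhs => rw [Matrix.matrix_eq_sum_single X]
  simp only [map_sum, e1]
  rw [Matrix.trace, Finset.mul_sum]
  refine Finset.sum_congr rfl fun i _ => ?_
  rw [Finset.sum_eq_single i (fun j _ hj => by rw [hoff i j hj.symm, mul_zero])
    (fun h => absurd (Finset.mem_univ i) h), hdiag, mul_comm, Matrix.diag_apply]

/-- tensors are separated by pairs of functionals -/
theorem ext_pair {V : Type w} [AddCommGroup V] [Module k V] {x y : V ⊗[k] A}
    (h : ∀ (ψ : V →ₗ[k] k) (φ : A →ₗ[k] k),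
      LinearMap.mul' k k (TensorProduct.map ψ φ x) = LinearMap.mul' k k (TensorProduct.map ψ φ y)) : x = y := by
  refine ext_slice fun φ => ?_
  rw [← sub_eq_zero, ← Module.forall_dual_apply_eq_zero_iff k]
  intro ψ
  have e : ∀ z : V ⊗[k] A, ψ (slice φ z) = LinearMap.mul' k k (TensorProduct.map ψ φ z) := fun z => by
    induction z using TensorProduct.induction_on with
    | zero => simp
    | tmul p q => simp [mul_comm]
    | add p q hp hq => simp only [map_add, hp, hq]
  rw [map_sub, e, e, h, sub_self]

theorem eq_of_forall_apply {x y : A} (h : ∀ φ : A →ₗ[k] k, φ x = φ y) : x = y :=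
  sub_eq_zero.1 ((Module.forall_dual_apply_eq_zero_iff k _).1 fun φ => by rw [map_sub, h, sub_self])

theorem comm_comul_trace {ι : Type*} [Fintype ι] [DecidableEq ι] {M : Matrix ι ι A} (h : IsComultMat k M) :
    TensorProduct.comm k A A (Coalgebra.comul (R := k) M.trace) = Coalgebra.comul (R := k) M.trace := by
  obtain ⟨h1, -⟩ := (isComultMat_iff M).1 h
  simp only [Matrix.trace, Matrix.diag, map_sum, h1, TensorProduct.comm_tmul]
  rw [Finset.sum_comm]

theorem comm_comul_of_mem_span {f : A} (hf : f ∈ Submodule.span k (charSet k A)) :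
    TensorProduct.comm k A A (Coalgebra.comul (R := k) f) = Coalgebra.comul (R := k) f := by
  induction hf using Submodule.span_induction with
  | mem x hx =>
    obtain ⟨d, M, hM, rfl⟩ := hx
    exact comm_comul_trace hM
  | zero => simp
  | add x y _ _ hx hy => simp only [map_add, hx, hy]
  | smul c x _ hx => simp only [map_smul, hx]

section Span

attribute [local instance] HopfRep.Comod.regular

variable [IsAlgClosed k]

/-- a symmetric coefficient of a semisimple comodule is a combination of characters -/
theorem cf_mem_span {V : Type w} [AddCommGroup V] [Module k V] [HopfRep.Comod k A V] [Module.Finite k V]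
    (hss : HopfRep.IsSemisimpleComod k A V) (θ : V →ₗ[k] k) (v : V)
    (hf : TensorProduct.comm k A A (Coalgebra.comul (R := k) (cf (A := A) θ v)) =
      Coalgebra.comul (R := k) (cf (A := A) θ v)) :
    cf (A := A) θ v ∈ Submodule.span k (charSet k A) := by
  classical
  let R : Subalgebra k (Module.End k V) := (rho k A V).range
  let toR : WithConv (A →ₗ[k] k) →ₐ[k] R := (rho k A V).rangeRestrict
  have htoR : Function.Surjective toR := (rho k A V).rangeRestrict_surjective
  -- semisimplicity of `R`
  have : IsSemisimpleModule R V := by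
    rw [isSemisimpleModule_iff]
    refine ⟨fun N => ?_⟩
    have hN : HopfRep.IsSubcomod (k := k) (A := A) (N.restrictScalars k) :=
      (isSubcomod_iff _).2 fun φ x hx => N.smul_mem (toR (toConv φ)) hx
    obtain ⟨W, hW, hc⟩ := hss _ hN
    let W' : Submodule R V :=
      { carrier := (W : Set V)
        add_mem' := W.add_mem
        zero_mem' := W.zero_mem
        smul_mem' := fun r x hx => by
          obtain ⟨φ, rfl⟩ := htoR r
          exact (isSubcomod_iff _).1 hW φ.ofConv x hx }
    refine ⟨W', ?_, ?_⟩
    · rw [Submodule.disjoint_def]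
      exact fun x h1 h2 => Submodule.disjoint_def.1 hc.disjoint x h1 h2
    · rw [codisjoint_iff, eq_top_iff]
      intro x _
      obtain ⟨a, ha, b, hb, rfl⟩ := Submodule.mem_sup.1 (hc.sup_eq_top.symm ▸ Submodule.mem_top (x := x))
      exact Submodule.mem_sup.2 ⟨a, ha, b, hb, rfl⟩
  have : Module.Finite k R := Module.Finite.of_injective R.val.toLinearMap Subtype.val_injective
  have : IsArtinianRing R := IsArtinianRing.of_finite k R
  have : IsSemisimpleRing R := by
    rw [IsArtinianRing.isSemisimpleRing_iff_jacobson, eq_bot_iff]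
    intro r hr
    have h1 : ∀ x : V, r • x = 0 := fun x => by
      have := (Ring.jacobson_smul_top_le (R := R) (M := V)) (Submodule.smul_mem_smul hr (Submodule.mem_top (x := x)))
      rwa [IsSemisimpleModule.jacobson_eq_bot R V, Submodule.mem_bot] at this
    exact Subtype.ext (LinearMap.ext fun x => h1 x)
  obtain ⟨n, d, -, ⟨e⟩⟩ := IsSemisimpleRing.exists_algEquiv_pi_matrix_of_isAlgClosed k R
  -- the tracial functional
  let τ : R →ₗ[k] k := θ ∘ₗ (LinearMap.applyₗ v) ∘ₗ R.val.toLinearMap
  have hτ : ∀ φ : WithConv (A →ₗ[k] k), τ (toR φ) = φ.ofConv (cf (A := A) θ v) := fun φ => by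
    rw [apply_cf]
    rfl
  have htrace : ∀ r s : R, τ (r * s) = τ (s * r) := fun r s => by
    obtain ⟨φ, rfl⟩ := htoR r
    obtain ⟨ψ, rfl⟩ := htoR s
    rw [← map_mul, ← map_mul, hτ, hτ, LinearMap.convMul_apply, LinearMap.convMul_apply]
    conv_rhs => rw [← hf]
    generalize Coalgebra.comul (R := k) (cf (A := A) θ v) = z
    induction z using TensorProduct.induction_on with
    | zero => simp
    | tmul p q => simp [mul_comm]
    | add p q hp hq => simp only [map_add, hp, hq]
  have hblock : ∀ i, ∃ c : k, ∀ X, τ (e.symm (Pi.single i X)) = c * X.trace := fun i => by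
    refine exists_eq_mul_trace
      (τ ∘ₗ e.symm.toLinearMap ∘ₗ LinearMap.single k (fun i => Matrix (Fin (d i)) (Fin (d i)) k) i) fun X Y => ?_
    change τ (e.symm (Pi.single i (X * Y))) = τ (e.symm (Pi.single i (Y * X)))
    rw [Pi.single_mul, Pi.single_mul, map_mul e.symm, map_mul e.symm, htrace]
  choose c hc using hblock
  -- the matrices
  let b := Module.finBasis k V
  have hentry : ∀ μ : R →ₗ[k] k, ∃ m : A, ∀ φ : WithConv (A →ₗ[k] k), φ.ofConv m = μ (toR φ) := fun μ => by
    obtain ⟨μ', hμ'⟩ := LinearMap.exists_extend (p := R.toSubmodule) μ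
    refine ⟨∑ t, ∑ s, μ' ((b.coord s).smulRight (b t)) • cf (A := A) (b.coord t) (b s), fun φ => ?_⟩
    have hr : (rho k A V φ) = ∑ t, ∑ s, b.coord t (rho k A V φ (b s)) • (b.coord s).smulRight (b t) := by
      refine b.ext fun j => ?_
      simp only [LinearMap.sum_apply, LinearMap.smul_apply, LinearMap.smulRight_apply, Module.Basis.coord_apply,
        Module.Basis.repr_self, Finsupp.single_apply, ite_smul, one_smul, zero_smul, smul_ite, smul_zero,
        Finset.sum_ite_eq, Finset.mem_univ, if_true]
      exact (b.sum_repr _).symm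
    have h2 : μ (toR φ) = μ' (rho k A V φ) := (LinearMap.congr_fun hμ' (toR φ)).symm
    rw [h2, hr]
    simp only [map_sum, map_smul, smul_eq_mul, apply_cf, rho_apply]
    exact Finset.sum_congr rfl fun t _ => Finset.sum_congr rfl fun s _ => mul_comm _ _
  choose m hm using hentry
  let ev : (i : Fin n) → Fin (d i) → Fin (d i) → (R →ₗ[k] k) := fun i a b =>
    { toFun := fun r => e r i a b
      map_add' := fun r s => by simp
      map_smul' := fun t r => by simp }
  let M : (i : Fin n) → Matrix (Fin (d i)) (Fin (d i)) A := fun i a b => m (ev i a b)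
  have hM : ∀ i, IsComultMat k (M i) := fun i => by
    rw [isComultMat_iff]
    refine ⟨fun a b => ext_pair fun φ ψ => ?_, fun a b => ?_⟩
    · refine (LinearMap.convMul_apply (toConv φ) (toConv ψ) (M i a b)).symm.trans ?_
      rw [hm]
      change e (toR (toConv φ * toConv ψ)) i a b = _
      rw [map_mul, map_mul, Pi.mul_apply, Matrix.mul_apply]
      simp only [map_sum, TensorProduct.map_tmul, LinearMap.mul'_apply]
      refine Finset.sum_congr rfl fun l _ => congrArg₂ (· * ·) (hm (ev i a l) (toConv φ)).symm
        (hm (ev i l b) (toConv ψ)).symm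
    · have h1 := hm (ev i a b) 1
      rw [map_one] at h1
      have h2 : Coalgebra.counit (R := k) (M i a b) = (1 : WithConv (A →ₗ[k] k)).ofConv (M i a b) := by simp
      rw [h2, h1]
      change e 1 i a b = _
      rw [map_one, Pi.one_apply, Matrix.one_apply]
  have key : cf (A := A) θ v = ∑ i, c i • (M i).trace := eq_of_forall_apply fun φ => by
    rw [show φ (cf (A := A) θ v) = τ (toR (toConv φ)) from (hτ (toConv φ)).symm]
    conv_lhs => rw [← e.symm_apply_apply (toR (toConv φ)), ← Finset.univ_sum_single (e (toR (toConv φ)))]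
    simp only [map_sum, hc, map_smul, smul_eq_mul]
    refine Finset.sum_congr rfl fun i _ => congrArg _ ?_
    simp only [Matrix.trace, Matrix.diag, map_sum]
    exact Finset.sum_congr rfl fun a _ => (hm (ev i a a) (toConv φ)).symm
  rw [key]
  exact Submodule.sum_mem _ fun i _ => Submodule.smul_mem _ _ (Submodule.subset_span (trace_mem_charSet (hM i)))

/-- symmetric elements of a linearly reductive coalgebra are combinations of characters -/
theorem mem_span_of_comm (hred : ∀ (U : Submodule k A) (hU : HopfRep.IsSubcomod (k := k) (A := A) U),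
      Module.Finite k U → @HopfRep.IsSemisimpleComod k A _ _ _ _ U _ _
        (ComodSub.Comod.restr (HopfRep.Comod.regular k A) U hU))
    {f : A} (hf : TensorProduct.comm k A A (Coalgebra.comul (R := k) f) = Coalgebra.comul (R := k) f) :
    f ∈ Submodule.span k (charSet k A) := by
  classical
  obtain ⟨U, hfin, hfU, hU⟩ := exists_finite_subcomod_span (k := k) (A := A) (V := A) (Set.finite_singleton f)
  let cU := ComodSub.Comod.restr (HopfRep.Comod.regular k A) U hU
  have hss : HopfRep.IsSemisimpleComod k A U := hred U hU hfin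
  let v : U := ⟨f, hfU rfl⟩
  let θ : U →ₗ[k] k := Coalgebra.counit (R := k) (A := A) ∘ₗ U.subtype
  have hfcf : f = cf (A := A) θ v :=
    LinearMap.congr_fun (isComodHom_eq_cf (A := A) (f := U.subtype) (ComodSub.isComodHom_subtype _ U hU)) v
  rw [hfcf] at hf ⊢
  exact cf_mem_span hss θ v hf

end Span

section Independence

variable [IsAlgClosed k] {ι : Type*} [Finite ι] {V : ι → Type w} [∀ i, AddCommGroup (V i)] [∀ i, Module k (V i)]
  [∀ i, HopfRep.Comod k A (V i)] [∀ i, Module.Finite k (V i)]

theorem rho_surjective_of_simple {W : Type w} [AddCommGroup W] [Module k W] [HopfRep.Comod k A W]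
    [Module.Finite k W] (hW : HopfRep.IsSimpleComod k A W) : Function.Surjective (rho k A W) := by
  have := hW.1
  intro r
  have h := mem_of_irreducible (rho k A W).range (fun S hS => hW.2 S ((isSubcomod_iff _).2 fun φ x hx =>
    hS _ ⟨toConv φ, rfl⟩ x hx)) r
  exact h

/-- the character of a comodule in a basis evaluates to the trace -/
theorem apply_trace_cfMat {W : Type w} [AddCommGroup W] [Module k W] [HopfRep.Comod k A W] {d : ℕ}
    (b : Module.Basis (Fin d) k W) (φ : A →ₗ[k] k) :
    φ (cfMat (A := A) b).trace = LinearMap.trace k W (rho k A W (toConv φ)) := by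
  rw [LinearMap.trace_eq_matrix_trace k b]
  simp only [Matrix.trace, Matrix.diag, map_sum]
  refine Finset.sum_congr rfl fun i _ => ?_
  rw [LinearMap.toMatrix_apply]
  change φ (cf (A := A) (b.coord i) (b i)) = _
  rw [apply_cf]
  rfl

variable (hs : ∀ i, HopfRep.IsSimpleComod k A (V i))
  (hne : ∀ i j, i ≠ j → ∀ P : V i ≃ₗ[k] V j, ¬ Hoch.IsComodHom A (P : V i →ₗ[k] V j))

include hs hne

/-- two non-isomorphic simple comodules are separated by a functional -/
theorem exists_sep {i j : ι} (hij : i ≠ j) :
    ∃ φ : WithConv (A →ₗ[k] k), rho k A (V j) φ = 0 ∧ rho k A (V i) φ = 1 := by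
  classical
  have hsur := rho_surjective_of_simple (hs j)
  obtain ⟨s, hsec⟩ := LinearMap.exists_rightInverse_of_surjective (rho k A (V j)).toLinearMap
    (LinearMap.range_eq_top.2 hsur)
  have hsec' : ∀ r, rho k A (V j) (s r) = r := fun r => LinearMap.congr_fun hsec r
  obtain ⟨φ₀, hj0, hi0⟩ : ∃ φ, rho k A (V j) φ = 0 ∧ rho k A (V i) φ ≠ 0 := by
    by_contra hcon
    push Not at hcon
    have heq : ∀ φ ψ, rho k A (V j) φ = rho k A (V j) ψ → rho k A (V i) φ = rho k A (V i) ψ :=
      fun φ ψ h => sub_eq_zero.1 (by rw [← map_sub]; exact hcon _ (by rw [map_sub, h, sub_self]))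
    have := (hs i).1
    obtain ⟨v, hv⟩ := exists_ne (0 : V i)
    let b := Module.finBasis k (V j)
    let L : Fin (Module.finrank k (V j)) → (V j →ₗ[k] V i) := fun t =>
      { toFun := fun u => rho k A (V i) (s ((b.coord t).smulRight u)) v
        map_add' := fun x y => by
          rw [show (b.coord t).smulRight (x + y) = (b.coord t).smulRight x + (b.coord t).smulRight y from
            LinearMap.ext fun z => by simp, map_add, map_add, LinearMap.add_apply]
        map_smul' := fun c x => by
          rw [show (b.coord t).smulRight (c • x) = c • (b.coord t).smulRight x from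
            LinearMap.ext fun z => by simp [smul_smul, mul_comm], map_smul, map_smul, LinearMap.smul_apply]
          rfl }
    have hL : ∀ t, Hoch.IsComodHom A (L t) := fun t => (isComodHom_iff _).2 fun φ x => by
      change rho k A (V i) (s ((b.coord t).smulRight (op φ x))) v =
        rho k A (V i) (toConv φ) (rho k A (V i) (s ((b.coord t).smulRight x)) v)
      rw [← Module.End.mul_apply, ← map_mul]
      refine LinearMap.congr_fun (heq _ _ ?_) v
      rw [hsec', map_mul, hsec']
      exact LinearMap.ext fun z => by simp [Module.End.mul_apply]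
    obtain ⟨t, ht⟩ : ∃ t, L t ≠ 0 := by
      by_contra h0
      push Not at h0
      have h1 : (1 : Module.End k (V j)) = ∑ t, (b.coord t).smulRight (b t) :=
        LinearMap.ext fun z => by simp [b.sum_repr]
      have h2 : rho k A (V i) (s 1) v = 0 := by
        rw [h1, map_sum, map_sum, LinearMap.sum_apply]
        exact Finset.sum_eq_zero fun t _ => LinearMap.congr_fun (h0 t) (b t)
      rw [heq (s 1) 1 (by rw [hsec', map_one]), map_one] at h2
      exact hv h2
    rcases eq_zero_or_bijective (hs j) (hs i) (hL t) with h | h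
    · exact ht h
    · exact hne j i hij.symm (LinearEquiv.ofBijective (L t) h) (hL t)
  obtain ⟨x, hx⟩ : ∃ x, rho k A (V i) φ₀ x ≠ 0 := by
    by_contra h
    push Not at h
    exact hi0 (LinearMap.ext h)
  obtain ⟨ψ, hψ⟩ : ∃ ψ : V i →ₗ[k] k, ψ (rho k A (V i) φ₀ x) = 1 := by
    obtain ⟨g, hg⟩ : ∃ g : V i →ₗ[k] k, g (rho k A (V i) φ₀ x) ≠ 0 := by
      by_contra h
      push Not at h
      exact hx ((Module.forall_dual_apply_eq_zero_iff k _).1 h)
    exact ⟨(g (rho k A (V i) φ₀ x))⁻¹ • g, by rw [LinearMap.smul_apply, smul_eq_mul, inv_mul_cancel₀ hg]⟩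
  obtain ⟨si, hsi⟩ := LinearMap.exists_rightInverse_of_surjective (rho k A (V i)).toLinearMap
    (LinearMap.range_eq_top.2 (rho_surjective_of_simple (hs i)))
  have hsi' : ∀ r, rho k A (V i) (si r) = r := fun r => LinearMap.congr_fun hsi r
  let b := Module.finBasis k (V i)
  refine ⟨∑ t, si (ψ.smulRight (b t)) * φ₀ * si ((b.coord t).smulRight x), ?_, ?_⟩
  · simp [hj0]
  · simp only [map_sum, map_mul, hsi']
    refine LinearMap.ext fun z => ?_
    simp only [LinearMap.sum_apply, Module.End.mul_apply, LinearMap.smulRight_apply, map_smul, hψ,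
      smul_eq_mul, mul_one, Module.End.one_apply]
    simpa [Module.Basis.coord_apply] using b.sum_repr z

theorem exists_sep_all (i : ι) :
    ∃ φ : WithConv (A →ₗ[k] k), rho k A (V i) φ = 1 ∧ ∀ j, j ≠ i → rho k A (V j) φ = 0 := by
  classical
  cases nonempty_fintype ι
  suffices ∀ s : Finset ι, i ∉ s → ∃ φ, rho k A (V i) φ = 1 ∧ ∀ j ∈ s, rho k A (V j) φ = 0 by
    obtain ⟨φ, h1, h2⟩ := this (Finset.univ.erase i) (Finset.notMem_erase i _)
    exact ⟨φ, h1, fun j hj => h2 j (Finset.mem_erase.2 ⟨hj, Finset.mem_univ j⟩)⟩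
  intro s
  induction s using Finset.induction_on with
  | empty => exact fun _ => ⟨1, map_one _, by simp⟩
  | insert a s ha ih =>
    intro hi
    rw [Finset.mem_insert, not_or] at hi
    obtain ⟨φ, h1, h2⟩ := ih hi.2
    obtain ⟨ψ, h3, h4⟩ := exists_sep hs hne hi.1
    refine ⟨φ * ψ, by rw [map_mul, h1, h4, one_mul], fun j hj => ?_⟩
    rcases Finset.mem_insert.1 hj with rfl | hj
    · rw [map_mul, h3, mul_zero]
    · rw [map_mul, h2 j hj, zero_mul]

/-- characters of pairwise non-isomorphic simple comodules are linearly independent -/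
theorem linearIndependent_trace (d : ι → ℕ) (b : ∀ i, Module.Basis (Fin (d i)) k (V i)) :
    LinearIndependent k fun i => (cfMat (A := A) (b i)).trace := by
  classical
  cases nonempty_fintype ι
  rw [Fintype.linearIndependent_iff]
  intro g hg i
  obtain ⟨φ, h1, h2⟩ := exists_sep_all hs hne i
  have := (hs i).1
  obtain ⟨o⟩ : Nonempty (Fin (d i)) := (b i).index_nonempty
  obtain ⟨ψ, hψ⟩ := rho_surjective_of_simple (hs i) (((b i).coord o).smulRight (b i o))
  have htr : LinearMap.trace k (V i) (((b i).coord o).smulRight (b i o)) = 1 := by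
    rw [LinearMap.trace_smulRight, Module.Basis.coord_apply, Module.Basis.repr_self, Finsupp.single_eq_same]
  have h := congrArg (φ * ψ).ofConv hg
  rw [map_sum, map_zero, Finset.sum_eq_single i] at h
  · rwa [map_smul, apply_trace_cfMat, toConv_ofConv, map_mul, h1, one_mul, hψ, htr, smul_eq_mul, mul_one] at h
  · intro j _ hj
    rw [map_smul, apply_trace_cfMat, toConv_ofConv, map_mul, h2 j hj, zero_mul, map_zero, smul_zero]
  · exact fun hni => absurd (Finset.mem_univ i) hni

end Independence

end Groth.Misc1.Unip.ClassFun
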