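import Groth.Agent.Misc1.Unip.LieP
import Groth.Agent.Misc1.Unip.Invariants
import Groth.Agent.Sga3.SubHopfStruct
import Groth.Agent.S4110
import Mathlib.RingTheory.MvPolynomial.Ideal
import Mathlib.Algebra.MvPolynomial.PDeriv

/-!
# Descent along Frobenius: a group with nilpotent `p`-Lie algebra whose Frobenius image is unipotent is unipotent
-/

set_option autoImplicit false
set_option linter.unusedSectionVars false

universe u v w

open TensorProduct WithConv Groth.ComodLib

noncomputable section

namespace Groth.Misc1.Unip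

variable {k : Type u} [Field k] {A : Type u} [CommRing A] [HopfAlgebra k A]

/-- invariant derivations killing an element kill it under every derivation -/
theorem deriv_eq_zero_of_op {a : A} (ha : ∀ f ∈ derS k A, op f.ofConv a = 0) (δ : A →ₗ[k] A)
    (hδ : ∀ x y, δ (x * y) = x * δ y + y * δ x) : δ a = 0 := by
  let S : WithConv (A →ₗ[k] A) := toConv (HopfAlgebraStruct.antipode (R := k) (A := A))
  let η : WithConv (A →ₗ[k] A) := S * toConv δ
  let F : A ⊗[k] A →ₗ[k] A := LinearMap.mul' k A ∘ₗ TensorProduct.map S.ofConv δ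
  let G : A ⊗[k] A →ₗ[k] A := LinearMap.mul' k A ∘ₗ (S.ofConv).rTensor A
  have hS : ∀ x y : A, S.ofConv (x * y) = S.ofConv x * S.ofConv y := fun x y =>
    map_mul (HopfAlgebra.antipodeAlgHom k A) x y
  have key : ∀ x y : A ⊗[k] A, F (x * y) = G x * F y + G y * F x := by
    intro x y
    induction x using TensorProduct.induction_on with
    | zero => simp
    | add p q hp hq => simp only [add_mul, map_add, hp, hq]; ring
    | tmul p q =>
      induction y using TensorProduct.induction_on with
      | zero => simp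
      | add r t hr ht => simp only [mul_add, map_add, hr, ht]; ring
      | tmul r t =>
        simp only [F, G, LinearMap.comp_apply, Algebra.TensorProduct.tmul_mul_tmul, TensorProduct.map_tmul,
          LinearMap.rTensor_tmul, LinearMap.mul'_apply, hS, hδ]
        ring
  have hη : ∀ x y : A, η (x * y) = algebraMap k A (Coalgebra.counit (R := k) x) * η y +
      algebraMap k A (Coalgebra.counit (R := k) y) * η x := by
    intro x y
    change F (Coalgebra.comul (R := k) (x * y)) = _ * F (Coalgebra.comul (R := k) y) +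
      _ * F (Coalgebra.comul (R := k) x)
    rw [Bialgebra.comul_mul, key]
    congr 2 <;> exact HopfAlgebra.mul_antipode_rTensor_comul_apply _
  have hδη : toConv δ = toConv (LinearMap.id : A →ₗ[k] A) * η := by
    have h1 : toConv (LinearMap.id : A →ₗ[k] A) * S = 1 := by
      refine WithConv.ofConv_injective (LinearMap.ext fun x => ?_)
      simp only [LinearMap.convMul_apply, LinearMap.convOne_def, WithConv.ofConv_toConv, LinearMap.comp_apply,
        Algebra.linearMap_apply, S]
      exact HopfAlgebra.mul_antipode_lTensor_comul_apply _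
    rw [← mul_assoc, h1, one_mul]
  have h0 : η.ofConv.lTensor A (Coalgebra.comul (R := k) a) = 0 := by
    refine eq_zero_of_slice fun ψ => ?_
    rw [slice_lTensor]
    refine ha (toConv (ψ ∘ₗ η.ofConv)) fun x y => ?_
    change ψ (η (x * y)) = ψ (η x) * _ + _ * ψ (η y)
    rw [hη, map_add, ← Algebra.smul_def, ← Algebra.smul_def, map_smul, map_smul, smul_eq_mul, smul_eq_mul]
    ring
  have := congrArg (fun F => F.ofConv a) hδη
  change δ a = _ at this
  rw [this, LinearMap.convMul_apply]
  change LinearMap.mul' k A (η.ofConv.lTensor A (Coalgebra.comul (R := k) a)) = 0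
  rw [h0, map_zero]

/-- an ideal-free criterion: all partial derivatives vanish only on constants -/
theorem sub_C_mem_of_pderiv_mem (p : ℕ) [hp : Fact p.Prime] [CharP k p] {n : ℕ} {f : MvPolynomial (Fin n) k}
    (h : ∀ i, MvPolynomial.pderiv i f ∈
      Ideal.span (Set.range fun i : Fin n => (MvPolynomial.X i : MvPolynomial (Fin n) k) ^ p)) :
    f - MvPolynomial.C (MvPolynomial.coeff 0 f) ∈
      Ideal.span (Set.range fun i : Fin n => (MvPolynomial.X i : MvPolynomial (Fin n) k) ^ p) := by
  classical
  have hspan : (Set.range fun i : Fin n => (MvPolynomial.X i : MvPolynomial (Fin n) k) ^ p) =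
      (fun s => MvPolynomial.monomial s (1 : k)) '' Set.range fun i : Fin n => Finsupp.single i p := by
    rw [← Set.range_comp]
    refine congrArg Set.range (funext fun i => ?_)
    simp [MvPolynomial.X_pow_eq_monomial]
  rw [hspan] at h ⊢
  simp only [MvPolynomial.mem_ideal_span_monomial_image, Set.exists_range_iff] at h ⊢
  intro m hm
  rw [MvPolynomial.mem_support_iff, MvPolynomial.coeff_sub, MvPolynomial.coeff_C] at hm
  have hm0 : m ≠ 0 := fun e => hm (by simp [e])
  rw [if_neg (Ne.symm hm0), sub_zero] at hm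
  by_contra hsmall
  push Not at hsmall
  obtain ⟨i, hi⟩ : ∃ i, m i ≠ 0 := by
    by_contra hc
    push Not at hc
    exact hm0 (Finsupp.ext hc)
  have hlt : ∀ j, m j < p := fun j => by
    by_contra hc
    exact hsmall j (Finsupp.single_le_iff.2 (not_lt.1 hc))
  let m' := m - Finsupp.single i 1
  have hle : Finsupp.single i 1 ≤ m := Finsupp.single_le_iff.2 (Nat.one_le_iff_ne_zero.2 hi)
  have hcoeff : MvPolynomial.coeff m' (MvPolynomial.pderiv i f) ≠ 0 := by
    rw [MvPolynomial.coeff_pderiv, tsub_add_cancel_of_le hle]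
    refine mul_ne_zero hm fun hc => ?_
    have e : m' i + 1 = m i := by
      simp only [m', Finsupp.tsub_apply, Finsupp.single_eq_same]; omega
    rw [← Nat.cast_one, ← Nat.cast_add, e, CharP.cast_eq_zero_iff k p] at hc
    exact absurd (Nat.le_of_dvd (Nat.pos_of_ne_zero hi) hc) (not_le.2 (hlt i))
  obtain ⟨j, hj⟩ := h i m' (MvPolynomial.mem_support_iff.2 hcoeff)
  have h1 : p ≤ m' j := Finsupp.single_le_iff.1 hj
  have h2 : m' j ≤ m j := by simp [m']
  exact absurd (h1.trans h2) (not_le.2 (hlt j))

/-- in a group of height one the functions killed by the Lie algebra are constant -/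
theorem eq_counit_of_op_heightOne (p : ℕ) [hp : Fact p.Prime] [CharP k p] [Algebra.FiniteType k A]
    (h1 : ∀ a : A, Bialgebra.counitAlgHom k A a = 0 → a ^ p = 0) {a : A}
    (ha : ∀ f ∈ derS k A, op f.ofConv a = 0) : a = algebraMap k A (Coalgebra.counit (R := k) a) := by
  haveI : Algebra.FinitePresentation k A := Algebra.FinitePresentation.of_finiteType.mp ‹_›
  obtain ⟨n, ⟨e⟩⟩ := Groth.Agent.S4110.result p k A h1
  set J := Ideal.span (Set.range fun i : Fin n => (MvPolynomial.X i : MvPolynomial (Fin n) k) ^ p) with hJ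
  have hd : ∀ (i : Fin n) (x : MvPolynomial (Fin n) k), x ∈ J → MvPolynomial.pderiv i x ∈ J := by
    intro i x hx
    induction hx using Submodule.span_induction with
    | mem x hx =>
      obtain ⟨j, rfl⟩ := hx
      rw [MvPolynomial.pderiv_pow, CharP.cast_eq_zero, zero_mul, zero_mul]
      exact zero_mem _
    | zero => simp
    | add x y _ _ hx hy => rw [map_add]; exact add_mem hx hy
    | smul r x hx' hx =>
      rw [smul_eq_mul, MvPolynomial.pderiv_mul]
      exact add_mem (J.mul_mem_left _ hx') (J.mul_mem_left _ hx)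
  obtain ⟨g, hg⟩ := Ideal.Quotient.mk_surjective (e a)
  have hmem : ∀ i, MvPolynomial.pderiv i g ∈ J := by
    intro i
    let D : (MvPolynomial (Fin n) k ⧸ J) →ₗ[k] (MvPolynomial (Fin n) k ⧸ J) :=
      Submodule.mapQ (J.restrictScalars k) (J.restrictScalars k) (MvPolynomial.pderiv i).toLinearMap (hd i)
    have hD : ∀ x : MvPolynomial (Fin n) k, D (Ideal.Quotient.mk J x) =
        Ideal.Quotient.mk J (MvPolynomial.pderiv i x) := fun x => rfl
    let δ : A →ₗ[k] A := e.symm.toLinearMap ∘ₗ D ∘ₗ e.toLinearMap
    have h0 : δ a = 0 := deriv_eq_zero_of_op ha δ fun x y => by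
      apply e.injective
      simp only [δ, LinearMap.comp_apply, AlgEquiv.toLinearMap_apply, map_add, map_mul, AlgEquiv.apply_symm_apply]
      obtain ⟨x', hx'⟩ := Ideal.Quotient.mk_surjective (e x)
      obtain ⟨y', hy'⟩ := Ideal.Quotient.mk_surjective (e y)
      rw [← hx', ← hy', ← map_mul, hD, hD, hD, MvPolynomial.pderiv_mul, map_add, map_mul, map_mul]
      ring
    simp only [δ, LinearMap.comp_apply, AlgEquiv.toLinearMap_apply, map_eq_zero_iff _ e.symm.injective, ← hg,
      hD] at h0
    exact Ideal.Quotient.eq_zero_iff_mem.1 h0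
  have h2 : a = algebraMap k A (MvPolynomial.coeff 0 g) := by
    apply e.injective
    rw [AlgEquiv.commutes, ← hg, ← Ideal.Quotient.mk_algebraMap, Ideal.Quotient.eq,
      MvPolynomial.algebraMap_eq]
    exact sub_C_mem_of_pderiv_mem p hmem
  rw [h2, Bialgebra.counit_algebraMap]

section Perfect

variable [IsAlgClosed k] (p : ℕ) [hp : Fact p.Prime] [CharP k p]

variable (k A) in
/-- the `p`-th powers -/
def powSub : Subalgebra k A where
  carrier := Set.range fun a : A => a ^ p
  mul_mem' := by
    rintro _ _ ⟨a, rfl⟩ ⟨b, rfl⟩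
    exact ⟨a * b, mul_pow _ _ _⟩
  add_mem' := by
    haveI : Nontrivial A := (Bialgebra.counitAlgHom k A).toRingHom.domain_nontrivial
    haveI : CharP A p := charP_of_injective_algebraMap (algebraMap k A).injective p
    rintro _ _ ⟨a, rfl⟩ ⟨b, rfl⟩
    exact ⟨a + b, add_pow_char a b p⟩
  algebraMap_mem' r := by
    obtain ⟨s, hs⟩ := IsAlgClosed.exists_pow_nat_eq r hp.out.pos
    exact ⟨algebraMap k A s, by change algebraMap k A s ^ p = _; rw [← map_pow, hs]⟩

theorem pow_mem_powSub (a : A) : a ^ p ∈ powSub k A p := ⟨a, rfl⟩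

theorem exists_map_eq_pow {M N : Type w} [CommRing M] [Algebra k M] [CommRing N] [Algebra k N] [Nontrivial (M ⊗[k] N)]
    (z : M ⊗[k] N) :
    z ^ p ∈ LinearMap.range (TensorProduct.map
      (Submodule.span k (Set.range fun a : M => a ^ p)).subtype
      (Submodule.span k (Set.range fun a : N => a ^ p)).subtype) := by
  haveI : CharP (M ⊗[k] N) p := charP_of_injective_algebraMap (algebraMap k _).injective p
  induction z using TensorProduct.induction_on with
  | zero => rw [zero_pow hp.out.ne_zero]; exact zero_mem _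
  | add x y hx hy => rw [add_pow_char]; exact add_mem hx hy
  | tmul x y =>
    exact ⟨⟨x ^ p, Submodule.subset_span ⟨x, rfl⟩⟩ ⊗ₜ ⟨y ^ p, Submodule.subset_span ⟨y, rfl⟩⟩,
      by rw [TensorProduct.map_tmul, Algebra.TensorProduct.tmul_pow]; rfl⟩

omit [IsAlgClosed k] in
theorem nontrivial_tensor : Nontrivial (A ⊗[k] A) :=
  (Algebra.TensorProduct.lift (Bialgebra.counitAlgHom k A) (Bialgebra.counitAlgHom k A)
    fun _ _ => Commute.all _ _).toRingHom.domain_nontrivial

theorem isHopfSubalgebra_powSub : SGA3.IsHopfSubalgebra k A (powSub k A p) := by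
  haveI := nontrivial_tensor (k := k) (A := A)
  refine ⟨?_, ?_⟩
  · rintro _ ⟨a, rfl⟩
    have hle : ∀ y ∈ Submodule.span k (Set.range fun a : A => a ^ p), y ∈ powSub k A p := fun y hy =>
      (Submodule.span_le (p := (powSub k A p).toSubmodule)).2 (fun _ h => h) hy
    obtain ⟨z, hz⟩ := exists_map_eq_pow (k := k) p (Coalgebra.comul (R := k) a)
    let g : Submodule.span k (Set.range fun a : A => a ^ p) →ₗ[k] powSub k A p :=
      { toFun := fun y => ⟨y, hle _ y.2⟩
        map_add' := fun _ _ => rfl
        map_smul' := fun _ _ => rfl }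
    refine ⟨TensorProduct.map g g z, ?_⟩
    rw [show CoalgebraStruct.comul (R := k) (A := A) (a ^ p) = Coalgebra.comul (R := k) a ^ p from
      Bialgebra.comul_pow a p, ← hz, ← LinearMap.comp_apply, ← TensorProduct.map_comp]
    rfl
  · rintro _ ⟨a, rfl⟩
    exact ⟨HopfAlgebra.antipodeAlgHom k A a, (map_pow (HopfAlgebra.antipodeAlgHom k A) a p).symm⟩

variable {p}

/-- functions killed by the Lie algebra are `p`-th powers -/
theorem exists_pow_eq_of_op [Algebra.FiniteType k A] {a : A} (ha : ∀ f ∈ derS k A, op f.ofConv a = 0) :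
    ∃ b : A, b ^ p = a := by
  have hB := isHopfSubalgebra_powSub (k := k) (A := A) p
  letI := Groth.Sga3.SubHopfStruct.hopfAlgebra hB
  set J := SGA3.augIdealSpan k A (powSub k A p) with hJ
  haveI := Groth.Sga3.SubHopfStruct.isHopfIdeal_augIdealSpan hB
  let q : A →ₐc[k] A ⧸ J := Bialgebra.Quotient.mkBialgHom (R := k) J
  have hq : Function.Surjective q := Ideal.Quotient.mk_surjective
  haveI : Algebra.FiniteType k (A ⧸ J) := Algebra.FiniteType.of_surjective (Ideal.Quotient.mkₐ k J) hq
  have hh : ∀ x : A ⧸ J, Bialgebra.counitAlgHom k (A ⧸ J) x = 0 → x ^ p = 0 := by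
    intro x hx
    obtain ⟨b, rfl⟩ := hq x
    change Ideal.Quotient.mk J b ^ p = 0
    rw [← map_pow, Ideal.Quotient.eq_zero_iff_mem]
    refine Ideal.subset_span ⟨pow_mem_powSub p b, ?_⟩
    change Bialgebra.counitAlgHom k A (b ^ p) = 0
    rw [map_pow, show Bialgebra.counitAlgHom k A b = 0 from hx, zero_pow hp.out.ne_zero]
  have hop : ∀ (f : WithConv (A ⧸ J →ₗ[k] k)) (c : A), op f.ofConv (q c) =
      q (op (f.ofConv ∘ₗ (q : A →ₗ[k] A ⧸ J)) c) := by
    intro f c
    rw [op_apply, op_apply]
    change slice f.ofConv (Coalgebra.comul (R := k) (q c)) =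
      q (slice (f.ofConv ∘ₗ (q : A →ₗ[k] A ⧸ J)) (Coalgebra.comul (R := k) c))
    rw [← CoalgHomClass.map_comp_comul_apply q c]
    generalize Coalgebra.comul (R := k) c = z
    induction z using TensorProduct.induction_on with
    | zero => simp
    | tmul x y => simp
    | add x y hx hy => simp only [map_add, hx, hy]
  have hinv : (q : A →ₗ[k] A ⧸ J).lTensor A (Coalgebra.comul (R := k) a) = a ⊗ₜ[k] (1 : A ⧸ J) := by
    refine sub_eq_zero.1 (eq_zero_of_lslice fun ψ => ?_)
    rw [map_sub, lslice_lTensor, lslice_tmul, sub_eq_zero]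
    have hc : ∀ f ∈ derS k (A ⧸ J), op f.ofConv (q (cf (A := A) ψ a)) = 0 := by
      intro f hf
      rw [hop]
      have : op (f.ofConv ∘ₗ (q : A →ₗ[k] A ⧸ J)) (cf (A := A) ψ a) = 0 := by
        rw [← isComodHom_op (isComodHom_cf ψ)]
        rw [ha (toConv (f.ofConv ∘ₗ (q : A →ₗ[k] A ⧸ J))) (fun x y => by
          change f (q (x * y)) = f (q x) * _ + _ * f (q y)
          rw [map_mul, hf, CoalgHomClass.counit_comp_apply, CoalgHomClass.counit_comp_apply]), map_zero]
      rw [this, map_zero]
    refine (eq_counit_of_op_heightOne p hh hc).trans ?_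
    rw [CoalgHomClass.counit_comp_apply, Algebra.algebraMap_eq_smul_one]
    congr 1
    rw [apply_cf, op_counit]
  obtain ⟨b, hb⟩ := mem_range_of_invariant (Groth.Sga3.SubHopfStruct.incl hB) q hq (fun c hc => by
    rw [← Groth.Sga3.SubHopfStruct.augIdealSpan_eq_map]
    exact Ideal.Quotient.eq_zero_iff_mem.1 hc) hinv
  obtain ⟨c, hc⟩ := b.2
  exact ⟨c, hc.trans hb⟩

theorem fixedPts_ne_bot_of_mem {V : Type w} [AddCommGroup V] [Module k V] [HopfRep.Comod k A V] {v : V}
    (hv : v ≠ 0) : ∀ n, v ∈ fixSeries k A V n → HopfRep.fixedPts k A V ≠ ⊥ := by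
  intro n hn hbot
  have : ∀ n, fixSeries k A V n = ⊥ := fun n => by
    induction n with
    | zero => rfl
    | succ n ih =>
      refine le_bot_iff.1 fun x hx => hbot ▸ fixSeries_one (k := k) (A := A) (V := V) ▸ mem_fixSeries_succ.2 fun φ => ?_
      have := mem_fixSeries_succ.1 hx φ
      rwa [ih] at this
  rw [this n] at hn
  exact hv ((Submodule.mem_bot k).1 hn)

theorem mem_fixSeries_of_cf {V : Type w} [AddCommGroup V] [Module k V] [HopfRep.Comod k A V] :
    ∀ (n : ℕ) (x : V), (∀ α : V →ₗ[k] k, cf (A := A) α x ∈ fixSeries k A A n) → x ∈ fixSeries k A V n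
  | 0, x, h => by
    refine (Submodule.mem_bot k).2 ((Module.forall_dual_apply_eq_zero_iff k x).1 fun α => ?_)
    have := congrArg (Coalgebra.counit (R := k)) ((Submodule.mem_bot k).1 (h α))
    rwa [apply_cf, op_counit, map_zero] at this
  | n + 1, x, h => mem_fixSeries_succ.2 fun φ => mem_fixSeries_of_cf n _ fun α => by
    rw [isComodHom_op (isComodHom_cf α)]
    exact mem_fixSeries_succ.1 (h α) φ

/-- if the `p`-th powers are exhausted by the fixed series and the `p`-operation is nilpotent, the group is
unipotent -/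
theorem isUnipotent_of_pow [Algebra.FiniteType k A] (hnil : ∀ f ∈ derS k A, ∃ n : ℕ, f ^ p ^ n = 0)
    (hpow : ∀ a : A, ∃ m, a ^ p ∈ fixSeries k A A m) : HopfRep.IsUnipotent k A := by
  intro V _ _ _ _ _
  obtain ⟨v, hv0, hv⟩ := exists_lie_fixed p hnil (V := V)
  have hmem : ∀ α : V →ₗ[k] k, ∃ m, cf (A := A) α v ∈ fixSeries k A A m := by
    intro α
    obtain ⟨b, hb⟩ := exists_pow_eq_of_op (k := k) (p := p) (a := cf (A := A) α v) fun f hf => by
      rw [← isComodHom_op (isComodHom_cf α), hv f hf, map_zero]
    rw [← hb]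
    exact hpow b
  choose m hm using hmem
  let b := Module.finBasis k V
  refine fixedPts_ne_bot_of_mem hv0 (Finset.univ.sup fun i => m (b.coord i))
    (mem_fixSeries_of_cf _ _ fun α => ?_)
  have hα : α = ∑ i, α (b i) • b.coord i := by
    refine b.ext fun j => ?_
    simp [Finsupp.single_apply]
  have : cf (A := A) α v = ∑ i, α (b i) • cf (A := A) (b.coord i) v := by
    conv_lhs => rw [hα]
    have e : ∀ (β : V →ₗ[k] k), cf (A := A) β v = lslice β (HopfRep.Comod.coact (k := k) (A := A) v) := fun β =>
      cf_apply _ _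
    simp only [e]
    generalize HopfRep.Comod.coact (k := k) (A := A) v = z
    induction z using TensorProduct.induction_on with
    | zero => simp
    | tmul x y =>
      simp only [lslice_tmul, smul_smul, ← Finset.sum_smul, LinearMap.sum_apply, LinearMap.smul_apply, smul_eq_mul]
    | add x y hx hy => simp only [map_add, smul_add, Finset.sum_add_distrib, hx, hy]
  rw [this]
  exact Submodule.sum_mem _ fun i _ => Submodule.smul_mem _ _
    (fixSeries_mono (Finset.le_sup (f := fun i => m (b.coord i)) (Finset.mem_univ i)) (hm _))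

theorem mem_fixSeries_of_map {P : Type u} [CommRing P] [Bialgebra k P] (ι : P →ₐc[k] A) (hι : Function.Injective ι) :
    ∀ (n : ℕ) (b : P), ι b ∈ fixSeries k A A n → b ∈ fixSeries k P P n
  | 0, b, h => (Submodule.mem_bot k).2 (hι (by rw [(Submodule.mem_bot k).1 h, map_zero]))
  | n + 1, b, h => mem_fixSeries_succ.2 fun φ => by
    refine mem_fixSeries_of_map ι hι n _ ?_
    obtain ⟨l, hl⟩ := (ι : P →ₗ[k] A).exists_leftInverse_of_injective (LinearMap.ker_eq_bot.2 hι)
    have e : ι (op (augL φ) b) = op (augL (φ ∘ₗ l)) (ι b) := by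
      have e1 : augL (φ ∘ₗ l) ∘ₗ (ι : P →ₗ[k] A) = augL φ := by
        refine LinearMap.ext fun c => ?_
        have h1 : l (ι c) = c := LinearMap.congr_fun hl c
        have h2 : l (1 : A) = 1 := by
          have := LinearMap.congr_fun hl (1 : P)
          simpa using this
        simp [augL, h1, h2, CoalgHomClass.counit_comp_apply]
      rw [op_apply, op_apply]
      change ι (slice (augL φ) (Coalgebra.comul (R := k) b)) =
        slice (augL (φ ∘ₗ l)) (Coalgebra.comul (R := k) (ι b))
      rw [← CoalgHomClass.map_comp_comul_apply ι b, ← e1]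
      generalize Coalgebra.comul (R := k) b = z
      induction z using TensorProduct.induction_on with
      | zero => simp
      | tmul x y => simp
      | add x y hx hy => simp only [map_add, hx, hy]
    rw [e]
    exact mem_fixSeries_succ.1 h _

theorem finiteType_powSub [Algebra.FiniteType k A] : Algebra.FiniteType k (powSub k A p) := by
  obtain ⟨s, hs⟩ := (inferInstance : Algebra.FiniteType k A).out
  classical
  refine ⟨(Subalgebra.fg_top _).2 ⟨s.image fun a => a ^ p, le_antisymm ?_ ?_⟩⟩
  · rw [Algebra.adjoin_le_iff, Finset.coe_image]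
    rintro _ ⟨a, -, rfl⟩
    exact pow_mem_powSub p a
  · rintro _ ⟨a, rfl⟩
    haveI : Nontrivial A := (Bialgebra.counitAlgHom k A).toRingHom.domain_nontrivial
    haveI : CharP A p := charP_of_injective_algebraMap (algebraMap k A).injective p
    change a ^ p ∈ _
    have ha : a ∈ Algebra.adjoin k (s : Set A) := hs ▸ Algebra.mem_top
    induction ha using Algebra.adjoin_induction with
    | mem x hx => exact Algebra.subset_adjoin (by rw [Finset.coe_image]; exact ⟨x, hx, rfl⟩)
    | algebraMap r => rw [← map_pow]; exact Subalgebra.algebraMap_mem _ _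
    | add x y _ _ hx hy => rw [add_pow_char]; exact add_mem hx hy
    | mul x y _ _ hx hy => rw [mul_pow]; exact mul_mem hx hy

/-- the Frobenius pullback of an element of the Lie algebra of the image of Frobenius -/
theorem exists_frob_pullback {P : Type u} [CommRing P] [HopfAlgebra k P] (F : A →+* P)
    (hF : ∀ (r : k) (a : A), F (r • a) = r ^ p • F a)
    (hε : ∀ a, Coalgebra.counit (R := k) (F a) = Coalgebra.counit (R := k) a ^ p)
    (T : A ⊗[k] A →+ P ⊗[k] P) (hT : ∀ x y, T (x ⊗ₜ y) = F x ⊗ₜ F y)
    (hΔ : ∀ a, Coalgebra.comul (R := k) (F a) = T (Coalgebra.comul (R := k) a))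
    {f : WithConv (P →ₗ[k] k)} (hf : f ∈ derS k P) :
    ∃ g ∈ derS k A, ∀ (n : ℕ) (a : A), (g ^ n) a ^ p = (f ^ n) (F a) := by
  choose rt hrt using fun r : k => IsAlgClosed.exists_pow_nat_eq r hp.out.pos
  have huniq : ∀ x y : k, x ^ p = y ^ p → x = y := fun x y h => frobenius_inj k p h
  let g : A →ₗ[k] k :=
    { toFun := fun a => rt (f (F a))
      map_add' := fun a b => huniq _ _ (by
        rw [add_pow_char, hrt, hrt, hrt, map_add]; exact map_add f.ofConv _ _)
      map_smul' := fun r a => huniq _ _ (by
        rw [RingHom.id_apply, smul_eq_mul, mul_pow, hrt, hrt, hF]; exact map_smul f.ofConv _ _) }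
  have hg : ∀ a, g a ^ p = f (F a) := fun a => hrt _
  refine ⟨toConv g, fun a b => huniq _ _ ?_, fun n => ?_⟩
  · change g (a * b) ^ p = (g a * _ + _ * g b) ^ p
    rw [add_pow_char, mul_pow, mul_pow, hg, hg, hg, ← hε, ← hε, map_mul]
    exact hf _ _
  · induction n with
    | zero =>
      intro a
      simp [LinearMap.convOne_def, hε]
    | succ n ih =>
      intro a
      rw [pow_succ, pow_succ, LinearMap.convMul_apply, LinearMap.convMul_apply, hΔ]
      generalize Coalgebra.comul (R := k) a = z
      induction z using TensorProduct.induction_on with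
      | zero => simp [zero_pow hp.out.ne_zero]
      | tmul x y =>
        rw [hT]
        simp only [TensorProduct.map_tmul, LinearMap.mul'_apply, mul_pow, ih, WithConv.ofConv_toConv, hg]
      | add x y hx hy => simp only [map_add, add_pow_char, hx, hy]

/-- **descent**: nilpotent `p`-operation and unipotent high Frobenius image imply unipotence -/
theorem isUnipotent_of_frobenius : ∀ (r : ℕ) (A : Type u) [CommRing A] [HopfAlgebra k A] [Algebra.FiniteType k A],
    (∀ f ∈ derS k A, ∃ n : ℕ, f ^ p ^ n = 0) → (∀ a : A, ∃ m, a ^ p ^ r ∈ fixSeries k A A m) →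
    HopfRep.IsUnipotent k A
  | 0, A, _, _, _, _, h => isUnipotent_of_exhaustive fun a => by simpa using h a
  | r + 1, A, _, _, _, hnil, h => by
    have hB := isHopfSubalgebra_powSub (k := k) (A := A) p
    letI := Groth.Sga3.SubHopfStruct.hopfAlgebra hB
    haveI := finiteType_powSub (k := k) (A := A) (p := p)
    let ι := Groth.Sga3.SubHopfStruct.incl hB
    have hι : Function.Injective ι := Groth.Sga3.SubHopfStruct.incl_injective hB
    haveI : Nontrivial A := (Bialgebra.counitAlgHom k A).toRingHom.domain_nontrivial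
    haveI : CharP A p := charP_of_injective_algebraMap (algebraMap k A).injective p
    let F : A →+* powSub k A p := (frobenius A p).codRestrict _ fun a => pow_mem_powSub p a
    have hFs : ∀ (s : k) (a : A), F (s • a) = s ^ p • F a := fun s a => Subtype.ext (smul_pow s a p)
    let T : A ⊗[k] A →+ (powSub k A p) ⊗[k] (powSub k A p) :=
      TensorProduct.liftAddHom
        { toFun := fun x =>
            { toFun := fun y => F x ⊗ₜ[k] F y
              map_zero' := by simp
              map_add' := fun y y' => by rw [map_add, TensorProduct.tmul_add] }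
          map_zero' := by ext; simp
          map_add' := fun x x' => by ext; simp [TensorProduct.add_tmul] }
        fun s x y => by simp [hFs, TensorProduct.smul_tmul]
    have hΔ : ∀ a, Coalgebra.comul (R := k) (F a) = T (Coalgebra.comul (R := k) a) := by
      intro a
      haveI := nontrivial_tensor (k := k) (A := A)
      haveI : CharP (A ⊗[k] A) p := charP_of_injective_algebraMap (algebraMap k _).injective p
      apply Groth.Sga3.SubHopfStruct.jj_injective
      refine (Groth.Sga3.SubHopfStruct.jj_comulB hB (F a)).trans ?_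
      change Coalgebra.comul (R := k) (a ^ p) = _
      rw [Bialgebra.comul_pow]
      generalize Coalgebra.comul (R := k) a = z
      induction z using TensorProduct.induction_on with
      | zero => simp [zero_pow hp.out.ne_zero]
      | tmul x y => rw [Algebra.TensorProduct.tmul_pow]; rfl
      | add x y hx hy => simp only [add_pow_char, map_add, hx, hy]
    have hU : HopfRep.IsUnipotent k (powSub k A p) := by
      refine isUnipotent_of_frobenius r (powSub k A p) (fun f hf => ?_) fun b => ?_
      · obtain ⟨g, hg, hpow⟩ := exists_frob_pullback F hFs (fun a => by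
          change Bialgebra.counitAlgHom k A (a ^ p) = _
          rw [map_pow]; rfl) T (fun x y => rfl) hΔ hf
        obtain ⟨n, hn⟩ := hnil g hg
        refine ⟨n, WithConv.ofConv_injective (LinearMap.ext fun b => ?_)⟩
        obtain ⟨a, ha⟩ := b.2
        have := hpow (p ^ n) a
        rw [hn, show F a = b from Subtype.ext ha] at this
        exact this.symm.trans (zero_pow hp.out.ne_zero)
      · obtain ⟨a, ha⟩ := b.2
        obtain ⟨m, hm⟩ := h a
        refine ⟨m, mem_fixSeries_of_map ι hι m _ ?_⟩
        rw [map_pow, show ι b = a ^ p from ha.symm, ← pow_mul, ← pow_succ']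
        exact hm
    refine isUnipotent_of_pow hnil fun a => ?_
    obtain ⟨m, hm⟩ := exists_mem_fixSeries hU (⟨a ^ p, pow_mem_powSub p a⟩ : powSub k A p)
    exact ⟨m, map_mem_fixSeries ι m _ hm⟩

end Perfect

section Reduced

variable (p : ℕ) [hp : Fact p.Prime] [CharP k p]

/-- if the quotient by nilpotents is unipotent, high powers are exhausted by the fixed series -/
theorem exists_pow_exhaustive [Algebra.FiniteType k A] {B : Type u} [CommRing B] [Bialgebra k B]
    (q : A →ₐc[k] B) (hq : Function.Surjective q) (hker : ∀ a, q a = 0 → IsNilpotent a)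
    (hB : ∀ b : B, ∃ m, b ∈ fixSeries k B B m) :
    ∃ r : ℕ, ∀ a : A, ∃ m, a ^ p ^ r ∈ fixSeries k A A m := by
  haveI : IsNoetherianRing A := Algebra.FiniteType.isNoetherianRing k A
  haveI : Nontrivial A := (Bialgebra.counitAlgHom k A).toRingHom.domain_nontrivial
  haveI : CharP A p := charP_of_injective_algebraMap (algebraMap k A).injective p
  haveI := nontrivial_tensor (k := k) (A := A)
  haveI : CharP (A ⊗[k] A) p := charP_of_injective_algebraMap (algebraMap k _).injective p
  obtain ⟨N, hN⟩ := IsNoetherianRing.isNilpotent_nilradical A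
  let P := p ^ N
  have hP : ∀ a : A, q a = 0 → a ^ P = 0 := fun a ha => by
    have h1 : a ^ N = 0 := (Submodule.mem_bot A).1 (hN.le (Ideal.pow_mem_pow (hker a ha) N))
    exact pow_eq_zero_of_le (Nat.lt_pow_self hp.out.one_lt).le h1
  let qq := Algebra.TensorProduct.map (q : A →ₐ[k] B) (q : A →ₐ[k] B)
  have hqq : ∀ z, qq z = 0 → z ^ P = 0 := by
    intro z hz
    have hz' : z ∈ RingHom.ker qq := hz
    rw [Algebra.TensorProduct.map_ker _ _ hq hq] at hz'
    obtain ⟨x, hx, y, hy, rfl⟩ := Submodule.mem_sup.1 hz'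
    have hx0 : x ^ P = 0 := by
      refine Submodule.span_induction (p := fun x _ => x ^ P = 0) ?_ (zero_pow (pow_ne_zero _ hp.out.ne_zero))
        (fun a b _ _ ha hb => by rw [add_pow_char_pow, ha, hb, add_zero])
        (fun c a _ ha => by rw [smul_eq_mul, mul_pow, ha, mul_zero]) hx
      rintro _ ⟨a, ha, rfl⟩
      rw [← map_pow, hP a ha, map_zero]
    have hy0 : y ^ P = 0 := by
      refine Submodule.span_induction (p := fun x _ => x ^ P = 0) ?_ (zero_pow (pow_ne_zero _ hp.out.ne_zero))
        (fun a b _ _ ha hb => by rw [add_pow_char_pow, ha, hb, add_zero])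
        (fun c a _ ha => by rw [smul_eq_mul, mul_pow, ha, mul_zero]) hy
      rintro _ ⟨a, ha, rfl⟩
      rw [← map_pow, hP a ha, map_zero]
    rw [add_pow_char_pow, hx0, hy0, add_zero]
  have key : ∀ (n : ℕ) (a : A), q a ∈ fixSeries k B B n → a ^ P ∈ fixSeries k A A n := by
    intro n
    induction n with
    | zero =>
      intro a ha
      rw [hP a ((Submodule.mem_bot k).1 ha)]
      exact Submodule.zero_mem _
    | succ n ih =>
      intro a ha
      obtain ⟨y, hy⟩ := mem_fixSeries_succ_iff_coact.1 ha
      obtain ⟨x, hx, hxq⟩ : ∃ x : A ⊗[k] A, x ^ P ∈ LinearMap.range ((fixSeries k A A n).subtype.rTensor A) ∧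
          qq x = (fixSeries k B B n).subtype.rTensor B y := by
        clear hy
        induction y using TensorProduct.induction_on with
        | zero => exact ⟨0, by rw [zero_pow (pow_ne_zero _ hp.out.ne_zero)]; exact zero_mem _, by simp⟩
        | tmul b c =>
          obtain ⟨b', hb'⟩ := hq (b : B)
          obtain ⟨c', hc'⟩ := hq c
          refine ⟨b' ⊗ₜ c', ⟨⟨b' ^ P, ih b' (hb'.symm ▸ b.2)⟩ ⊗ₜ (c' ^ P), ?_⟩, ?_⟩
          · rw [Algebra.TensorProduct.tmul_pow]; rfl
          · simp [qq, hb', hc']
        | add b c hb hc =>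
          obtain ⟨x1, h1, e1⟩ := hb
          obtain ⟨x2, h2, e2⟩ := hc
          exact ⟨x1 + x2, by rw [add_pow_char_pow]; exact add_mem h1 h2, by rw [map_add, map_add, e1, e2]⟩
      refine mem_fixSeries_succ_iff_coact.2 ?_
      change Coalgebra.comul (R := k) (a ^ P) - (a ^ P) ⊗ₜ[k] (1 : A) ∈ _
      have e : Coalgebra.comul (R := k) a ^ P - (a ⊗ₜ[k] (1 : A)) ^ P = x ^ P := by
        rw [← sub_pow_char_pow, ← sub_eq_zero, ← sub_pow_char_pow]
        refine hqq _ ?_
        rw [map_sub, map_sub, hxq, hy, sub_eq_zero]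
        congr 1
        · exact CoalgHomClass.map_comp_comul_apply q a
        · simp [qq]
      rw [Bialgebra.comul_pow, show (a ^ P) ⊗ₜ[k] (1 : A) = (a ⊗ₜ[k] (1 : A)) ^ P by
        rw [Algebra.TensorProduct.tmul_pow, one_pow], e]
      exact hx
  refine ⟨N, fun a => ?_⟩
  obtain ⟨m, hm⟩ := hB (q a)
  exact ⟨m, key m a hm⟩

end Reduced

end Groth.Misc1.Unip
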