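import Groth.Agent.Misc1.Unip.Quotient
import Groth.Agent.Misc1.Unip.FG
import Groth.Agent.PropsBasic.HopfRed
import Groth.Agent.S3265
import Groth.Prelude.Def_LieHopf

/-!
# Unipotent groups in characteristic zero are determined by their Lie algebras
-/

set_option autoImplicit false
set_option linter.unusedSectionVars false

universe u w

open TensorProduct WithConv Groth.ComodLib

noncomputable section

namespace Groth.Misc1.Unip

variable {k : Type u} [Field k] [CharZero k] {A : Type u} [CommRing A] [HopfAlgebra k A]
  [Algebra.FiniteType k A]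

omit [CharZero k] [Algebra.FiniteType k A] in
theorem dlin_augL (D : LieHopf.Lie k A) : augL (LieHopf.dlin D) = LieHopf.dlin D :=
  augL_of_one (LieHopf.dlin_one D)

/-- a primitive element killed by the Lie algebra vanishes -/
theorem primitive_eq_zero_of_lie (hU : HopfRep.IsUnipotent k A) {x : A}
    (hx : Coalgebra.comul (R := k) x = x ⊗ₜ[k] (1 : A) + (1 : A) ⊗ₜ[k] x)
    (h : ∀ D : LieHopf.Lie k A, LieHopf.dlin D x = 0) : x = 0 := by
  have hI := isHopfIdeal_span_primitive (k := k) hx
  have hconn := fun e he => Groth.Agent.S3265.result k A hU e he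
  have hred : IsReduced (A ⧸ Ideal.span {x}) := isReduced_charZero k (A ⧸ Ideal.span {x})
  have : Algebra.FormallySmooth k (A ⧸ Ideal.span {x}) := Groth.HopfDim.formallySmooth_of_isReduced k _
  have hbot := Groth.HopfDim.eq_bot_of_lie k A hconn (Ideal.span {x}) fun D a ha => by
    obtain ⟨b, rfl⟩ := Ideal.mem_span_singleton'.1 ha
    change LieHopf.dlin D (b * x) = (0 : k)
    rw [LieHopf.dlin_mul, h D, show Bialgebra.counitAlgHom k A x = 0 from counit_primitive hx]
    ring
  exact (Submodule.mem_bot A).1 (hbot ▸ Ideal.mem_span_singleton_self x)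

/-- functions killed by all invariant derivations are constant -/
theorem eq_const_of_op_lie (hU : HopfRep.IsUnipotent k A) : ∀ (n : ℕ) (a : A), a ∈ fixSeries k A A n →
    (∀ D : LieHopf.Lie k A, op (LieHopf.dlin D) a = 0) → a ∈ Submodule.span k {(1 : A)} := by
  intro n
  induction n with
  | zero => intro a ha _; rw [(Submodule.mem_bot k).1 ha]; exact Submodule.zero_mem _
  | succ n ih =>
    intro a ha h
    set ε := Coalgebra.counit (R := k) a with hε
    have hcf : ∀ α : A →ₗ[k] k, cf (A := A) (augL α) a ∈ Submodule.span k {(1 : A)} := by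
      intro α
      refine ih _ (lslice_comul_mem (augL α) n (n + 1) a ha fun b hb => ?_) fun D => ?_
      · rw [Nat.add_sub_cancel_left, fixSeries_regular_one] at hb
        obtain ⟨c, rfl⟩ := Submodule.mem_span_singleton.1 hb
        rw [map_smul, augL_one, smul_zero]
      · change op (LieHopf.dlin D) (cf (A := A) (augL α) a) = 0
        rw [← isComodHom_op (isComodHom_cf (augL α)), h D, map_zero]
    set x := a - ε • (1 : A) with hx
    have hx1 : Coalgebra.comul (R := k) x = x ⊗ₜ[k] (1 : A) + (1 : A) ⊗ₜ[k] x := by
      have hmem : Coalgebra.comul (R := k) a - (1 : A) ⊗ₜ[k] a ∈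
          LinearMap.range ((Submodule.span k {(1 : A)}).subtype.lTensor A) := by
        refine (mem_range_lTensor_iff _ _).2 fun α => ?_
        have e : lslice α (Coalgebra.comul (R := k) a - (1 : A) ⊗ₜ[k] a) = cf (A := A) (augL α) a := by
          rw [map_sub, lslice_tmul, cf_apply]
          change _ = lslice (augL α) (Coalgebra.comul (R := k) a)
          have e1 : ∀ z : A ⊗[k] A, lslice (augL α) z =
              lslice α z - α 1 • lslice (Coalgebra.counit (R := k) (A := A)) z := by
            intro z
            induction z using TensorProduct.induction_on with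
            | zero => simp
            | tmul p q => simp [augL, sub_smul, smul_smul]
            | add p q hp hq => simp only [map_add, hp, hq, smul_add]; abel
          rw [e1, show lslice (Coalgebra.counit (R := k) (A := A)) (Coalgebra.comul (R := k) a) = a by
            change TensorProduct.lid k A ((Coalgebra.counit (R := k) (A := A)).rTensor A (Coalgebra.comul (R := k) a)) = a
            rw [Coalgebra.rTensor_counit_comul, TensorProduct.lid_tmul, one_smul]]
        rw [e]
        exact hcf α
      obtain ⟨z, hz⟩ := hmem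
      obtain ⟨y, hy⟩ : ∃ y : A, (Submodule.span k {(1 : A)}).subtype.lTensor A z = y ⊗ₜ[k] (1 : A) := by
        clear hz
        induction z using TensorProduct.induction_on with
        | zero => exact ⟨0, by simp⟩
        | tmul p q =>
          obtain ⟨c, hc⟩ := Submodule.mem_span_singleton.1 q.2
          exact ⟨c • p, by rw [LinearMap.lTensor_tmul, Submodule.subtype_apply, ← hc, TensorProduct.smul_tmul]⟩
        | add p q hp hq =>
          obtain ⟨y1, h1⟩ := hp
          obtain ⟨y2, h2⟩ := hq
          exact ⟨y1 + y2, by rw [map_add, h1, h2, TensorProduct.add_tmul]⟩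
      rw [hy] at hz
      have hy' : y = x := by
        have h2 := congrArg (fun t => TensorProduct.rid k A ((Coalgebra.counit (R := k) (A := A)).lTensor A t)) hz
        simp only [map_sub, Coalgebra.lTensor_counit_comul, LinearMap.lTensor_tmul, TensorProduct.rid_tmul,
          Bialgebra.counit_one, one_smul] at h2
        rw [h2, hx, hε]
      rw [hx, map_sub, map_smul, Bialgebra.comul_one, Algebra.TensorProduct.one_def,
        show Coalgebra.comul (R := k) a = y ⊗ₜ[k] (1 : A) + (1 : A) ⊗ₜ[k] a from sub_eq_iff_eq_add.1 hz.symm,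
        hy', hx, TensorProduct.tmul_sub, TensorProduct.tmul_smul]
      abel
    have hx0 : x = 0 := by
      refine primitive_eq_zero_of_lie hU hx1 fun D => ?_
      have h1 : op (LieHopf.dlin D) x = 0 := by
        rw [hx, map_sub, map_smul, h D, op_apply]
        change 0 - ε • slice (LieHopf.dlin D) (Coalgebra.comul (R := k) (1 : A)) = 0
        rw [Bialgebra.comul_one, Algebra.TensorProduct.one_def, slice_tmul, LieHopf.dlin_one, zero_smul,
          smul_zero, sub_zero]
      rw [op_apply] at h1
      change slice (LieHopf.dlin D) (Coalgebra.comul (R := k) x) = 0 at h1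
      rw [hx1, map_add, slice_tmul, slice_tmul, LieHopf.dlin_one, zero_smul, zero_add] at h1
      have h2 := congrArg (Coalgebra.counit (R := k)) h1
      simpa using h2
    rw [sub_eq_zero.1 hx0]
    exact Submodule.smul_mem _ _ (Submodule.mem_span_singleton_self _)

/-- a subspace of the regular comodule stable under the Lie algebra and killed by the counit is zero -/
theorem eq_zero_of_lie_stable (hU : HopfRep.IsUnipotent k A) {W : Submodule k A}
    (hW : ∀ D : LieHopf.Lie k A, ∀ a ∈ W, op (LieHopf.dlin D) a ∈ W)
    (hε : ∀ a ∈ W, Coalgebra.counit (R := k) a = 0) : ∀ a ∈ W, a = 0 := by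
  have key : ∀ n, ∀ a ∈ W, a ∈ fixSeries k A A n → a = 0 := by
    intro n
    induction n with
    | zero => exact fun a _ ha => (Submodule.mem_bot k).1 ha
    | succ n ih =>
      intro a haW ha
      have h : ∀ D : LieHopf.Lie k A, op (LieHopf.dlin D) a = 0 := fun D =>
        ih _ (hW D a haW) (by
          have := mem_fixSeries_succ.1 ha (LieHopf.dlin D)
          rwa [dlin_augL] at this)
      obtain ⟨c, rfl⟩ := Submodule.mem_span_singleton.1 (eq_const_of_op_lie hU (n + 1) a ha h)
      have := hε _ haW
      rw [map_smul, Bialgebra.counit_one, smul_eq_mul, mul_one] at this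
      rw [this, zero_smul]
  intro a ha
  obtain ⟨n, hn⟩ := exists_mem_fixSeries hU a
  exact key n a ha hn

/-- in a comodule, Lie-stable subspaces are subcomodules -/
theorem isSubcomod_of_lie {R : Type w} [AddCommGroup R] [Module k R] [HopfRep.Comod k A R]
    (hU : HopfRep.IsUnipotent k A) (V : Submodule k R)
    (h : ∀ D : LieHopf.Lie k A, ∀ v ∈ V, op (LieHopf.dlin D) v ∈ V) :
    HopfRep.IsSubcomod (k := k) (A := A) V := by
  refine (isSubcomod_iff V).2 fun φ v hv => ?_
  rw [← Submodule.Quotient.mk_eq_zero]
  refine (Module.forall_dual_apply_eq_zero_iff k _).1 fun ψ => ?_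
  let α : R →ₗ[k] k := ψ ∘ₗ V.mkQ
  have hzero := eq_zero_of_lie_stable hU (W := V.map (cf (A := A) α))
    (fun D a ha => by
      obtain ⟨u, hu, rfl⟩ := ha
      exact ⟨op (LieHopf.dlin D) u, h D u hu, isComodHom_op (isComodHom_cf α) _ u⟩)
    (fun a ha => by
      obtain ⟨u, hu, rfl⟩ := ha
      rw [apply_cf, op_counit]
      change ψ (V.mkQ u) = 0
      rw [Submodule.mkQ_apply, (Submodule.Quotient.mk_eq_zero V).2 hu, map_zero])
    _ ⟨v, hv, rfl⟩
  change α (op φ v) = 0
  rw [← apply_cf, hzero, map_zero]

theorem lTensor_lie_eq {R : Type w} [AddCommGroup R] [Module k R] (D : LieHopf.Lie k A) (z : R ⊗[k] A) :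
    LinearMap.lTensor R (D.toLinearMap.restrictScalars k) z =
      (slice (LieHopf.dlin D) z) ⊗ₜ[k] (show LieHopf.K k A from (1 : k)) := by
  induction z using TensorProduct.induction_on with
  | zero => simp
  | tmul r a =>
    rw [LinearMap.lTensor_tmul, slice_tmul, TensorProduct.smul_tmul]
    congr 1
    exact (mul_one (LieHopf.dlin D a : k)).symm
  | add p q hp hq => rw [map_add, map_add, hp, hq, TensorProduct.add_tmul]

theorem ridK_injective {R : Type w} [AddCommGroup R] [Module k R] {a b : R}
    (h : a ⊗ₜ[k] (show LieHopf.K k A from (1 : k)) = b ⊗ₜ[k] (show LieHopf.K k A from (1 : k))) : a = b := by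
  have h2 : (TensorProduct.rid k R) (a ⊗ₜ[k] (1 : k)) = (TensorProduct.rid k R) (b ⊗ₜ[k] (1 : k)) :=
    congrArg (TensorProduct.rid k R) h
  simpa using h2

end Groth.Misc1.Unip
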