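import Groth.Agent.S2968
import Groth.Agent.SGA7.QLinear
import Groth.Agent.Hopf.Unipotent
import Groth.Agent.Misc1.Unip.MultType
import Groth.Agent.Misc1.Unip.Primitive
import Groth.Prelude.Def_LieHopf
import Mathlib.Algebra.Lie.Engel

/-!
# The Lie algebra in characteristic `p`: nilpotence of the `p`-operation and subgroups isomorphic to `μ_p`
-/

set_option autoImplicit false
set_option linter.unusedSectionVars false

universe u v w

open TensorProduct WithConv Groth.ComodLib Polynomial
open Groth.Agent.S2968 (pairF pullMul pairF_apply pullMul_apply pairF_mul pairF_pow pairF_one pullMul_mul pullMul_pow)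

noncomputable section

namespace Groth.Misc1.Unip

variable (k : Type u) [Field k] (A : Type u) [CommRing A] [HopfAlgebra k A]

/-- the `ε`-derivations, as elements of the convolution algebra -/
def derS : Submodule k (WithConv (A →ₗ[k] k)) where
  carrier := {f | ∀ a b : A, f (a * b) = f a * Coalgebra.counit (R := k) b + Coalgebra.counit (R := k) a * f b}
  zero_mem' a b := by simp
  add_mem' {f g} hf hg a b := by
    change f (a * b) + g (a * b) = (f a + g a) * _ + _ * (f b + g b)
    rw [hf a b, hg a b]; ring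
  smul_mem' c f hf a b := by
    change c * f (a * b) = (c * f a) * _ + _ * (c * f b)
    rw [hf a b]; ring

variable {k A}

theorem mem_derS {f : WithConv (A →ₗ[k] k)} : f ∈ derS k A ↔ ∀ a b : A, f (a * b) =
    f a * Coalgebra.counit (R := k) b + Coalgebra.counit (R := k) a * f b := Iff.rfl

theorem derS_one {f : WithConv (A →ₗ[k] k)} (hf : f ∈ derS k A) : f 1 = 0 := by
  simpa using hf 1 1

theorem dlin_mem_derS (D : LieHopf.Lie k A) : toConv (LieHopf.dlin D) ∈ derS k A := fun a b => by
  change LieHopf.dlin D (a * b) = LieHopf.dlin D a * _ + _ * LieHopf.dlin D b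
  rw [LieHopf.dlin_mul, Bialgebra.counitAlgHom_apply, Bialgebra.counitAlgHom_apply]; ring

theorem exists_lie_of_mem {f : WithConv (A →ₗ[k] k)} (hf : f ∈ derS k A) :
    ∃ D : LieHopf.Lie k A, toConv (LieHopf.dlin D) = f := by
  let g : A →ₗ[k] LieHopf.K k A :=
    { toFun := fun a => (f a : k)
      map_add' := fun a b => map_add f.ofConv a b
      map_smul' := fun c a => map_smul f.ofConv c a }
  refine ⟨Derivation.mk' g fun a b => ?_, rfl⟩
  rw [LieHopf.smul_def, LieHopf.smul_def]
  change f (a * b) = Bialgebra.counitAlgHom k A a * f b + Bialgebra.counitAlgHom k A b * f a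
  rw [hf a b, Bialgebra.counitAlgHom_apply, Bialgebra.counitAlgHom_apply]; ring

theorem derS_ext {s : Set A} (hs : Algebra.adjoin k s = ⊤) {f : WithConv (A →ₗ[k] k)} (hf : f ∈ derS k A)
    (h : ∀ x ∈ s, f x = 0) : f = 0 := by
  refine WithConv.ofConv_injective (LinearMap.ext fun a => ?_)
  change f a = 0
  have ha : a ∈ Algebra.adjoin k s := hs ▸ Algebra.mem_top
  induction ha using Algebra.adjoin_induction with
  | mem x hx => exact h x hx
  | algebraMap r =>
    rw [Algebra.algebraMap_eq_smul_one]
    exact (map_smul f.ofConv r 1).trans (by rw [show f.ofConv 1 = 0 from derS_one hf, smul_zero])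
  | add x y _ _ hx hy => exact (map_add f.ofConv x y).trans (by rw [hx, hy, add_zero])
  | mul x y _ _ hx hy => rw [hf x y, hx, hy, zero_mul, mul_zero, add_zero]

/-- restriction of the derivations to finitely many elements -/
def derEval (s : Finset A) : derS k A →ₗ[k] (s → k) where
  toFun f x := (f : WithConv (A →ₗ[k] k)) x
  map_add' _ _ := rfl
  map_smul' _ _ := rfl

instance finite_derS [Algebra.FiniteType k A] : Module.Finite k (derS k A) := by
  obtain ⟨s, hs⟩ := (inferInstance : Algebra.FiniteType k A).out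
  refine Module.Finite.of_injective (derEval s) fun f g hfg => sub_eq_zero.1 (Subtype.ext ?_)
  exact derS_ext hs (f - g).2 fun x hx => sub_eq_zero.2 (congrFun hfg ⟨x, hx⟩)

theorem pullMul_of_mem {f : WithConv (A →ₗ[k] k)} (hf : f ∈ derS k A) :
    pullMul f = pairF f 1 + pairF 1 f := by
  apply WithConv.ofConv_injective
  ext a b
  simpa [pullMul, pairF, LinearMap.convOne_def] using hf a b

theorem mem_of_pullMul {f : WithConv (A →ₗ[k] k)} (hf : pullMul f = pairF f 1 + pairF 1 f) : f ∈ derS k A := by
  intro a b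
  have := congrArg (fun F : WithConv (A ⊗[k] A →ₗ[k] k) => F (a ⊗ₜ[k] b)) hf
  simpa [pullMul, pairF, LinearMap.convOne_def] using this

theorem commutator_mem_derS {f g : WithConv (A →ₗ[k] k)} (hf : f ∈ derS k A) (hg : g ∈ derS k A) :
    f * g - g * f ∈ derS k A := by
  have hsub : ∀ x y : WithConv (A →ₗ[k] k), pullMul (x - y) = pullMul x - pullMul y := fun x y =>
    WithConv.ofConv_injective (LinearMap.sub_comp _ _ _)
  have hl : ∀ x y z : WithConv (A →ₗ[k] k), pairF (x - y) z = pairF x z - pairF y z := fun x y z => by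
    apply WithConv.ofConv_injective
    ext a b
    simp [pairF, sub_mul]
  have hr : ∀ x y z : WithConv (A →ₗ[k] k), pairF z (x - y) = pairF z x - pairF z y := fun x y z => by
    apply WithConv.ofConv_injective
    ext a b
    simp [pairF, mul_sub]
  refine mem_of_pullMul ?_
  rw [hsub, pullMul_mul, pullMul_mul, pullMul_of_mem hf, pullMul_of_mem hg, hl, hr]
  simp only [add_mul, mul_add, pairF_mul, one_mul, mul_one]
  abel

theorem pow_mem_derS (p : ℕ) [Fact p.Prime] [CharP k p] {f : WithConv (A →ₗ[k] k)} (hf : f ∈ derS k A) (n : ℕ) :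
    f ^ p ^ n ∈ derS k A :=
  Groth.Agent.S2968.leibniz_pow p f hf n

/-- Engel: if the `p`-operation is nilpotent, the Lie algebra kills a nonzero vector of every nonzero
finite dimensional comodule -/
theorem exists_lie_fixed (p : ℕ) [Fact p.Prime]
    (hnil : ∀ f ∈ derS k A, ∃ n : ℕ, f ^ p ^ n = 0) {V : Type u} [AddCommGroup V] [Module k V]
    [HopfRep.Comod k A V] [Module.Finite k V] [Nontrivial V] :
    ∃ v : V, v ≠ 0 ∧ ∀ f ∈ derS k A, op f.ofConv v = 0 := by
  letI : LieRing (Module.End k V) := LieRing.ofAssociativeRing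
  let g : LieSubalgebra k (Module.End k V) :=
    { (derS k A).map (rho k A V).toLinearMap with
      lie_mem' := by
        rintro _ _ ⟨x, hx, rfl⟩ ⟨y, hy, rfl⟩
        refine ⟨x * y - y * x, commutator_mem_derS hx hy, ?_⟩
        change rho k A V (x * y - y * x) = _
        rw [map_sub, map_mul, map_mul, LieRing.of_associative_ring_bracket]
        rfl }
  have : LieModule.IsNilpotent g V := by
    refine (LieModule.isNilpotent_iff_forall (R := k)).2 fun x => ?_
    obtain ⟨f, hf, hfx⟩ := x.2
    obtain ⟨n, hn⟩ := hnil f hf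
    refine ⟨p ^ n, ?_⟩
    have : LieModule.toEnd k g V x = rho k A V f := LinearMap.ext fun v =>
      (LinearMap.congr_fun hfx v).symm
    rw [this, ← map_pow, hn, map_zero]
  obtain ⟨⟨v, hv⟩, hv0⟩ := @exists_ne _ (LieModule.nontrivial_max_triv_of_isNilpotent k g V)
    (0 : LieModule.maxTrivSubmodule k g V)
  refine ⟨v, fun h => hv0 (Subtype.ext h), fun f hf => ?_⟩
  exact hv ⟨rho k A V f, f, hf, rfl⟩

theorem nilpotent_of_isUnipotent (p : ℕ) [Fact p.Prime] [CharP k p] [Algebra.FiniteType k A]
    (hU : HopfRep.IsUnipotent k A) : ∀ f ∈ derS k A, ∃ n : ℕ, f ^ p ^ n = 0 := fun f hf => by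
  obtain ⟨D, rfl⟩ := exists_lie_of_mem hf
  obtain ⟨n, -, hn⟩ := Groth.Agent.S2968.result p hU D
  refine ⟨n, WithConv.ofConv_injective ?_⟩
  rw [← Groth.Agent.S2968.convPow_eq]
  exact hn

theorem exists_qlin_fixed [IsAlgClosed k] {V : Type v} [AddCommGroup V] [Module k V] [FiniteDimensional k V]
    (p : ℕ) [hp : Fact p.Prime] [CharP k p] {φ : V →+ V} (hφ : Groth.SGA7.QLin.IsQLin (k := k) p φ) {x : V}
    (hx : ∀ n : ℕ, φ^[n] x ≠ 0) : ∃ w : V, w ≠ 0 ∧ φ w = w := by
  obtain ⟨W, N, hW, -, hNW, hlin, hss⟩ := Groth.SGA7.QLin.exists_ss_restrict (k := k) hφ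
  have hinj := Groth.SGA7.QLin.injective_of_span hlin hss
  have hv : (⟨φ^[N] x, hNW x⟩ : W) ≠ 0 := fun h => hx N (congrArg Subtype.val h)
  obtain ⟨w, hw0, hw⟩ := Groth.SGA7.QLin.exists_fixed_ne_zero hp.out.one_lt (CharP.cast_eq_zero k p) hlin hinj hv
  exact ⟨w, fun h => hw0 (Subtype.ext h), congrArg Subtype.val hw⟩

/-- a non-nilpotent element of the Lie algebra yields a nonzero element fixed by the `p`-operation -/
theorem exists_pow_eq_self [IsAlgClosed k] [Algebra.FiniteType k A] (p : ℕ) [hp : Fact p.Prime] [CharP k p]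
    {f : WithConv (A →ₗ[k] k)} (hf : f ∈ derS k A) (hnot : ∀ n : ℕ, f ^ p ^ n ≠ 0) :
    ∃ g ∈ derS k A, g ≠ 0 ∧ g ^ p = g := by
  let S : Submodule k (WithConv (A →ₗ[k] k)) := derS k A ⊓ (Polynomial.aeval (R := k) f).range.toSubmodule
  haveI : Module.Finite k S := Submodule.finiteDimensional_of_le inf_le_left
  have hpow : ∀ x ∈ S, x ^ p ∈ S := by
    rintro x ⟨hx, q, rfl⟩
    exact ⟨by simpa using pow_mem_derS p hx 1, q ^ p, map_pow _ _ _⟩
  have hadd : ∀ x ∈ S, ∀ y ∈ S, (x + y) ^ p = x ^ p + y ^ p := by
    rintro _ ⟨-, q, rfl⟩ _ ⟨-, r, rfl⟩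
    change (Polynomial.aeval f q + Polynomial.aeval f r) ^ p = Polynomial.aeval f q ^ p + Polynomial.aeval f r ^ p
    rw [← map_add, ← map_pow, ← map_pow, ← map_pow, ← map_add, add_pow_char]
  let φ : S →+ S := AddMonoidHom.mk' (fun x => ⟨(x : WithConv (A →ₗ[k] k)) ^ p, hpow _ x.2⟩) fun x y =>
    Subtype.ext (hadd _ x.2 _ y.2)
  have hφ : Groth.SGA7.QLin.IsQLin (k := k) p φ := fun c x => Subtype.ext (smul_pow c (x : WithConv (A →ₗ[k] k)) p)
  let f₀ : S := ⟨f, hf, X, Polynomial.aeval_X f⟩
  have hit : ∀ n : ℕ, (φ^[n] f₀ : WithConv (A →ₗ[k] k)) = f ^ p ^ n := by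
    intro n
    induction n with
    | zero => simp [f₀]
    | succ n ih =>
      rw [Function.iterate_succ_apply']
      change (φ^[n] f₀ : WithConv (A →ₗ[k] k)) ^ p = _
      rw [ih, ← pow_mul, ← pow_succ]
  obtain ⟨w, hw0, hw⟩ := exists_qlin_fixed p hφ (x := f₀) fun n h => hnot n (by
    rw [← hit, h]
    rfl)
  exact ⟨(w : WithConv (A →ₗ[k] k)), w.2.1, fun h => hw0 (Subtype.ext h), congrArg Subtype.val hw⟩

section MuP

variable (k) (p : ℕ) [hp : Fact p.Prime] [CharP k p]

/-- the prime field inside `k` -/
def cst (i : ZMod p) : k := ZMod.castHom (dvd_refl p) k i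

/-- the interpolation polynomials on the prime field -/
def interp (i : ZMod p) : k[X] := 1 - (X - C (cst k p i)) ^ (p - 1)

theorem interp_eval (i j : ZMod p) : (interp k p i).eval (cst k p j) = if i = j then 1 else 0 := by
  simp only [interp, eval_sub, eval_one, eval_pow, eval_X, eval_C]
  rw [cst, cst, ← map_sub, ← map_pow]
  split_ifs with h
  · subst h
    rw [sub_self, zero_pow (Nat.sub_ne_zero_of_lt hp.out.one_lt), map_zero, sub_zero]
  · rw [ZMod.pow_card_sub_one_eq_one (sub_ne_zero.2 (Ne.symm h)), map_one, sub_self]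

variable {k p}

theorem aeval_eq_zero_of_eval {R : Type v} [Ring R] [Algebra k R] {g : R} (hg : g ^ p = g) {h : k[X]}
    (hh : ∀ i : ZMod p, h.eval (cst k p i) = 0) : aeval g h = 0 := by
  have hm : (X ^ p - X : k[X]).Monic := monic_X_pow_sub (by simpa using hp.out.one_lt)
  have hq : (X ^ p - X : k[X]).natDegree = p := by
    rw [natDegree_sub_eq_left_of_natDegree_lt] <;> simp [hp.out.one_lt]
  have hr : h %ₘ (X ^ p - X) = 0 := by
    refine Polynomial.eq_zero_of_natDegree_lt_card_of_eval_eq_zero _
      (f := cst k p) (ZMod.castHom (dvd_refl p) k).injective (fun i => ?_) ?_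
    · have := congrArg (eval (cst k p i)) (modByMonic_add_div h (X ^ p - X))
      rw [eval_add, eval_mul, eval_sub, eval_pow, eval_X, hh, cst, ← map_pow, ZMod.pow_card, sub_self, zero_mul,
        add_zero] at this
      exact this
    · rw [ZMod.card]
      exact (natDegree_modByMonic_lt h hm (fun h1 => by
        have := congrArg natDegree h1
        rw [hq, natDegree_one] at this
        exact hp.out.ne_zero this)).trans_le hq.le
  rw [← modByMonic_add_div h (X ^ p - X), hr, zero_add, map_mul, map_sub, map_pow, aeval_X, hg, sub_self, zero_mul]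

variable (k p) in
/-- the moments of an element of `k[ℤ/p]` -/
def mom (n : ℕ) : MonoidAlgebra k (Multiplicative (ZMod p)) →ₗ[k] k :=
  Finsupp.linearCombination k (fun x => cst k p (Multiplicative.toAdd x) ^ n) ∘ₗ
    (MonoidAlgebra.coeffLinearEquiv k).toLinearMap

theorem mom_single (n : ℕ) (x : Multiplicative (ZMod p)) (r : k) :
    mom k p n (MonoidAlgebra.single x r) = r * cst k p (Multiplicative.toAdd x) ^ n := by
  simp [mom]

theorem mom_ext {x y : MonoidAlgebra k (Multiplicative (ZMod p))} (h : ∀ n, mom k p n x = mom k p n y) : x = y := by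
  have key : ∀ z : MonoidAlgebra k (Multiplicative (ZMod p)), ∀ i, z.coeff i =
      (interp k p (Multiplicative.toAdd i)).sum fun n a => a * mom k p n z := by
    intro z i
    induction z using MonoidAlgebra.induction_linear with
    | zero => simp [Polynomial.sum]
    | add a b ha hb =>
      rw [show (a + b).coeff i = a.coeff i + b.coeff i by simp, ha, hb]
      simp [Polynomial.sum, mul_add, Finset.sum_add_distrib]
    | single a r =>
      have : ((interp k p (Multiplicative.toAdd i)).sum fun n c => c * mom k p n (MonoidAlgebra.single a r)) =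
          r * (interp k p (Multiplicative.toAdd i)).eval (cst k p (Multiplicative.toAdd a)) := by
        rw [eval_eq_sum, Polynomial.sum, Polynomial.sum, Finset.mul_sum]
        refine Finset.sum_congr rfl fun n _ => ?_
        rw [mom_single]; ring
      rw [this, interp_eval]
      simp [Finsupp.single_apply, eq_comm]
  refine MonoidAlgebra.coeff_injective (Finsupp.ext fun i => ?_)
  rw [key, key]
  simp only [h]

theorem mom_mul (n : ℕ) (x y : MonoidAlgebra k (Multiplicative (ZMod p))) :
    mom k p n (x * y) = ∑ m ∈ Finset.range (n + 1), mom k p m x * mom k p (n - m) y * (n.choose m : k) := by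
  induction x using MonoidAlgebra.induction_linear with
  | zero => simp
  | add a b ha hb => simp only [add_mul, map_add, ha, hb, Finset.sum_add_distrib]
  | single a r =>
    induction y using MonoidAlgebra.induction_linear with
    | zero => simp
    | add c d hc hd => simp only [mul_add, map_add, hc, hd, add_mul, mul_add, Finset.sum_add_distrib]
    | single b s =>
      rw [MonoidAlgebra.single_mul_single, mom_single]
      simp only [mom_single]
      rw [toAdd_mul, cst, map_add, add_pow, Finset.mul_sum]
      exact Finset.sum_congr rfl fun m _ => by rw [cst, cst]; ring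

theorem mom_comul (m n : ℕ) (x : MonoidAlgebra k (Multiplicative (ZMod p))) :
    LinearMap.mul' k k (TensorProduct.map (mom k p m) (mom k p n) (Coalgebra.comul (R := k) x)) =
      mom k p (m + n) x := by
  induction x using MonoidAlgebra.induction_linear with
  | zero => simp
  | add a b ha hb => simp only [map_add, ha, hb]
  | single a r =>
    simp [MonoidAlgebra.comul_single, mom_single, pow_add]
    ring

theorem mom_tensor_ext {z w : MonoidAlgebra k (Multiplicative (ZMod p)) ⊗[k] MonoidAlgebra k (Multiplicative (ZMod p))}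
    (h : ∀ m n, LinearMap.mul' k k (TensorProduct.map (mom k p m) (mom k p n) z) =
      LinearMap.mul' k k (TensorProduct.map (mom k p m) (mom k p n) w)) : z = w := by
  have e : ∀ (m n : ℕ) (z : MonoidAlgebra k (Multiplicative (ZMod p)) ⊗[k] MonoidAlgebra k (Multiplicative (ZMod p))),
      mom k p n (lslice (mom k p m) z) = LinearMap.mul' k k (TensorProduct.map (mom k p m) (mom k p n) z) := by
    intro m n z
    induction z using TensorProduct.induction_on with
    | zero => simp
    | tmul a b => simp
    | add a b ha hb => simp only [map_add, ha, hb]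
  refine ext_slice fun φ => mom_ext fun m => ?_
  rw [← apply_lslice, ← apply_lslice]
  exact congrArg φ (mom_ext fun n => by rw [e, e, h])

/-- an element of the Lie algebra fixed by the `p`-operation gives a subgroup isomorphic to `μ_p` -/
theorem exists_mu_of_pow_eq_self {g : WithConv (A →ₗ[k] k)} (hg : g ∈ derS k A) (hg0 : g ≠ 0) (hgp : g ^ p = g) :
    ∃ φ : A →ₐc[k] MonoidAlgebra k (Multiplicative (ZMod p)), Function.Surjective φ := by
  classical
  let e : Multiplicative (ZMod p) → WithConv (A →ₗ[k] k) := fun i => aeval g (interp k p (Multiplicative.toAdd i))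
  let φ : A →ₗ[k] MonoidAlgebra k (Multiplicative (ZMod p)) :=
    ∑ i, MonoidAlgebra.lsingle i ∘ₗ (e i).ofConv
  have hφ : ∀ a, φ a = ∑ i, MonoidAlgebra.single i (e i a) := fun a => by
    simp [φ, LinearMap.sum_apply]
  have hsum : ∀ n : ℕ, ∑ i, (cst k p (Multiplicative.toAdd i) ^ n) • e i = g ^ n := by
    intro n
    rw [← sub_eq_zero]
    have : (∑ i : Multiplicative (ZMod p), (cst k p (Multiplicative.toAdd i) ^ n) • e i) - g ^ n =
        aeval g ((∑ i : Multiplicative (ZMod p), C (cst k p (Multiplicative.toAdd i) ^ n) *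
          interp k p (Multiplicative.toAdd i)) - X ^ n) := by
      simp [e, Algebra.smul_def]
    rw [this]
    refine aeval_eq_zero_of_eval hgp fun j => ?_
    rw [eval_sub, eval_finsetSum, Finset.sum_eq_single (Multiplicative.ofAdd j)]
    · simp [interp_eval]
    · intro i _ hi
      rw [eval_mul, interp_eval, if_neg (fun h => hi (by rw [← h, ofAdd_toAdd])), mul_zero]
    · simp
  have hmom : ∀ n a, mom k p n (φ a) = (g ^ n) a := by
    intro n a
    rw [← hsum n, hφ, map_sum]
    change _ = (∑ i : Multiplicative (ZMod p), (cst k p (Multiplicative.toAdd i) ^ n) • e i).ofConv a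
    rw [WithConv.ofConv_sum, LinearMap.sum_apply]
    exact Finset.sum_congr rfl fun i _ => by
      rw [mom_single, mul_comm]
      rfl
  have hg1 : ∀ n, (g ^ n) (1 : A) = (0 : k) ^ n := by
    intro n
    induction n with
    | zero => simp [LinearMap.convOne_def]
    | succ n ih =>
      rw [pow_succ, LinearMap.convMul_apply, Bialgebra.comul_one, Algebra.TensorProduct.one_def]
      simp [show g.ofConv 1 = 0 from derS_one hg]
  have hone : φ 1 = 1 := mom_ext fun n => by
    rw [hmom, hg1, MonoidAlgebra.one_def, mom_single, toAdd_one, cst, map_zero, one_mul]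
  have hmul : ∀ a b, φ (a * b) = φ a * φ b := fun a b => mom_ext fun n => by
    rw [hmom, mom_mul]
    simp only [hmom]
    have hc : Commute (pairF g 1) (pairF (1 : WithConv (A →ₗ[k] k)) g) := by
      simp [Commute, SemiconjBy, pairF_mul]
    have h := hc.add_pow n
    rw [← pullMul_of_mem hg, pullMul_pow] at h
    simp only [pairF_pow, one_pow, pairF_mul, one_mul, mul_one] at h
    have := congrArg (fun F : WithConv (A ⊗[k] A →ₗ[k] k) => F (a ⊗ₜ[k] b)) h
    rw [pullMul_apply] at this
    rw [this]
    change (∑ m ∈ Finset.range (n + 1), pairF (g ^ m) (g ^ (n - m)) * (n.choose m : WithConv (A ⊗[k] A →ₗ[k] k))).ofConv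
      (a ⊗ₜ[k] b) = _
    rw [WithConv.ofConv_sum, LinearMap.sum_apply]
    refine Finset.sum_congr rfl fun m _ => ?_
    rw [← Nat.cast_comm, ← nsmul_eq_mul]
    change ((n.choose m) • pairF (g ^ m) (g ^ (n - m))).ofConv (a ⊗ₜ[k] b) = _
    rw [WithConv.ofConv_smul, LinearMap.smul_apply, nsmul_eq_mul]
    change (n.choose m : k) * pairF (g ^ m) (g ^ (n - m)) (a ⊗ₜ[k] b) = _
    rw [pairF_apply]
    ring
  let F : A →ₐ[k] MonoidAlgebra k (Multiplicative (ZMod p)) := AlgHom.ofLinearMap φ hone hmul
  let Φ : A →ₐc[k] MonoidAlgebra k (Multiplicative (ZMod p)) := BialgHom.ofAlgHom F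
    (AlgHom.ext fun a => by
      have h0 : ∀ x : MonoidAlgebra k (Multiplicative (ZMod p)), Coalgebra.counit (R := k) x = mom k p 0 x := by
        intro x
        induction x using MonoidAlgebra.induction_linear with
        | zero => simp
        | add a b ha hb => rw [map_add, map_add, ha, hb]
        | single a r => simp [mom_single]
      change Coalgebra.counit (R := k) (φ a) = Coalgebra.counit (R := k) a
      rw [h0, hmom]
      simp [LinearMap.convOne_def])
    (AlgHom.ext fun a => mom_tensor_ext fun m n => by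
      change LinearMap.mul' k k (TensorProduct.map (mom k p m) (mom k p n)
          (TensorProduct.map φ φ (Coalgebra.comul (R := k) a))) =
        LinearMap.mul' k k (TensorProduct.map (mom k p m) (mom k p n) (Coalgebra.comul (R := k) (φ a)))
      rw [mom_comul, hmom, pow_add, LinearMap.convMul_apply, ← LinearMap.comp_apply (TensorProduct.map _ _),
        ← TensorProduct.map_comp]
      congr 3 <;> exact LinearMap.ext fun b => hmom _ b)
  refine ⟨Φ, ?_⟩
  have hmem : ∀ i, e i ≠ 0 → MonoidAlgebra.single i (1 : k) ∈ F.range := by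
    intro i hi
    by_contra hcon
    obtain ⟨ψ, hψi, hψ⟩ := Submodule.exists_dual_map_eq_bot_of_notMem (p := LinearMap.range φ)
      (x := MonoidAlgebra.single i (1 : k)) (fun ⟨a, ha⟩ => hcon ⟨a, ha⟩) inferInstance
    have h0 : ∑ j, ψ (MonoidAlgebra.single j (1 : k)) • e j = 0 := by
      refine WithConv.ofConv_injective (LinearMap.ext fun a => ?_)
      rw [WithConv.ofConv_sum, LinearMap.sum_apply]
      have : ψ (φ a) = 0 := (Submodule.mem_bot k).1 (hψ ▸ Submodule.mem_map_of_mem ⟨a, rfl⟩)
      rw [hφ, map_sum] at this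
      refine Eq.trans (Finset.sum_congr rfl fun j _ => ?_) this
      change ψ (MonoidAlgebra.single j (1 : k)) * e j a = _
      rw [mul_comm, ← smul_eq_mul, ← map_smul, MonoidAlgebra.smul_single, smul_eq_mul, mul_one]
    have h1 := congrArg (e i * ·) h0
    simp only [Finset.mul_sum, mul_smul_comm, mul_zero] at h1
    have horth : ∀ j, e i * e j = if i = j then e i else 0 := fun j => by
      rw [← sub_eq_zero]
      have : e i * e j - (if i = j then e i else 0) = aeval g (interp k p (Multiplicative.toAdd i) *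
          interp k p (Multiplicative.toAdd j) - if i = j then interp k p (Multiplicative.toAdd i) else 0) := by
        split_ifs <;> simp [e]
      rw [this]
      refine aeval_eq_zero_of_eval hgp fun l => ?_
      split_ifs with hij
      · subst hij; simp only [eval_sub, eval_mul, interp_eval]; split_ifs <;> simp
      · have : Multiplicative.toAdd i ≠ Multiplicative.toAdd j := fun h => hij (Multiplicative.toAdd.injective h)
        simp only [sub_zero, eval_mul, interp_eval]
        split_ifs with h1 h2
        · exact absurd (h1.trans h2.symm) this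
        all_goals simp
    simp only [horth, smul_ite, smul_zero, Finset.sum_ite_eq, Finset.mem_univ, if_true] at h1
    exact hψi ((smul_eq_zero.1 h1).resolve_right hi)
  obtain ⟨i, hi1, hi⟩ : ∃ i : Multiplicative (ZMod p), i ≠ 1 ∧ e i ≠ 0 := by
    by_contra hcon
    push Not at hcon
    refine hg0 ?_
    rw [← pow_one g, ← hsum 1, Finset.sum_eq_single (1 : Multiplicative (ZMod p))]
    · simp [cst]
    · exact fun j _ hj => by rw [hcon j hj, smul_zero]
    · simp
  have hall : ∀ x : Multiplicative (ZMod p), MonoidAlgebra.single x (1 : k) ∈ F.range := by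
    intro x
    obtain ⟨n, rfl⟩ : ∃ n : ℕ, i ^ n = x := by
      refine ⟨(Multiplicative.toAdd x * (Multiplicative.toAdd i)⁻¹).val, ?_⟩
      refine Multiplicative.toAdd.injective ?_
      rw [toAdd_pow, nsmul_eq_mul, ZMod.natCast_zmod_val,
        inv_mul_cancel_right₀ (fun h => hi1 (Multiplicative.toAdd.injective h))]
    have := pow_mem (hmem i hi) n
    rwa [MonoidAlgebra.single_pow, one_pow] at this
  intro z
  induction z using MonoidAlgebra.induction_linear with
  | zero => exact ⟨0, map_zero _⟩
  | add a b ha hb =>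
    obtain ⟨a', rfl⟩ := ha
    obtain ⟨b', rfl⟩ := hb
    exact ⟨a' + b', map_add _ _ _⟩
  | single a r =>
    obtain ⟨a', ha'⟩ := hall a
    refine ⟨r • a', ?_⟩
    rw [map_smul, show Φ a' = MonoidAlgebra.single a 1 from ha', MonoidAlgebra.smul_single, smul_eq_mul, mul_one]

/-- without subgroups isomorphic to `μ_p` the `p`-operation is nilpotent -/
theorem nilpotent_of_no_mu [IsAlgClosed k] [Algebra.FiniteType k A]
    (h : ¬ ∃ φ : A →ₐc[k] MonoidAlgebra k (Multiplicative (ZMod p)), Function.Surjective φ) :
    ∀ f ∈ derS k A, ∃ n : ℕ, f ^ p ^ n = 0 := by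
  intro f hf
  by_contra hnot
  push Not at hnot
  obtain ⟨g, hg, hg0, hgp⟩ := exists_pow_eq_self p hf hnot
  exact h (exists_mu_of_pow_eq_self hg hg0 hgp)

end MuP

/-- a unipotent group contains no nontrivial finite diagonalisable subgroup `μ_n` -/
theorem no_mu_of_isUnipotent (hU : HopfRep.IsUnipotent k A) {n : ℕ} (hn : 1 < n) :
    ¬ ∃ φ : A →ₐc[k] MonoidAlgebra k (Multiplicative (ZMod n)), Function.Surjective φ := by
  rintro ⟨φ, hφ⟩
  haveI : Fact (1 < n) := ⟨hn⟩
  have hB := exhaustive_of_surjective φ hφ hU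
  have h := groupLike_eq_one hB (g := MonoidAlgebra.single (Multiplicative.ofAdd (1 : ZMod n)) (1 : k))
    ⟨by simp, by simp [MonoidAlgebra.comul_single]⟩
  rw [MonoidAlgebra.one_def] at h
  have := MonoidAlgebra.single_left_injective (R := k) one_ne_zero h
  exact one_ne_zero (Multiplicative.ofAdd.injective (this.trans ofAdd_zero.symm))

end Groth.Misc1.Unip
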