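import Groth.Agent.Hopf.Unipotent
import Mathlib.GroupTheory.Nilpotent
import Mathlib.RingTheory.HopfAlgebra.GroupLike

/-!
# Trigonalizable groups: the character series of a comodule
-/

set_option autoImplicit false
set_option linter.unusedSectionVars false

universe u v w

open TensorProduct WithConv Groth.ComodLib
open scoped commutatorElement

noncomputable section

namespace Groth.Misc1.Unip

section Group

variable {k : Type u} [Field k] {V : Type w} [AddCommGroup V] [Module k V] {Γ : Type v} [Group Γ]

/-- a group acting faithfully and trivially on the graded pieces of a finite filtration is nilpotent -/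
theorem isNilpotent_of_filtration (T : Γ →* Module.End k V) (hT : Function.Injective T)
    (F : ℕ → Submodule k V) (h0 : F 0 = ⊥) (hmono : Monotone F)
    (hstab : ∀ g n, ∀ x ∈ F n, T g x ∈ F n) (hlow : ∀ g n, ∀ x ∈ F (n + 1), T g x - x ∈ F n)
    {m : ℕ} (hm : F m = ⊤) : Group.IsNilpotent Γ := by
  let U : ℕ → Subgroup Γ := fun j =>
    { carrier := {g | ∀ n, ∀ x ∈ F (n + j), T g x - x ∈ F n}
      one_mem' := fun n x _ => by simp
      mul_mem' := fun {g h} hg hh n x hx => by
        have : T (g * h) x - x = T g (T h x - x) + (T g x - x) := by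
          rw [map_mul, Module.End.mul_apply, map_sub]; abel
        rw [this]
        exact add_mem (hstab g n _ (hh n x hx)) (hg n x hx)
      inv_mem' := fun {g} hg n x hx => by
        have h1 : T g⁻¹ (T g x) = x := by
          rw [← Module.End.mul_apply, ← map_mul, inv_mul_cancel, map_one, Module.End.one_apply]
        have : T g⁻¹ x - x = - T g⁻¹ (T g x - x) := by rw [map_sub, h1]; abel
        rw [this]
        exact neg_mem (hstab g⁻¹ n _ (hg n x hx)) }
  refine (Subgroup.nilpotent_iff_finite_descending_central_series _).2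
    ⟨m, fun i => U (i + 1), ⟨?_, ?_⟩, ?_⟩
  · exact eq_top_iff.2 fun g _ n x hx => hlow g n x hx
  · intro g j hg h n x hx
    set w := T (g⁻¹ * h⁻¹) x with hw
    have hw' : w ∈ F (n + (j + 1 + 1)) := hstab _ _ _ hx
    have e1 : T ⁅g, h⁆ x = T g (T h w) := by
      rw [hw, commutatorElement_def, ← Module.End.mul_apply, ← Module.End.mul_apply, ← map_mul, ← map_mul]
      simp only [mul_assoc]
    have e2 : x = T h (T g w) := by
      rw [hw, ← Module.End.mul_apply, ← Module.End.mul_apply, ← map_mul, ← map_mul,
        show h * g * (g⁻¹ * h⁻¹) = 1 by group, map_one, Module.End.one_apply]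
    have e3 : T ⁅g, h⁆ x - x = (T g (T h w - w) - (T h w - w)) - (T h (T g w - w) - (T g w - w)) := by
      rw [e1, map_sub, map_sub]
      nth_rewrite 1 [e2]
      abel
    rw [e3]
    refine sub_mem ?_ ?_
    · exact hg n _ (hlow h (n + (j + 1)) _ (by rwa [Nat.add_assoc]))
    · refine hlow h n _ (hg (n + 1) w ?_)
      rwa [show n + 1 + (j + 1) = n + (j + 1 + 1) by omega]
  · refine (Subgroup.eq_bot_iff_forall _).2 fun g hg => hT (LinearMap.ext fun x => ?_)
    have h1 := hg 0 x (hmono (show m ≤ 0 + (m + 1) by omega) (hm ▸ Submodule.mem_top))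
    rw [h0, Submodule.mem_bot, sub_eq_zero] at h1
    rw [h1, map_one, Module.End.one_apply]

end Group

section Series

variable {k : Type u} [Field k] {A : Type v} [Ring A] [Bialgebra k A]
  {V : Type w} [AddCommGroup V] [Module k V] [HopfRep.Comod k A V]

variable (k A V) in
/-- iterated socle of eigenvectors -/
def charSeries : ℕ → Submodule k V
  | 0 => ⊥
  | n + 1 => Submodule.span k {x | ∃ g : A, IsGroupLikeElem k g ∧
      ∀ φ : A →ₗ[k] k, op φ x - φ g • x ∈ charSeries n}

theorem isSubcomod_charSeries_le : ∀ n : ℕ, HopfRep.IsSubcomod (k := k) (A := A) (charSeries k A V n) ∧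
    charSeries k A V n ≤ charSeries k A V (n + 1)
  | 0 => ⟨isSubcomod_bot, bot_le⟩
  | n + 1 => by
    obtain ⟨hs, hle⟩ := isSubcomod_charSeries_le n
    have hs' : HopfRep.IsSubcomod (k := k) (A := A) (charSeries k A V (n + 1)) := by
      refine (isSubcomod_iff _).2 fun φ x hx => ?_
      induction hx using Submodule.span_induction with
      | mem y hy =>
        obtain ⟨g, hg, hgy⟩ := hy
        rw [show op φ y = (op φ y - φ g • y) + φ g • y by rw [sub_add_cancel]]
        exact Submodule.add_mem _ (hle (hgy φ))
          (Submodule.smul_mem _ _ (Submodule.subset_span ⟨g, hg, hgy⟩))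
      | zero => rw [map_zero]; exact Submodule.zero_mem _
      | add p q _ _ hp hq => rw [map_add]; exact Submodule.add_mem _ hp hq
      | smul c p _ hp => rw [map_smul]; exact Submodule.smul_mem _ c hp
    refine ⟨hs', fun x hx => Submodule.subset_span ⟨1, IsGroupLikeElem.one, fun φ => ?_⟩⟩
    exact Submodule.sub_mem _ ((isSubcomod_iff _).1 hs' φ x hx) (Submodule.smul_mem _ _ hx)

theorem isSubcomod_charSeries (n : ℕ) : HopfRep.IsSubcomod (k := k) (A := A) (charSeries k A V n) :=
  (isSubcomod_charSeries_le n).1

theorem charSeries_mono : Monotone (charSeries k A V) :=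
  monotone_nat_of_le_succ fun n => (isSubcomod_charSeries_le n).2

/-- an element in a one-dimensional subcomodule is an eigenvector of a character -/
theorem exists_groupLike_of_line {x : V} (hx0 : x ≠ 0)
    (hx : HopfRep.Comod.coact (k := k) (A := A) x ∈ LinearMap.range ((Submodule.span k {x}).subtype.rTensor A)) :
    ∃ g : A, IsGroupLikeElem k g ∧ HopfRep.Comod.coact (k := k) (A := A) x = x ⊗ₜ[k] g := by
  obtain ⟨z, hz⟩ := hx
  obtain ⟨g, hg⟩ : ∃ g : A, (Submodule.span k {x}).subtype.rTensor A z = x ⊗ₜ[k] g := by
    clear hz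
    induction z using TensorProduct.induction_on with
    | zero => exact ⟨0, by simp⟩
    | tmul p r =>
      obtain ⟨c, hc⟩ := Submodule.mem_span_singleton.1 p.2
      exact ⟨c • r, by rw [LinearMap.rTensor_tmul, Submodule.subtype_apply, ← hc, TensorProduct.smul_tmul]⟩
    | add p r hp hr =>
      obtain ⟨y1, h1⟩ := hp
      obtain ⟨y2, h2⟩ := hr
      exact ⟨y1 + y2, by rw [map_add, h1, h2, TensorProduct.tmul_add]⟩
  rw [hg] at hz
  obtain ⟨ψ, hψ⟩ : ∃ ψ : V →ₗ[k] k, ψ x = 1 := by
    obtain ⟨f, hf⟩ : ∃ f : V →ₗ[k] k, f x ≠ 0 := by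
      by_contra hne
      push Not at hne
      exact hx0 ((Module.forall_dual_apply_eq_zero_iff k x).1 hne)
    exact ⟨(f x)⁻¹ • f, by rw [LinearMap.smul_apply, smul_eq_mul, inv_mul_cancel₀ hf]⟩
  refine ⟨g, ⟨?_, ?_⟩, hz.symm⟩
  · have h1 := op_counit (k := k) (A := A) x
    rw [op_apply, ← hz, slice_tmul] at h1
    have h2 := congrArg ψ h1
    rwa [map_smul, hψ, smul_eq_mul, mul_one] at h2
  · have h1 := comul_cf (A := A) ψ x
    rw [cf_apply, ← hz, lslice_tmul, hψ, one_smul, LinearMap.rTensor_tmul, cf_apply, ← hz, lslice_tmul,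
      hψ, one_smul] at h1
    exact h1

theorem exists_charSeries_eq_top {k : Type u} [Field k] {A : Type v} [CommRing A] [Bialgebra k A]
    (hT : HopfRep.IsTrigonalizable k A) (V : Type v) [AddCommGroup V] [Module k V]
    [c : HopfRep.Comod k A V] [Module.Finite k V] : ∃ m, charSeries k A V m = ⊤ := by
  by_contra hne
  push Not at hne
  have hlt : ∀ n, charSeries k A V n < charSeries k A V (n + 1) := by
    intro n
    refine lt_of_le_of_ne (isSubcomod_charSeries_le n).2 fun e => ?_
    let S := charSeries k A V n
    let cq := ComodSub.Comod.quot c S (isSubcomod_charSeries n)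
    have : Nontrivial (V ⧸ S) := Submodule.Quotient.nontrivial_iff.2 (hne n)
    letI := cq
    obtain ⟨U, ⟨hU0, hU⟩, hmin⟩ := WellFounded.has_min (wellFounded_lt (α := Submodule k (V ⧸ S)))
      {U | U ≠ ⊥ ∧ HopfRep.IsSubcomod (k := k) (A := A) U} ⟨⊤, top_ne_bot, isSubcomod_top⟩
    let cU := ComodSub.Comod.restr cq U hU
    have hsimple : @HopfRep.IsSimpleComod k A _ _ _ _ U _ _ cU := by
      refine ⟨Submodule.nontrivial_iff_ne_bot.2 hU0, fun W hW => ?_⟩
      have hm := @isSubcomod_map k _ A _ _ _ U _ _ cU (V ⧸ S) _ _ cq _ U.subtype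
        (ComodSub.isComodHom_subtype cq U hU) W hW
      rcases eq_or_ne W ⊥ with h | h
      · exact Or.inl h
      · refine Or.inr ?_
        have h1 : W.map U.subtype = U := by
          refine (Submodule.map_subtype_le U W).eq_of_not_lt (hmin _ ⟨fun h2 => h ?_, hm⟩)
          exact Submodule.map_injective_of_injective U.injective_subtype (h2.trans (Submodule.map_bot _).symm)
        exact Submodule.map_injective_of_injective U.injective_subtype (h1.trans (Submodule.map_subtype_top U).symm)
    have hdim := @hT U _ _ cU inferInstance hsimple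
    obtain ⟨q, hq, hq0⟩ := (Submodule.ne_bot_iff _).1 hU0
    have hspan : U = Submodule.span k {q} := by
      refine (Submodule.eq_of_le_of_finrank_eq ((Submodule.span_singleton_le_iff_mem _ _).2 hq) ?_).symm
      rw [hdim, finrank_span_singleton hq0]
    obtain ⟨g, hg, hgq⟩ := exists_groupLike_of_line hq0 (hspan ▸ hU q hq)
    obtain ⟨x, rfl⟩ := Submodule.mkQ_surjective _ q
    refine hq0 ((Submodule.Quotient.mk_eq_zero _).2 ?_)
    change x ∈ charSeries k A V n
    rw [e]
    refine Submodule.subset_span ⟨g, hg, fun φ => ?_⟩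
    have hm := ComodSub.isComodHom_mkQ c S (isSubcomod_charSeries n)
    rw [← Submodule.Quotient.mk_eq_zero, ← Submodule.mkQ_apply, map_sub, map_smul,
      @isComodHom_op k _ A _ _ _ V _ _ c (V ⧸ S) _ _ cq _ hm, op_apply, hgq, slice_tmul, sub_self]
  have hdim : ∀ n, n ≤ Module.finrank k (charSeries k A V n) := by
    intro n
    induction n with
    | zero => simp
    | succ n ih => exact Nat.lt_of_le_of_lt ih (Submodule.finrank_lt_finrank_of_lt (hlt n))
  exact absurd ((hdim (Module.finrank k V + 1)).trans (Submodule.finrank_le _)) (by omega)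

end Series

section Points

variable {k : Type u} [Field k] {A : Type v} [CommRing A] [HopfAlgebra k A]
  {V : Type w} [AddCommGroup V] [Module k V] [HopfRep.Comod k A V]

variable (k A V) in
/-- the action of points on a comodule -/
def pointAct : WithConv (A →ₐ[k] k) →* Module.End k V where
  toFun g := rho k A V (toConv g.ofConv.toLinearMap)
  map_one' := by
    rw [← map_one (rho k A V)]
    exact congrArg _ AlgHom.toLinearMap_convOne
  map_mul' g h := by
    rw [← map_mul]
    exact congrArg _ (AlgHom.toLinearMap_convMul g h)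

theorem pointAct_apply (g : WithConv (A →ₐ[k] k)) (x : V) : pointAct k A V g x = op g.ofConv.toLinearMap x := rfl

variable (k A) in
/-- evaluation of points at the characters -/
def charEval : WithConv (A →ₐ[k] k) →* ({a : A // IsGroupLikeElem k a} → kˣ) :=
  MonoidHom.pi fun a =>
    (({ toFun := fun g => g.ofConv a.1
        map_one' := by simp [a.2.counit_eq_one]
        map_mul' := fun g h => by rw [AlgHom.convMul_apply, a.2.comul_eq_tmul_self]; simp } :
      WithConv (A →ₐ[k] k) →* k)).toHomUnits

theorem apply_eq_one_of_mem_ker {g : WithConv (A →ₐ[k] k)} (hg : g ∈ (charEval k A).ker) {a : A}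
    (ha : IsGroupLikeElem k a) : g.ofConv a = 1 :=
  congrArg Units.val (congrFun (MonoidHom.mem_ker.1 hg) ⟨a, ha⟩)

theorem lower_of_mem_ker {g : WithConv (A →ₐ[k] k)} (hg : g ∈ (charEval k A).ker) (n : ℕ) {x : V}
    (hx : x ∈ charSeries k A V (n + 1)) : pointAct k A V g x - x ∈ charSeries k A V n := by
  rw [pointAct_apply]
  induction hx using Submodule.span_induction with
  | mem y hy =>
    obtain ⟨a, ha, hay⟩ := hy
    have h := hay g.ofConv.toLinearMap
    rwa [show g.ofConv.toLinearMap a = 1 from apply_eq_one_of_mem_ker hg ha, one_smul] at h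
  | zero => simp
  | add p q _ _ hp hq => rw [map_add, add_sub_add_comm]; exact Submodule.add_mem _ hp hq
  | smul c p _ hp => rw [map_smul, ← smul_sub]; exact Submodule.smul_mem _ c hp

/-- the points of a trigonalizable group form a solvable group -/
theorem isSolvable_points_of_trigonalizable {k : Type u} [Field k] {A : Type v} [CommRing A] [HopfAlgebra k A]
    [Algebra.FiniteType k A] (hT : HopfRep.IsTrigonalizable k A) : Group.IsSolvable (WithConv (A →ₐ[k] k)) := by
  classical
  obtain ⟨s, hs⟩ := (Algebra.FiniteType.out : (⊤ : Subalgebra k A).FG)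
  let c : HopfRep.Comod k A A := HopfRep.Comod.regular k A
  obtain ⟨U, hUfin, hsU, hU⟩ : ∃ U : Submodule k A, Module.Finite k U ∧ (s : Set A) ⊆ U ∧
      HopfRep.IsSubcomod (k := k) (A := A) U := by
    obtain ⟨U, h1, h2, h3⟩ := exists_finite_subcomod_span (k := k) (A := A) (V := A) s.finite_toSet
    exact ⟨U, h1, h2, h3⟩
  letI cU := ComodSub.Comod.restr c U hU
  obtain ⟨m, hm⟩ := exists_charSeries_eq_top hT U
  set K := (charEval k A).ker
  have hnil : Group.IsNilpotent K := by
    refine isNilpotent_of_filtration ((pointAct k A U).comp K.subtype) ?_ (charSeries k A U) rfl charSeries_mono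
      (fun g n x hx => (isSubcomod_iff _).1 (isSubcomod_charSeries n) _ x hx)
      (fun g n x hx => lower_of_mem_ker g.2 n hx) hm
    intro g h hgh
    refine Subtype.ext (WithConv.ofConv_injective (AlgHom.ext_of_adjoin_eq_top hs fun a ha => ?_))
    have hrec : ∀ f : WithConv (A →ₐ[k] k),
        Coalgebra.counit (R := k) ((pointAct k A U f ⟨a, hsU ha⟩ : U) : A) = f.ofConv a := by
      intro f
      rw [pointAct_apply]
      have h1 := @isComodHom_op k _ A _ _ _ U _ _ cU A _ _ c _ (ComodSub.isComodHom_subtype c U hU)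
        f.ofConv.toLinearMap ⟨a, hsU ha⟩
      simp only [Submodule.subtype_apply] at h1
      rw [h1, op_apply]
      change Coalgebra.counit (R := k) (slice f.ofConv.toLinearMap (Coalgebra.comul (R := k) a)) = _
      have e : ∀ z : A ⊗[k] A, Coalgebra.counit (R := k) (slice f.ofConv.toLinearMap z) =
          f.ofConv (TensorProduct.lid k A ((Coalgebra.counit (R := k) (A := A)).rTensor A z)) := by
        intro z
        induction z using TensorProduct.induction_on with
        | zero => simp
        | tmul p r => simp [mul_comm]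
        | add p r hp hr => simp only [map_add, hp, hr]
      rw [e, Coalgebra.rTensor_counit_comul, TensorProduct.lid_tmul, one_smul]
    rw [← hrec, ← hrec]
    exact congrArg (fun T : Module.End k U => Coalgebra.counit (R := k) ((T ⟨a, hsU ha⟩ : U) : A)) hgh
  exact solvable_of_ker_le_range K.subtype (charEval k A) (le_of_eq K.range_subtype.symm)

end Points

end Groth.Misc1.Unip
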