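import Groth.Agent.Misc1.Unip.TrigCrit
import Groth.Agent.Misc1.Unip.MultType
import Mathlib.RingTheory.DiscreteValuationRing.Basic
import Mathlib.RingTheory.LocalRing.ResidueField.Basic

/-!
# Specialisation of filtrations with group-like weights
-/

set_option autoImplicit false
set_option linter.unusedSectionVars false

universe u

open TensorProduct Groth.ComodLib

noncomputable section

namespace Groth.Misc1.Unip.Special

section Reach

variable {K : Type u} [Field K] {B : Type u} [CommRing B] [Bialgebra K B]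

/-- subspaces obtained by successive extensions by semi-invariants with weights in `G` -/
inductive Reach (G : Set B) : Submodule K B → Prop
  | bot : Reach G ⊥
  | step {U U' : Submodule K B} {g : B} : Reach G U → U ≤ U' → g ∈ G →
      (∀ x ∈ U', ∀ φ : B →ₗ[K] K, op φ x - φ g • x ∈ U) → Reach G U'

variable {G : Set B}

theorem Reach.op_mem {U : Submodule K B} (h : Reach G U) : ∀ x ∈ U, ∀ φ : B →ₗ[K] K, op φ x ∈ U := by
  induction h with
  | bot => intro x hx φ; rw [(Submodule.mem_bot K).1 hx, map_zero]; exact Submodule.zero_mem _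
  | @step U U' g _ hle _ hstep _ =>
    intro x hx φ
    have := Submodule.add_mem _ (hle (hstep x hx φ)) (Submodule.smul_mem _ (φ g) hx)
    rwa [sub_add_cancel] at this

theorem Reach.sup {U W : Submodule K B} (hU : Reach G U) (hW : Reach G W) : Reach G (U ⊔ W) := by
  induction hW with
  | bot => rwa [sup_bot_eq]
  | @step W W' g _ hle hg hstep ih =>
    refine Reach.step ih (sup_le_sup_left hle U) hg fun x hx φ => ?_
    obtain ⟨a, ha, b, hb, rfl⟩ := Submodule.mem_sup.1 hx
    rw [map_add, smul_add, add_sub_add_comm]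
    exact Submodule.add_mem_sup (Submodule.sub_mem _ (hU.op_mem a ha φ) (Submodule.smul_mem _ _ ha))
      (hstep b hb φ)

/-- every stage of a series with weights in `G` is reached -/
theorem exists_reach (S : ℕ → Submodule K B) (h0 : S 0 = ⊥)
    (hS : ∀ n, S (n + 1) ≤ Submodule.span K {y | ∃ g ∈ G, ∀ φ : B →ₗ[K] K, op φ y - φ g • y ∈ S n}) :
    ∀ n, ∀ x ∈ S n, ∃ U : Submodule K B, Reach G U ∧ x ∈ U := by
  intro n
  induction n with
  | zero => exact fun x hx => ⟨⊥, Reach.bot, h0 ▸ hx⟩
  | succ n ih =>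
    have hfin : ∀ t : Finset B, (∀ w ∈ t, w ∈ S n) → ∃ U : Submodule K B, Reach G U ∧ ∀ w ∈ t, w ∈ U := by
      classical
      intro t
      induction t using Finset.induction_on with
      | empty => exact fun _ => ⟨⊥, Reach.bot, fun w hw => absurd hw (Finset.notMem_empty w)⟩
      | insert a t _ iht =>
        intro htS
        obtain ⟨U, hU, hUt⟩ := iht fun w hw => htS w (Finset.mem_insert_of_mem hw)
        obtain ⟨W, hW, haW⟩ := ih a (htS a (Finset.mem_insert_self a t))
        refine ⟨U ⊔ W, hU.sup hW, fun w hw => ?_⟩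
        rcases Finset.mem_insert.1 hw with rfl | h
        · exact Submodule.mem_sup_right haW
        · exact Submodule.mem_sup_left (hUt w h)
    intro x hx
    replace hx := hS n hx
    induction hx using Submodule.span_induction with
    | mem y hy =>
      obtain ⟨g, hg, hgy⟩ := hy
      let z := HopfRep.Comod.coact (k := K) (A := B) y - y ⊗ₜ[K] g
      have hz : ∀ φ : B →ₗ[K] K, slice φ z = op φ y - φ g • y := fun φ => by
        rw [map_sub, slice_tmul, ← op_apply]
      obtain ⟨s, hs⟩ := range_sliceL_finite (A := B) z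
      have : Module.Finite K (LinearMap.range (sliceL B z)) :=
        Module.Finite.of_injective (Submodule.inclusion hs) (Submodule.inclusion_injective hs)
      obtain ⟨t, ht⟩ := Module.Finite.iff_fg.1 this
      have htS : ∀ w ∈ t, w ∈ S n := fun w hw => by
        obtain ⟨φ, rfl⟩ := (ht ▸ Submodule.subset_span hw : w ∈ LinearMap.range (sliceL B z))
        rw [sliceL_apply, hz]
        exact hgy φ
      obtain ⟨U, hU, htU⟩ := hfin t htS
      have hmem : ∀ φ : B →ₗ[K] K, op φ y - φ g • y ∈ U := fun φ => by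
        have : LinearMap.range (sliceL B z) ≤ U := ht ▸ Submodule.span_le.2 htU
        exact hz φ ▸ this ⟨φ, rfl⟩
      refine ⟨U ⊔ Submodule.span K {y}, Reach.step hU le_sup_left hg fun w hw φ => ?_,
        Submodule.mem_sup_right (Submodule.mem_span_singleton_self y)⟩
      obtain ⟨a, ha, b, hb, rfl⟩ := Submodule.mem_sup.1 hw
      obtain ⟨c, rfl⟩ := Submodule.mem_span_singleton.1 hb
      rw [map_add, smul_add, add_sub_add_comm, map_smul, smul_comm, ← smul_sub]
      exact Submodule.add_mem _ (Submodule.sub_mem _ (hU.op_mem a ha φ) (Submodule.smul_mem _ _ ha))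
        (Submodule.smul_mem _ c (hmem φ))
    | zero => exact ⟨⊥, Reach.bot, Submodule.zero_mem _⟩
    | add p q _ _ hp hq =>
      obtain ⟨U, hU, hp⟩ := hp
      obtain ⟨W, hW, hq⟩ := hq
      exact ⟨U ⊔ W, hU.sup hW, Submodule.add_mem _ (Submodule.mem_sup_left hp) (Submodule.mem_sup_right hq)⟩
    | smul c p _ hp =>
      obtain ⟨U, hU, hp⟩ := hp
      exact ⟨U, hU, Submodule.smul_mem _ c hp⟩

end Reach

section Spec

variable {A : Type u} [CommRing A] {H : Type u} [CommRing H] [HopfAlgebra A H] [Module.Flat A H]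
  (K : Type u) [Field K] [Algebra A K] (k : Type u) [Field k] [Algebra A k]

theorem incl_injective (hAK : Function.Injective (algebraMap A K)) :
    Function.Injective (incl (k := A) (A := H) K) :=
  Algebra.TensorProduct.includeRight_injective hAK

theorem nat_injective (hAK : Function.Injective (algebraMap A K)) : Function.Injective (nat A K H) := by
  have h : ∀ z : H ⊗[A] H, TensorProduct.AlgebraTensorModule.distribBaseChange A K H H ((1 : K) ⊗ₜ z) =
      nat A K H z := by
    intro z
    induction z using TensorProduct.induction_on with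
    | zero => simp
    | tmul p q => simp [nat_tmul, incl_apply]
    | add p q hp hq => simp only [TensorProduct.tmul_add, map_add, hp, hq]
  intro a b hab
  rw [← h, ← h] at hab
  exact Algebra.TensorProduct.includeRight_injective hAK
    ((TensorProduct.AlgebraTensorModule.distribBaseChange A K H H).injective hab)

/-- reached subspaces specialise into a series of the special fibre -/
theorem exists_bound (hAK : Function.Injective (algebraMap A K)) {G : Set (K ⊗[A] H)}
    {G' : Set (k ⊗[A] H)} (hG : ∀ g ∈ G, ∃ g₀ : H, incl (k := A) K g₀ = g ∧ incl (k := A) k g₀ ∈ G')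
    (S : ℕ → Submodule k (k ⊗[A] H))
    (hS : ∀ n x, ∀ g ∈ G', (∀ φ : k ⊗[A] H →ₗ[k] k, op φ x - φ g • x ∈ S n) → x ∈ S (n + 1))
    {U : Submodule K (K ⊗[A] H)} (hU : Reach G U) :
    ∃ n, ∀ h : H, incl (k := A) K h ∈ U → incl (k := A) k h ∈ S n := by
  induction hU with
  | bot =>
    refine ⟨0, fun h hh => ?_⟩
    rw [incl_injective K hAK (((Submodule.mem_bot K).1 hh).trans (map_zero (incl (k := A) (A := H) K)).symm),
      map_zero]
    exact Submodule.zero_mem _
  | @step U U' g _ _ hg hstep ih =>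
    obtain ⟨n, hn⟩ := ih
    obtain ⟨g₀, rfl, hg'⟩ := hG g hg
    refine ⟨n + 1, fun h hh => hS n _ _ hg' fun φ => ?_⟩
    let z : H ⊗[A] H := Coalgebra.comul (R := A) h - h ⊗ₜ[A] g₀
    let M : Submodule A H := (U.restrictScalars A).comap (incl (k := A) (A := H) K).toLinearMap
    let ψ : H →ₗ[A] (K ⊗[A] H) ⧸ U :=
      U.mkQ.restrictScalars A ∘ₗ (incl (k := A) (A := H) K).toLinearMap
    have hψz : ψ.rTensor H z = 0 := by
      have h1 : nat A K H z ∈ LinearMap.range (U.subtype.rTensor (K ⊗[A] H)) := by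
        refine (mem_range_rTensor_iff U _).2 fun χ => ?_
        rw [map_sub, nat_tmul, ← comul_incl, map_sub, slice_tmul]
        exact hstep _ hh χ
      obtain ⟨w, hw⟩ := h1
      have h2 : U.mkQ.rTensor (K ⊗[A] H) (nat A K H z) = 0 := by
        rw [← hw, ← LinearMap.comp_apply, ← LinearMap.rTensor_comp,
          show U.mkQ ∘ₗ U.subtype = 0 from LinearMap.ext fun x => (Submodule.Quotient.mk_eq_zero U).2 x.2,
          LinearMap.rTensor_zero, LinearMap.zero_apply]
      have e : ∀ y : H ⊗[A] H, TensorProduct.AlgebraTensorModule.cancelBaseChange A K K ((K ⊗[A] H) ⧸ U) H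
          (U.mkQ.rTensor (K ⊗[A] H) (nat A K H y)) = ψ.rTensor H y := by
        intro y
        induction y using TensorProduct.induction_on with
        | zero => simp
        | tmul p q => simp [nat_tmul, ψ, incl_apply]
        | add p q hp hq => simp only [map_add, hp, hq]
      rw [← e, h2, map_zero]
    have hzM : z ∈ LinearMap.range (M.subtype.rTensor H) := by
      refine ((_root_.rTensor_exact H (LinearMap.exact_subtype_mkQ M) M.mkQ_surjective) z).1 ?_
      have hker : M ≤ LinearMap.ker ψ := fun x hx => (Submodule.Quotient.mk_eq_zero U).2 hx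
      have hinj : Function.Injective (M.liftQ ψ hker) := LinearMap.ker_eq_bot.1
        (Submodule.ker_liftQ_eq_bot _ _ _ fun x hx => (Submodule.Quotient.mk_eq_zero U).1 hx)
      apply Module.Flat.rTensor_preserves_injective_linearMap (M := H) _ hinj
      rw [map_zero, ← LinearMap.comp_apply, ← LinearMap.rTensor_comp, Submodule.liftQ_mkQ]
      exact hψz
    have h3 : slice φ (nat A k H z) ∈ S n := by
      obtain ⟨w, hw⟩ := hzM
      rw [← hw]
      clear hw
      induction w using TensorProduct.induction_on with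
      | zero => simp
      | tmul p q =>
        rw [LinearMap.rTensor_tmul, Submodule.subtype_apply, nat_tmul, slice_tmul]
        exact Submodule.smul_mem _ _ (hn _ p.2)
      | add p q hp hq => rw [map_add, map_add, map_add]; exact Submodule.add_mem _ hp hq
    rw [map_sub, nat_tmul, ← comul_incl, map_sub, slice_tmul] at h3
    exact h3

/-- exhaustion specialises -/
theorem exhaustive_special [IsFractionRing A K] [IsDomain A] {G : Set (K ⊗[A] H)} {G' : Set (k ⊗[A] H)}
    (hG : ∀ g ∈ G, ∃ g₀ : H, incl (k := A) K g₀ = g ∧ incl (k := A) k g₀ ∈ G')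
    (hex : ∀ x : K ⊗[A] H, ∃ U : Submodule K (K ⊗[A] H), Reach G U ∧ x ∈ U) (hk : Function.Surjective (algebraMap A k))
    (S : ℕ → Submodule k (k ⊗[A] H))
    (hS : ∀ n x, ∀ g ∈ G', (∀ φ : k ⊗[A] H →ₗ[k] k, op φ x - φ g • x ∈ S n) → x ∈ S (n + 1))
    (y : k ⊗[A] H) : ∃ n, y ∈ S n := by
  obtain ⟨h, rfl⟩ : ∃ h : H, incl k h = y := by
    induction y using TensorProduct.induction_on with
    | zero => exact ⟨0, map_zero _⟩
    | tmul r a =>
      obtain ⟨c, rfl⟩ := hk r
      exact ⟨c • a, by rw [incl_apply, Algebra.algebraMap_eq_smul_one, TensorProduct.smul_tmul]⟩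
    | add p q hp hq =>
      obtain ⟨a, rfl⟩ := hp
      obtain ⟨b, rfl⟩ := hq
      exact ⟨a + b, map_add _ _ _⟩
  obtain ⟨U, hU, hx⟩ := hex (incl K h)
  obtain ⟨n, hn⟩ := exists_bound K k (IsFractionRing.injective A K) hG S hS hU
  exact ⟨n, hn h hx⟩

/-- a character of the generic fibre is integral, with nonzero reduction -/
theorem exists_groupLike_lift {A : Type u} [CommRing A] [IsDomain A] [IsDiscreteValuationRing A]
    {H : Type u} [CommRing H] [HopfAlgebra A H] [Module.Flat A H] (K : Type u) [Field K] [Algebra A K]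
    [IsFractionRing A K] {g : K ⊗[A] H} (hg : IsGroupLikeElem K g) :
    ∃ g₀ : H, incl (k := A) K g₀ = g ∧
      IsGroupLikeElem (IsLocalRing.ResidueField A) (incl (k := A) (IsLocalRing.ResidueField A) g₀) := by
  classical
  let k := IsLocalRing.ResidueField A
  obtain ⟨ϖ, hϖ⟩ := IsDiscreteValuationRing.exists_irreducible A
  have hAK := IsFractionRing.injective A K
  have hinj := incl_injective (H := H) K hAK
  have hden : ∀ x : K ⊗[A] H, ∃ (a : A) (h : H), a ≠ 0 ∧ incl K h = a • x := by
    intro x
    induction x using TensorProduct.induction_on with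
    | zero => exact ⟨1, 0, one_ne_zero, by simp⟩
    | tmul r a =>
      obtain ⟨p, s, hs, rfl⟩ := IsFractionRing.div_surjective (A := A) r
      refine ⟨s, p • a, nonZeroDivisors.ne_zero hs, ?_⟩
      rw [TensorProduct.smul_tmul', map_smul, incl_apply, TensorProduct.smul_tmul', Algebra.smul_def,
        Algebra.smul_def, mul_one, mul_div_cancel₀ _ (fun h0 => nonZeroDivisors.ne_zero hs (hAK (h0.trans (map_zero _).symm)))]
    | add p q hp hq =>
      obtain ⟨a, h, ha, e1⟩ := hp
      obtain ⟨b, h', hb, e2⟩ := hq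
      refine ⟨a * b, b • h + a • h', mul_ne_zero ha hb, ?_⟩
      rw [map_add, map_smul, map_smul, e1, e2, smul_add, mul_smul, mul_smul, smul_comm a b p]
  have hP : ∃ n : ℕ, ∃ h : H, incl K h = ϖ ^ n • g := by
    obtain ⟨a, h, ha, e⟩ := hden g
    obtain ⟨n, u, rfl⟩ := IsDiscreteValuationRing.eq_unit_mul_pow_irreducible ha hϖ
    refine ⟨n, (↑u⁻¹ : A) • h, ?_⟩
    rw [map_smul, e, ← mul_smul, ← mul_assoc, Units.inv_mul, one_mul]
  obtain ⟨h, he⟩ := Nat.find_spec hP
  have hε : Coalgebra.counit (R := A) h = ϖ ^ Nat.find hP := hAK (by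
    rw [← counit_incl, he]
    change (Bialgebra.counitAlgHom K (K ⊗[A] H)) (ϖ ^ Nat.find hP • g) = _
    rw [← AlgHom.restrictScalars_apply A (Bialgebra.counitAlgHom K (K ⊗[A] H)), map_smul,
      AlgHom.restrictScalars_apply, Bialgebra.counitAlgHom_apply, hg.counit_eq_one, Algebra.smul_def, mul_one])
  have hΔ : ϖ ^ Nat.find hP • Coalgebra.comul (R := A) h = h ⊗ₜ[A] h := nat_injective K hAK (by
    rw [map_smul, nat_tmul, ← comul_incl, he]
    change ϖ ^ Nat.find hP • (Bialgebra.comulAlgHom K (K ⊗[A] H)) (ϖ ^ Nat.find hP • g) = _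
    rw [← AlgHom.restrictScalars_apply A (Bialgebra.comulAlgHom K (K ⊗[A] H)), map_smul,
      AlgHom.restrictScalars_apply, Bialgebra.comulAlgHom_apply, hg.comul_eq_tmul_self,
      TensorProduct.smul_tmul', TensorProduct.smul_tmul', TensorProduct.tmul_smul, TensorProduct.smul_tmul'])
  by_cases hn : Nat.find hP = 0
  · rw [hn, pow_zero] at hε hΔ
    rw [hn, pow_zero, one_smul] at he
    rw [one_smul] at hΔ
    refine ⟨h, he, ?_, ?_⟩
    · rw [counit_incl, hε, map_one]
    · rw [comul_incl, hΔ, nat_tmul]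
  exfalso
  obtain ⟨m, hm⟩ := Nat.exists_eq_succ_of_ne_zero hn
  have hres : algebraMap A k ϖ = 0 := (IsLocalRing.residue_eq_zero_iff ϖ).2
    (hϖ.maximalIdeal_eq ▸ Ideal.mem_span_singleton_self ϖ)
  have hsq : incl (k := A) k h ⊗ₜ[k] incl (k := A) k h = 0 := by
    rw [← nat_tmul, ← hΔ, map_smul, ← algebraMap_smul k, map_pow, hres, hm,
      zero_pow (Nat.succ_ne_zero m), zero_smul]
  have h0 : incl (k := A) k h = 0 := by
    by_contra hne
    obtain ⟨f, hf⟩ : ∃ f : k ⊗[A] H →ₗ[k] k, f (incl (k := A) k h) ≠ 0 := by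
      by_contra hne'
      push Not at hne'
      exact hne ((Module.forall_dual_apply_eq_zero_iff k _).1 hne')
    have := congrArg (slice f) hsq
    rw [slice_tmul, map_zero, smul_eq_zero] at this
    exact this.elim hf hne
  obtain ⟨h', rfl⟩ : ∃ h' : H, ϖ • h' = h := by
    have hex := _root_.rTensor_exact H (f := (IsLocalRing.maximalIdeal A).subtype)
      (g := (Algebra.linearMap A k)) (fun y => ⟨fun hy => ⟨⟨y, (IsLocalRing.residue_eq_zero_iff y).1 hy⟩, rfl⟩,
        fun ⟨z, hz⟩ => hz ▸ (IsLocalRing.residue_eq_zero_iff _).2 z.2⟩) IsLocalRing.residue_surjective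
    obtain ⟨w, hw⟩ := (hex ((1 : A) ⊗ₜ[A] h)).1 (by
      rw [LinearMap.rTensor_tmul, Algebra.linearMap_apply, map_one, ← incl_apply]
      exact h0)
    have hw' := congrArg (TensorProduct.lid A H) hw
    rw [TensorProduct.lid_tmul, one_smul] at hw'
    rw [← hw']
    clear hw hw'
    induction w using TensorProduct.induction_on with
    | zero => exact ⟨0, by simp⟩
    | tmul p q =>
      obtain ⟨c, hc⟩ := Ideal.mem_span_singleton'.1 (le_of_eq hϖ.maximalIdeal_eq p.2)
      refine ⟨c • q, ?_⟩
      rw [← mul_smul, mul_comm, hc, LinearMap.rTensor_tmul, TensorProduct.lid_tmul, Submodule.subtype_apply]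
    | add p q hp hq =>
      obtain ⟨a, ha⟩ := hp
      obtain ⟨b, hb⟩ := hq
      exact ⟨a + b, by rw [map_add, map_add, smul_add, ha, hb]⟩
  refine Nat.find_min hP (show m < Nat.find hP by omega) ⟨h', ?_⟩
  rw [map_smul, hm, pow_succ', mul_smul] at he
  have hϖK : IsUnit (algebraMap A K ϖ) := IsUnit.mk0 _ fun h => hϖ.ne_zero (hAK (h.trans (map_zero _).symm))
  rw [← algebraMap_smul K ϖ, ← algebraMap_smul K ϖ (ϖ ^ m • g)] at he
  exact hϖK.smul_left_cancel.1 he

end Spec

end Groth.Misc1.Unip.Special
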